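import Groth.Prelude.Def_QuadGrp
import Mathlib.LinearAlgebra.Matrix.SesquilinearForm
import Mathlib.LinearAlgebra.QuadraticForm.Basis
import Mathlib.GroupTheory.Perm.Cycle.Type
import Mathlib.Data.Sym.Sym2.Order
import Mathlib.Algebra.CharP.Two
import Mathlib.Algebra.MvPolynomial.Eval
import Mathlib.LinearAlgebra.Determinant
import Mathlib.RingTheory.MvPolynomial.Basic

set_option autoImplicit false

universe u v u'

namespace Groth.Agent.Quad37

section Alternating

variable {ι : Type*} [Fintype ι] [DecidableEq ι] {S : Type u} [CommRing S]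

/-- In characteristic two an alternating matrix of odd size has zero determinant. -/
theorem det_eq_zero_of_alternating_odd [CharP S 2] (h : Odd (Fintype.card ι)) (A : Matrix ι ι S)
    (hs : ∀ i j, A i j = A j i) (hd : ∀ i, A i i = 0) : A.det = 0 := by
  haveI : Fact (Nat.Prime 2) := ⟨Nat.prime_two⟩
  have hinv : ∀ σ : Equiv.Perm ι, ∏ i, A (σ⁻¹ i) i = ∏ i, A (σ i) i := fun σ => by
    rw [← Equiv.prod_comp σ]
    exact Finset.prod_congr rfl fun i _ => by
      rw [show σ⁻¹ (σ i) = i from σ.symm_apply_apply i, hs]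
  rw [Matrix.det_apply]
  refine Finset.sum_involution (fun σ _ => σ⁻¹) ?_ ?_ (fun σ _ => Finset.mem_univ _) (fun σ _ => inv_inv σ)
  · intro σ _
    rw [map_inv, Int.units_inv_eq_self, hinv]
    exact CharTwo.add_self_eq_zero _
  · intro σ _ hne hfix
    refine hne ?_
    have h2 : σ ^ (2 : ℕ) ^ 1 = 1 := by
      rw [pow_one, pow_two]
      nth_rewrite 1 [← hfix]
      exact inv_mul_cancel σ
    obtain ⟨i, hi⟩ := Equiv.Perm.exists_fixed_point_of_prime (p := 2) (n := 1)
      (fun hdvd => Nat.not_even_iff_odd.mpr h (even_iff_two_dvd.mpr hdvd)) h2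
    rw [Finset.prod_eq_zero (Finset.mem_univ i) (by rw [hi, hd]), smul_zero]

end Alternating

section Univ

variable {n : ℕ}

theorem discUniv_eq_two_mul (h : Odd n) : QuadGrp.discUniv n = 2 * QuadGrp.halfDiscUniv n := by
  have hz : MvPolynomial.map (Int.castRingHom (ZMod 2)) (QuadGrp.discUniv n) = 0 := by
    rw [QuadGrp.discUniv, RingHom.map_det]
    refine det_eq_zero_of_alternating_odd (by rwa [Fintype.card_fin]) _ (fun i j => ?_) (fun i => ?_)
    · simp only [RingHom.mapMatrix_apply, Matrix.map_apply, QuadGrp.univPolarMat, Matrix.of_apply]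
      by_cases hij : i = j
      · subst hij; rfl
      · rw [if_neg hij, if_neg (Ne.symm hij), Sym2.eq_swap (a := j)]
    · simp only [RingHom.mapMatrix_apply, Matrix.map_apply, QuadGrp.univPolarMat, Matrix.of_apply, ↓reduceIte,
        map_mul, map_ofNat]
      rw [CharTwo.two_eq_zero (R := MvPolynomial (Sym2 (Fin n)) (ZMod 2)), zero_mul]
  ext s
  have hs := congrArg (MvPolynomial.coeff s) hz
  rw [MvPolynomial.coeff_map, MvPolynomial.coeff_zero, eq_intCast, ZMod.intCast_zmod_eq_zero_iff_dvd] at hs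
  rw [two_mul, MvPolynomial.coeff_add, QuadGrp.coeff_halfDiscUniv]
  push_cast at hs
  omega

end Univ

section Disc

variable {R : Type u} [CommRing R] {M : Type v} [AddCommGroup M] [Module R M] {n : ℕ}

theorem disc_eq_two_mul (h : Odd n) (b : Module.Basis (Fin n) R M) (Q : QuadraticForm R M) :
    QuadGrp.disc b (LinearEquiv.refl R R) Q = 2 * QuadGrp.halfDisc b (LinearEquiv.refl R R) Q := by
  rw [QuadGrp.disc, QuadGrp.halfDisc, discUniv_eq_two_mul h, ← MvPolynomial.coe_eval₂Hom, map_mul,
    map_ofNat]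

theorem disc_eq_det (b : Module.Basis (Fin n) R M) (Q : QuadraticForm R M) :
    QuadGrp.disc b (LinearEquiv.refl R R) Q = (LinearMap.toMatrix₂ b b Q.polarBilin).det := by
  rw [QuadGrp.disc, QuadGrp.discUniv, ← MvPolynomial.coe_eval₂Hom, RingHom.map_det]
  congr 1
  ext i j
  simp only [RingHom.mapMatrix_apply, Matrix.map_apply, QuadGrp.univPolarMat, Matrix.of_apply,
    LinearMap.toMatrix₂_apply, QuadraticMap.polarBilin_apply_apply]
  by_cases hij : i = j
  · subst hij
    rw [if_pos rfl, map_mul, map_ofNat, MvPolynomial.eval₂Hom_X', QuadGrp.coeffs_mk, if_pos rfl,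
      LinearEquiv.refl_apply, QuadraticMap.polar_self, nsmul_eq_mul, Nat.cast_ofNat]
  · rw [if_neg hij, MvPolynomial.eval₂Hom_X', QuadGrp.coeffs_mk, if_neg hij, LinearEquiv.refl_apply]

theorem eval_halfDiscUniv_map {S : Type u'} [CommRing S] (φ : R →+* S) (a : Sym2 (Fin n) → R) :
    φ (MvPolynomial.eval₂ (Int.castRingHom R) a (QuadGrp.halfDiscUniv n)) =
      MvPolynomial.eval₂ (Int.castRingHom S) (fun s => φ (a s)) (QuadGrp.halfDiscUniv n) := by
  rw [MvPolynomial.eval₂_comp_left]
  congr 1
  exact RingHom.ext_int _ _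

theorem halfDisc_congr {M' : Type u'} [AddCommGroup M'] [Module R M'] {b : Module.Basis (Fin n) R M}
    {b' : Module.Basis (Fin n) R M'} {Q : QuadraticForm R M} {Q' : QuadraticForm R M'}
    (h : ∀ i, Q (b i) = Q' (b' i))
    (hp : ∀ i j, i ≠ j → QuadraticMap.polar Q (b i) (b j) = QuadraticMap.polar Q' (b' i) (b' j)) :
    QuadGrp.halfDisc b (LinearEquiv.refl R R) Q = QuadGrp.halfDisc b' (LinearEquiv.refl R R) Q' := by
  rw [QuadGrp.halfDisc, QuadGrp.halfDisc]
  congr 1
  funext s
  induction s using Sym2.ind with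
  | h i j =>
    rw [QuadGrp.coeffs_mk, QuadGrp.coeffs_mk]
    by_cases hij : i = j
    · rw [if_pos hij, if_pos hij, h]
    · rw [if_neg hij, if_neg hij, hp i j hij]

theorem ext_on_basis (b : Module.Basis (Fin n) R M) {Q Q' : QuadraticForm R M}
    (h : ∀ i, Q (b i) = Q' (b i))
    (hp : ∀ i j, i ≠ j → QuadraticMap.polar Q (b i) (b j) = QuadraticMap.polar Q' (b i) (b j)) : Q = Q' := by
  rw [← QuadraticMap.toQuadraticMap_toBilin Q b, ← QuadraticMap.toQuadraticMap_toBilin Q' b]
  congr 1
  refine b.ext fun i => b.ext fun j => ?_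
  simp only [QuadraticMap.toBilin_apply]
  split_ifs with h1 h2
  · exact h i
  · exact hp i j h1
  · rfl

/-- The quadratic form with given coefficients. -/
noncomputable def qf (a : Sym2 (Fin n) → R) : QuadraticForm R (Fin n → R) :=
  ∑ s, a s • QuadraticMap.linMulLin (LinearMap.proj s.inf) (LinearMap.proj s.sup)

theorem qf_apply (a : Sym2 (Fin n) → R) (x : Fin n → R) : qf a x = ∑ s, a s * (x s.inf * x s.sup) := by
  simp [qf]

theorem qf_map {S : Type u'} [CommRing S] (φ : R →+* S) (a : Sym2 (Fin n) → R) (x : Fin n → R) :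
    φ (qf a x) = qf (fun s => φ (a s)) (fun i => φ (x i)) := by
  simp [qf_apply]

theorem polar_qf_map {S : Type u'} [CommRing S] (φ : R →+* S) (a : Sym2 (Fin n) → R) (x y : Fin n → R) :
    φ (QuadraticMap.polar (qf a) x y) =
      QuadraticMap.polar (qf (fun s => φ (a s))) (fun i => φ (x i)) (fun i => φ (y i)) := by
  simp only [QuadraticMap.polar, map_sub, qf_map, Pi.add_apply, map_add]
  rfl

theorem qf_single (a : Sym2 (Fin n) → R) (i : Fin n) : qf a (Pi.single i 1) = a s(i, i) := by
  rw [qf_apply, Finset.sum_eq_single s(i, i)]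
  · simp
  · intro s _ hs
    induction s using Sym2.ind with
    | h k l =>
      simp only [Sym2.inf_mk, Sym2.sup_mk, Pi.single_apply]
      rcases le_total k l with hkl | hkl <;>
        simp only [inf_of_le_left, inf_of_le_right, sup_of_le_left, sup_of_le_right, hkl] <;>
        split_ifs with h1 h2 <;> first | (exact absurd (by subst h1; subst h2; rfl) hs) | simp
  · simp

theorem qf_polar_single (a : Sym2 (Fin n) → R) {i j : Fin n} (hij : i ≠ j) :
    QuadraticMap.polar (qf a) (Pi.single i 1) (Pi.single j 1) = a s(i, j) := by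
  simp only [QuadraticMap.polar, qf_apply, ← Finset.sum_sub_distrib, Pi.add_apply]
  rw [Finset.sum_eq_single s(i, j)]
  · rcases le_total i j with hkl | hkl <;>
      simp [inf_of_le_left, inf_of_le_right, sup_of_le_left, sup_of_le_right, hkl, hij, Ne.symm hij]
  · intro s _ hs
    induction s using Sym2.ind with
    | h k l =>
      simp only [Sym2.inf_mk, Sym2.sup_mk, Pi.single_apply]
      rcases le_total k l with hkl | hkl <;>
        simp only [inf_of_le_left, inf_of_le_right, sup_of_le_left, sup_of_le_right, hkl] <;>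
        split_ifs <;> first | (subst_vars; first | exact absurd rfl hij | exact absurd rfl hs | exact absurd Sym2.eq_swap hs) | simp
  · simp

theorem coeffs_qf (a : Sym2 (Fin n) → R) :
    QuadGrp.coeffs (Pi.basisFun R (Fin n)) (LinearEquiv.refl R R) (qf a) = a := by
  funext s
  induction s using Sym2.ind with
  | h i j =>
    rw [QuadGrp.coeffs_mk]
    simp only [Pi.basisFun_apply, LinearEquiv.refl_apply]
    by_cases hij : i = j
    · subst hij; rw [if_pos rfl, qf_single]
    · rw [if_neg hij, qf_polar_single a hij]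

theorem eq_qf_comp (b : Module.Basis (Fin n) R M) (Q : QuadraticForm R M) :
    Q = (qf (QuadGrp.coeffs b (LinearEquiv.refl R R) Q)).comp b.equivFun.toLinearMap := by
  have e : ∀ i, b.equivFun (b i) = Pi.single i 1 := fun i => by
    funext j; simp [Module.Basis.equivFun_self, Pi.single_apply, eq_comm]
  refine ext_on_basis b (fun i => ?_) (fun i j hij => ?_)
  · rw [QuadraticMap.comp_apply, LinearEquiv.coe_coe, e, qf_single, QuadGrp.coeffs_mk, if_pos rfl]; rfl
  · simp only [QuadraticMap.polar, QuadraticMap.comp_apply, map_add, LinearEquiv.coe_coe, e]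
    exact (by rw [QuadGrp.coeffs_mk, if_neg hij]; rfl : QuadraticMap.polar Q (b i) (b j) =
      QuadGrp.coeffs b (LinearEquiv.refl R R) Q s(i, j)).trans (qf_polar_single _ hij).symm

theorem disc_comp (b : Module.Basis (Fin n) R M) (Q : QuadraticForm R M) (g : M →ₗ[R] M) :
    QuadGrp.disc b (LinearEquiv.refl R R) (Q.comp g) =
      LinearMap.det g ^ 2 * QuadGrp.disc b (LinearEquiv.refl R R) Q := by
  have hp : (Q.comp g).polarBilin = Q.polarBilin.compl₁₂ g g := by
    ext x y; simp [QuadraticMap.polar, map_add]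
  rw [disc_eq_det, disc_eq_det, hp, LinearMap.toMatrix₂_compl₁₂ b b b b, Matrix.det_mul, Matrix.det_mul,
    Matrix.det_transpose, LinearMap.det_toMatrix]
  ring

/-- The coefficients of a composite. -/
noncomputable def compCoeffs (a : Sym2 (Fin n) → R) (G : Matrix (Fin n) (Fin n) R) : Sym2 (Fin n) → R :=
  QuadGrp.coeffs (Pi.basisFun R (Fin n)) (LinearEquiv.refl R R) ((qf a).comp (Matrix.toLin' G))

theorem compCoeffs_map {S : Type u'} [CommRing S] (φ : R →+* S) (a : Sym2 (Fin n) → R)
    (G : Matrix (Fin n) (Fin n) R) (s : Sym2 (Fin n)) :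
    φ (compCoeffs a G s) = compCoeffs (fun t => φ (a t)) (G.map φ) s := by
  have e : ∀ i : Fin n, (fun k => φ (Matrix.toLin' G (Pi.single i 1) k)) =
      Matrix.toLin' (G.map φ) (Pi.single i 1) := fun i => by
    funext k; simp [Matrix.mulVec_single_one]
  induction s using Sym2.ind with
  | h i j =>
    simp only [compCoeffs, QuadGrp.coeffs_mk, Pi.basisFun_apply, LinearEquiv.refl_apply]
    split_ifs with hij
    · rw [QuadraticMap.comp_apply, QuadraticMap.comp_apply, qf_map, e]
    · simp only [QuadraticMap.polar, QuadraticMap.comp_apply, map_add]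
      rw [map_sub, map_sub, qf_map, qf_map, qf_map, e, e,
        show (fun k => φ ((Matrix.toLin' G (Pi.single i 1) + Matrix.toLin' G (Pi.single j 1)) k)) =
          Matrix.toLin' (G.map φ) (Pi.single i 1) + Matrix.toLin' (G.map φ) (Pi.single j 1) by
          rw [← e i, ← e j]; funext k; simp]

theorem halfDisc_qf_comp (h : Odd n) (a : Sym2 (Fin n) → R) (G : Matrix (Fin n) (Fin n) R) :
    MvPolynomial.eval₂ (Int.castRingHom R) (compCoeffs a G) (QuadGrp.halfDiscUniv n) =
      G.det ^ 2 * MvPolynomial.eval₂ (Int.castRingHom R) a (QuadGrp.halfDiscUniv n) := by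
  let S := MvPolynomial (Sym2 (Fin n) ⊕ (Fin n × Fin n)) ℤ
  let a₀ : Sym2 (Fin n) → S := fun s => MvPolynomial.X (Sum.inl s)
  let G₀ : Matrix (Fin n) (Fin n) S := Matrix.of fun i j => MvPolynomial.X (Sum.inr (i, j))
  let φ : S →+* R := MvPolynomial.eval₂Hom (Int.castRingHom R) (Sum.elim a fun p => G p.1 p.2)
  have key : MvPolynomial.eval₂ (Int.castRingHom S) (compCoeffs a₀ G₀) (QuadGrp.halfDiscUniv n) =
      G₀.det ^ 2 * MvPolynomial.eval₂ (Int.castRingHom S) a₀ (QuadGrp.halfDiscUniv n) := by
    have hd := disc_comp (Pi.basisFun S (Fin n)) (qf a₀) (Matrix.toLin' G₀)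
    rw [disc_eq_two_mul h, disc_eq_two_mul h, LinearMap.det_toLin'] at hd
    simp only [QuadGrp.halfDisc, coeffs_qf] at hd
    rw [mul_left_comm] at hd
    exact mul_left_cancel₀ (fun h2 => absurd (congrArg MvPolynomial.constantCoeff h2) (by simp [map_ofNat])) hd
  have := congrArg φ key
  rw [eval_halfDiscUniv_map, map_mul, map_pow, RingHom.map_det, eval_halfDiscUniv_map] at this
  have ha : (fun s => φ (a₀ s)) = a := funext fun s => MvPolynomial.eval₂Hom_X' _ _ _
  have hG : G₀.map φ = G := Matrix.ext fun i j => MvPolynomial.eval₂Hom_X' _ _ _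
  have hc : (fun s => φ (compCoeffs a₀ G₀ s)) = compCoeffs a G := funext fun s => by
    rw [compCoeffs_map, ha, hG]
  rw [hc, ha, RingHom.mapMatrix_apply, hG] at this
  exact this

/-- The half discriminant of a composite. -/
theorem halfDisc_comp (h : Odd n) (b : Module.Basis (Fin n) R M) (Q : QuadraticForm R M) (g : M →ₗ[R] M) :
    QuadGrp.halfDisc b (LinearEquiv.refl R R) (Q.comp g) =
      LinearMap.det g ^ 2 * QuadGrp.halfDisc b (LinearEquiv.refl R R) Q := by
  have key := halfDisc_qf_comp h (QuadGrp.coeffs b (LinearEquiv.refl R R) Q) (LinearMap.toMatrix b b g)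
  rw [LinearMap.det_toMatrix] at key
  have e : ∀ x, b.equivFun (g x) = Matrix.toLin' (LinearMap.toMatrix b b g) (b.equivFun x) := fun x => by
    rw [Matrix.toLin'_apply, Module.Basis.equivFun_apply, Module.Basis.equivFun_apply, LinearMap.toMatrix_mulVec_repr]
  have eb : ∀ i, b.equivFun (b i) = Pi.single i 1 := fun i => by
    funext j; simp [Module.Basis.equivFun_self, Pi.single_apply, eq_comm]
  have hQ : ∀ x, Q (g x) = ((qf (QuadGrp.coeffs b (LinearEquiv.refl R R) Q)).comp
      (Matrix.toLin' (LinearMap.toMatrix b b g))) (b.equivFun x) := fun x => by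
    conv_lhs => rw [eq_qf_comp b Q]
    rw [QuadraticMap.comp_apply, QuadraticMap.comp_apply, LinearEquiv.coe_coe, e]
  rw [halfDisc_congr (b' := Pi.basisFun R (Fin n))
    (Q' := (qf (QuadGrp.coeffs b (LinearEquiv.refl R R) Q)).comp (Matrix.toLin' (LinearMap.toMatrix b b g)))
    (fun i => by rw [QuadraticMap.comp_apply, hQ, eb, Pi.basisFun_apply])
    (fun i j _ => by
      simp only [QuadraticMap.polar]
      rw [Pi.basisFun_apply, Pi.basisFun_apply, ← eb i, ← eb j, ← map_add b.equivFun, ← hQ, ← hQ, ← hQ]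
      rfl)]
  exact key

end Disc

end Groth.Agent.Quad37
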