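import Groth.Prelude.Def_QuadGrp2
import Mathlib.AlgebraicGeometry.Morphisms.Smooth
import Mathlib.AlgebraicGeometry.Morphisms.Flat
import Mathlib.AlgebraicGeometry.Morphisms.Affine
import Mathlib.RingTheory.Smooth.Basic
import Mathlib.RingTheory.Flat.Basic

/-! Affine representability: an `R`-scheme whose affine points are `Hom(A0, -)` is `Spec A0`. -/

universe u

open CategoryTheory AlgebraicGeometry Limits

namespace Groth.Agent.Quad37

variable {R : Type u} [CommRing R] {G : Over (Spec (CommRingCat.of R))} {A0 : Type u} [CommRing A0] [Algebra R A0]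
  (Φ : ∀ (A : Type u) [CommRing A] [Algebra R A], (QuadGrp.specOver R A ⟶ G) ≃ (A0 →ₐ[R] A))
  (hΦ : ∀ (A B : Type u) [CommRing A] [Algebra R A] [CommRing B] [Algebra R B] (φ : A →ₐ[R] B)
    (y : QuadGrp.specOver R A ⟶ G), Φ B (QuadGrp.specOverMap R φ ≫ y) = φ.comp (Φ A y))

/-- The universal point. -/
noncomputable def univPt : QuadGrp.specOver R A0 ⟶ G := (Φ A0).symm (AlgHom.id R A0)

include hΦ in
theorem eq_map_univPt (A : Type u) [CommRing A] [Algebra R A] (y : QuadGrp.specOver R A ⟶ G) :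
    QuadGrp.specOverMap R (Φ A y) ≫ univPt Φ = y := by
  apply (Φ A).injective
  rw [hΦ, univPt, Equiv.apply_symm_apply, AlgHom.comp_id]

/-- The universal point as a map of schemes. -/
noncomputable def uS : Spec (CommRingCat.of A0) ⟶ G.left := (univPt Φ).left

theorem uS_w : uS Φ ≫ G.hom = Spec.map (CommRingCat.ofHom (algebraMap R A0)) := Over.w (univPt Φ)

include hΦ in
theorem cancel_uS (B : CommRingCat.{u}) (a b : CommRingCat.of A0 ⟶ B)
    (e : Spec.map a ≫ uS Φ = Spec.map b ≫ uS Φ) : a = b := by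
  have hab : CommRingCat.ofHom (algebraMap R A0) ≫ a = CommRingCat.ofHom (algebraMap R A0) ≫ b := by
    apply Spec.map_injective
    rw [Spec.map_comp, Spec.map_comp, ← uS_w Φ, ← Category.assoc, ← Category.assoc, e]
  letI : Algebra R B := (CommRingCat.ofHom (algebraMap R A0) ≫ a).hom.toAlgebra
  let α : A0 →ₐ[R] B := { a.hom with commutes' := fun r => rfl }
  let β : A0 →ₐ[R] B := { b.hom with commutes' := fun r =>
    (RingHom.congr_fun (congrArg CommRingCat.Hom.hom hab) r).symm }
  have h2 : QuadGrp.specOverMap R α ≫ univPt Φ = QuadGrp.specOverMap R β ≫ univPt Φ := Over.OverMorphism.ext e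
  have h3 := congrArg (Φ B) h2
  rw [hΦ, hΦ, univPt, Equiv.apply_symm_apply, AlgHom.comp_id, AlgHom.comp_id] at h3
  exact CommRingCat.hom_ext (congrArg AlgHom.toRingHom h3)

include hΦ in
theorem mono_uS : Mono (uS Φ) := by
  refine ⟨fun {W} g h e => ?_⟩
  refine Scheme.Cover.hom_ext W.affineOpenCover.openCover g h fun i => ?_
  obtain ⟨a, ha⟩ : ∃ a, W.affineOpenCover.f i ≫ g = Spec.map a := ⟨_, (Spec.map_preimage _).symm⟩
  obtain ⟨b, hb⟩ : ∃ b, W.affineOpenCover.f i ≫ h = Spec.map b := ⟨_, (Spec.map_preimage _).symm⟩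
  change W.affineOpenCover.f i ≫ g = W.affineOpenCover.f i ≫ h
  rw [ha, hb, cancel_uS Φ hΦ _ a b (by rw [← ha, ← hb, Category.assoc, Category.assoc, e])]

include hΦ in
theorem exists_local_inverse (B : CommRingCat.{u}) (f : Spec B ⟶ G.left) :
    ∃ v : Spec B ⟶ Spec (CommRingCat.of A0), v ≫ uS Φ = f := by
  obtain ⟨c, hc⟩ : ∃ c, f ≫ G.hom = Spec.map c := ⟨_, (Spec.map_preimage _).symm⟩
  letI : Algebra R B := c.hom.toAlgebra
  let y : QuadGrp.specOver R B ⟶ G := Over.homMk f hc
  exact ⟨Spec.map (CommRingCat.ofHom (Φ B y).toRingHom),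
    congrArg (fun t => t.left) (eq_map_univPt Φ hΦ B y)⟩

include hΦ in
theorem isIso_uS : IsIso (uS Φ) := by
  haveI := mono_uS Φ hΦ
  let 𝒰 := G.left.affineOpenCover.openCover
  have hex : ∀ i : 𝒰.I₀, ∃ v : 𝒰.X i ⟶ Spec (CommRingCat.of A0), v ≫ uS Φ = 𝒰.f i :=
    fun i => exists_local_inverse Φ hΦ (G.left.affineOpenCover.X i) (G.left.affineOpenCover.f i)
  choose v hv using hex
  let w : G.left ⟶ Spec (CommRingCat.of A0) := Scheme.Cover.glueMorphisms 𝒰 v fun i j => by
    rw [← cancel_mono (uS Φ), Category.assoc, Category.assoc, hv, hv]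
    exact pullback.condition
  have hw : w ≫ uS Φ = 𝟙 G.left := Scheme.Cover.hom_ext 𝒰 _ _ fun i => by
    change 𝒰.f i ≫ w ≫ uS Φ = _
    rw [← Category.assoc, Scheme.Cover.ι_glueMorphisms, Category.comp_id]
    exact hv i
  exact ⟨w, by rw [← cancel_mono (uS Φ), Category.assoc, hw, Category.comp_id, Category.id_comp], hw⟩

include hΦ in
theorem hom_eq : G.hom = (@inv _ _ _ _ (uS Φ) (isIso_uS Φ hΦ)) ≫ Spec.map (CommRingCat.ofHom (algebraMap R A0)) := by
  haveI := isIso_uS Φ hΦ
  rw [← uS_w Φ, IsIso.inv_hom_id_assoc]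

include hΦ in
theorem smooth_iff : Smooth G.hom ↔ Algebra.Smooth R A0 := by
  haveI := isIso_uS Φ hΦ
  rw [← RingHom.smooth_algebraMap, ← CommRingCat.hom_ofHom (algebraMap R A0),
    ← HasRingHomProperty.Spec_iff (P := @Smooth)]
  refine ⟨fun h => ?_, fun h => ?_⟩
  · rw [← uS_w Φ]; infer_instance
  · rw [hom_eq Φ hΦ]; infer_instance

include hΦ in
theorem flat_iff : Flat G.hom ↔ Module.Flat R A0 := by
  haveI := isIso_uS Φ hΦ
  rw [← RingHom.flat_algebraMap_iff, ← CommRingCat.hom_ofHom (algebraMap R A0),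
    ← HasRingHomProperty.Spec_iff (P := @Flat)]
  refine ⟨fun h => ?_, fun h => ?_⟩
  · rw [← uS_w Φ]; infer_instance
  · rw [hom_eq Φ hΦ]; infer_instance

include hΦ in
theorem isAffineHom : IsAffineHom G.hom := by
  haveI := isIso_uS Φ hΦ
  rw [hom_eq Φ hΦ]
  infer_instance

include hΦ in
theorem isReduced [_root_.IsReduced A0] : AlgebraicGeometry.IsReduced G.left := by
  haveI := isIso_uS Φ hΦ
  exact isReduced_of_isOpenImmersion (inv (uS Φ))

section presentation

variable (R G)

/-- A presentation of the affine points of `G` as the zero locus of a natural map `A^σ → A^ι`. -/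
structure Presentation where
  σ : Type
  ι : Type
  [finσ : Finite σ]
  [finι : Finite ι]
  F : ∀ (A : Type u) [CommRing A] [Algebra R A], (σ → A) → ι → A
  F_nat : ∀ (A B : Type u) [CommRing A] [Algebra R A] [CommRing B] [Algebra R B] (φ : A →ₐ[R] B) (x : σ → A) (i : ι),
    φ (F A x i) = F B (φ ∘ x) i
  e : ∀ (A : Type u) [CommRing A] [Algebra R A], (QuadGrp.specOver R A ⟶ G) ≃ {x : σ → A // F A x = 0}
  e_nat : ∀ (A B : Type u) [CommRing A] [Algebra R A] [CommRing B] [Algebra R B] (φ : A →ₐ[R] B)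
    (y : QuadGrp.specOver R A ⟶ G), (e B (QuadGrp.specOverMap R φ ≫ y)).1 = φ ∘ (e A y).1

variable {R G} (P : Presentation R G)

/-- The ideal of relations. -/
noncomputable def Presentation.rel : Ideal (MvPolynomial P.σ R) :=
  Ideal.span (Set.range (P.F (MvPolynomial P.σ R) MvPolynomial.X))

/-- The coordinate ring. -/
abbrev Presentation.Ring : Type u := MvPolynomial P.σ R ⧸ P.rel

instance : Algebra.FinitePresentation R P.Ring := by
  haveI := P.finσ; haveI := P.finι
  exact Algebra.FinitePresentation.quotient (Submodule.fg_span (Set.finite_range _))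

/-- Points of the coordinate ring. -/
noncomputable def Presentation.homEquiv (A : Type u) [CommRing A] [Algebra R A] :
    {x : P.σ → A // P.F A x = 0} ≃ (P.Ring →ₐ[R] A) where
  toFun x := Ideal.Quotient.liftₐ P.rel (MvPolynomial.aeval x.1) fun a ha => by
    refine (Ideal.span_le.mpr ?_ : P.rel ≤ RingHom.ker (MvPolynomial.aeval x.1)) ha
    rintro _ ⟨i, rfl⟩
    rw [SetLike.mem_coe, RingHom.mem_ker, P.F_nat _ _ (MvPolynomial.aeval x.1) MvPolynomial.X i]
    rw [show (MvPolynomial.aeval x.1 ∘ MvPolynomial.X) = x.1 from funext fun s => MvPolynomial.aeval_X x.1 s]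
    exact congrFun x.2 i
  invFun φ := ⟨fun s => φ (Ideal.Quotient.mk _ (MvPolynomial.X s)), funext fun i => by
    have := P.F_nat _ _ (φ.comp (Ideal.Quotient.mkₐ R P.rel)) MvPolynomial.X i
    refine this.symm.trans ?_
    rw [AlgHom.comp_apply, Ideal.Quotient.mkₐ_eq_mk, Pi.zero_apply,
      Ideal.Quotient.eq_zero_iff_mem.mpr (show _ ∈ P.rel from Ideal.subset_span (Set.mem_range_self i)), map_zero]⟩
  left_inv x := Subtype.ext <| funext fun s => MvPolynomial.aeval_X x.1 s
  right_inv φ := by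
    apply Ideal.Quotient.algHom_ext
    apply MvPolynomial.algHom_ext
    intro s
    exact MvPolynomial.aeval_X (fun t => φ (Ideal.Quotient.mk P.rel (MvPolynomial.X t))) s

/-- The affine points of `G` as algebra maps out of the coordinate ring. -/
noncomputable def Presentation.toHom (A : Type u) [CommRing A] [Algebra R A] :
    (QuadGrp.specOver R A ⟶ G) ≃ (P.Ring →ₐ[R] A) := (P.e A).trans (P.homEquiv A)

theorem Presentation.toHom_nat (A B : Type u) [CommRing A] [Algebra R A] [CommRing B] [Algebra R B] (φ : A →ₐ[R] B)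
    (y : QuadGrp.specOver R A ⟶ G) : P.toHom B (QuadGrp.specOverMap R φ ≫ y) = φ.comp (P.toHom A y) := by
  apply (P.homEquiv B).symm.injective
  rw [Presentation.toHom, Equiv.trans_apply, Equiv.symm_apply_apply]
  refine Subtype.ext ((P.e_nat A B φ y).trans (funext fun s => congrArg φ ?_))
  exact (MvPolynomial.aeval_X (P.e A y).1 s).symm

theorem Presentation.isAffineHom (P : Presentation R G) : IsAffineHom G.hom :=
  Quad37.isAffineHom P.toHom P.toHom_nat

/-- Smoothness by lifting of the zeros along square-zero ideals. -/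
theorem Presentation.smooth (P : Presentation R G)
    (h : ∀ (A : Type u) [CommRing A] [Algebra R A] (I : Ideal A), I ^ 2 = ⊥ → ∀ y : P.σ → A,
      (∀ i, P.F A y i ∈ I) → ∃ x : P.σ → A, (∀ s, x s - y s ∈ I) ∧ P.F A x = 0) :
    Smooth G.hom := by
  rw [Quad37.smooth_iff P.toHom P.toHom_nat]
  refine { formallySmooth := Algebra.FormallySmooth.of_comp_surjective fun B _ _ I hI f => ?_ }
  obtain ⟨⟨xb, hxb⟩, rfl⟩ := (P.homEquiv _).surjective f
  choose y hy using fun s => Ideal.Quotient.mk_surjective (xb s)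
  have hF : ∀ i, P.F B y i ∈ I := fun i => by
    rw [← Ideal.Quotient.eq_zero_iff_mem]
    refine (P.F_nat B _ (Ideal.Quotient.mkₐ R I) y i).trans ?_
    rw [show (Ideal.Quotient.mkₐ R I ∘ y) = xb from funext hy, hxb]
    rfl
  obtain ⟨x, hx, hx0⟩ := h B I hI y hF
  refine ⟨P.homEquiv B ⟨x, hx0⟩, ?_⟩
  apply (P.homEquiv _).symm.injective
  rw [Equiv.symm_apply_apply]
  refine Subtype.ext (funext fun s => ?_)
  change Ideal.Quotient.mk I (MvPolynomial.aeval x (MvPolynomial.X s)) = xb s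
  rw [MvPolynomial.aeval_X, ← hy s, Ideal.Quotient.eq]
  exact hx s

/-- If `G` is smooth then points lift along square-zero ideals. -/
theorem Presentation.lift_of_smooth (P : Presentation R G) (hG : Smooth G.hom)
    (A : Type u) [CommRing A] [Algebra R A] (I : Ideal A) (hI : I ^ 2 = ⊥) (y : P.σ → A)
    (hy : ∀ i, P.F A y i ∈ I) : ∃ x : P.σ → A, (∀ s, x s - y s ∈ I) ∧ P.F A x = 0 := by
  haveI := (Quad37.smooth_iff P.toHom P.toHom_nat).mp hG
  have hz : P.F (A ⧸ I) (Ideal.Quotient.mkₐ R I ∘ y) = 0 := funext fun i => by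
    rw [← P.F_nat]
    exact Ideal.Quotient.eq_zero_iff_mem.mpr (hy i)
  obtain ⟨f, hf⟩ := Algebra.FormallySmooth.comp_surjective R P.Ring I hI (P.homEquiv _ ⟨_, hz⟩)
  refine ⟨((P.homEquiv A).symm f).1, fun s => ?_, ((P.homEquiv A).symm f).2⟩
  rw [← Ideal.Quotient.eq]
  refine (DFunLike.congr_fun hf (Ideal.Quotient.mk _ (MvPolynomial.X s))).trans ?_
  exact MvPolynomial.aeval_X (Ideal.Quotient.mkₐ R I ∘ y) s

end presentation

end Groth.Agent.Quad37
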