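import Groth.Agent.Quad37.Filt
import Mathlib.LinearAlgebra.Basis.Defs
import Mathlib.LinearAlgebra.Multilinear.Basic
import Mathlib.LinearAlgebra.Alternating.Basic
import Mathlib.LinearAlgebra.Determinant
import Mathlib.Data.Fintype.Powerset
import Mathlib.LinearAlgebra.FreeModule.Basic
import Mathlib.RingTheory.Finiteness.Basic

set_option autoImplicit false

universe u v

namespace Groth.Agent.Quad37

open CliffordAlgebra

variable {R : Type u} [CommRing R] {M : Type v} [AddCommGroup M] [Module R M] {n : ℕ}
  (Q : QuadraticForm R M) (b : Module.Basis (Fin n) R M)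

/-- Contraction by the i-th coordinate. -/
noncomputable def aC (i : Fin n) : CliffordAlgebra Q →ₗ[R] CliffordAlgebra Q := contractLeft (b.coord i)

/-- Left multiplication by the i-th basis vector. -/
noncomputable def bC (i : Fin n) : CliffordAlgebra Q →ₗ[R] CliffordAlgebra Q :=
  LinearMap.mulLeft R (ι Q (b i))

theorem isCAR_C : IsCAR (aC Q b) (bC Q b) where
  sq i x := contractLeft_contractLeft _ x
  anti i j x := contractLeft_comm _ _ x
  rel i j x := by
    simp only [aC, bC, LinearMap.mulLeft_apply, contractLeft_ι_mul, sub_add_cancel]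
    rw [b.coord_apply, b.repr_self, Finsupp.single_apply]
    by_cases hij : i = j
    · subst hij; simp
    · rw [if_neg (Ne.symm hij), if_neg hij, zero_smul]

theorem contractLeft_eq_sum (d : Module.Dual R M) (x : CliffordAlgebra Q) :
    contractLeft d x = ∑ i, d (b i) • aC Q b i x := by
  conv_lhs => rw [← b.sum_dual_apply_smul_coord d, map_sum, LinearMap.sum_apply]
  simp [aC]

theorem exterior_ker_eq_scalar {x : ExteriorAlgebra R M}
    (hx : ∀ i, aC (0 : QuadraticForm R M) b i x = 0) :
    x = algebraMap R (CliffordAlgebra (0 : QuadraticForm R M)) (ExteriorAlgebra.algebraMapInv x) := by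
  set a := aC (0 : QuadraticForm R M) b
  set e := bC (0 : QuadraticForm R M) b
  have hcar := isCAR_C (0 : QuadraticForm R M) b
  have hbb : ∀ i j y, e i (e j y) = -e j (e i y) := fun i j y => by
    simp only [e, bC, LinearMap.mulLeft_apply, eq_neg_iff_add_eq_zero, ← mul_assoc, ← add_mul]
    rw [show ι (0 : QuadraticForm R M) (b i) * ι 0 (b j) + ι 0 (b j) * ι 0 (b i) = 0 by
      rw [ι_mul_ι_add_swap]; simp [QuadraticMap.polar], zero_mul]
  have key : ∀ y : CliffordAlgebra (0 : QuadraticForm R M),
      projK a e y = algebraMap R _ (ExteriorAlgebra.algebraMapInv y) := by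
    intro y
    induction y using CliffordAlgebra.left_induction with
    | algebraMap r =>
      rw [hcar.projK_of_ker fun i => show a i (algebraMap R _ r) = 0 by simp [a, aC]]
      exact (congrArg _ (ExteriorAlgebra.algebraMap_leftInverse M r)).symm
    | add y z hy hz => rw [map_add, hy, hz, map_add, map_add]
    | ι_mul y v _ =>
      have h0 : ExteriorAlgebra.algebraMapInv (ι (0 : QuadraticForm R M) v * y) = 0 := by
        rw [map_mul]
        have : ExteriorAlgebra.algebraMapInv (ι (0 : QuadraticForm R M) v) = 0 :=
          ExteriorAlgebra.lift_ι_apply _ _ _ _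
        rw [this, zero_mul]
      rw [h0, map_zero, ← b.sum_repr v, map_sum, Finset.sum_mul, map_sum]
      refine Finset.sum_eq_zero fun j _ => ?_
      rw [map_smul, smul_mul_assoc, map_smul]
      have hj : projK a e (e j y) = 0 := by
        rw [projK, ← hcar.projL_P hbb (List.mem_finRange j)]
        simp only [e, bC, LinearMap.mulLeft_apply, ← mul_assoc, ι_sq_scalar]
        simp
      rw [show ι (0 : QuadraticForm R M) (b j) * y = e j y from rfl, hj, smul_zero]
  rw [← key x, hcar.projK_of_ker hx]

theorem toExt_proof : (-(Q.toBilin b)).toQuadraticMap = (0 : QuadraticForm R M) - Q := by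
  rw [zero_sub]
  ext x
  have h := congrArg (fun q : QuadraticForm R M => q x) (QuadraticMap.toQuadraticMap_toBilin Q b)
  simp only [LinearMap.BilinMap.toQuadraticMap_apply] at h
  simp [h]

/-- The linear identification with the exterior algebra. -/
noncomputable def toExt : CliffordAlgebra Q ≃ₗ[R] CliffordAlgebra (0 : QuadraticForm R M) :=
  changeFormEquiv (toExt_proof Q b)

theorem toExt_contractLeft (d : Module.Dual R M) (x : CliffordAlgebra Q) :
    toExt Q b (contractLeft d x) = contractLeft d (toExt Q b x) :=
  changeForm_contractLeft (toExt_proof Q b) d x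

/-- The scalar part. -/
noncomputable def scal : CliffordAlgebra Q →ₗ[R] R :=
  ExteriorAlgebra.algebraMapInv.toLinearMap.comp (toExt Q b).toLinearMap

@[simp] theorem scal_algebraMap (r : R) : scal Q b (algebraMap R _ r) = r := by
  simp only [scal, LinearMap.comp_apply, LinearEquiv.coe_coe, toExt, changeFormEquiv_apply,
    changeForm_algebraMap, AlgHom.toLinearMap_apply]
  exact ExteriorAlgebra.algebraMap_leftInverse M r

@[simp] theorem scal_one : scal Q b 1 = 1 := by rw [← map_one (algebraMap R (CliffordAlgebra Q)), scal_algebraMap]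

include b in
theorem algebraMap_injective : Function.Injective (algebraMap R (CliffordAlgebra Q)) :=
  fun r s h => by simpa using congrArg (scal Q b) h

include b in
theorem ι_injective : Function.Injective (ι Q) := by
  intro v w h
  apply b.ext_elem
  intro i
  have := congrArg (fun y => scal Q b (aC Q b i y)) h
  simpa [aC] using this

/-- Joint kernel of the contractions = scalars. -/
theorem eq_scal_of_ker {x : CliffordAlgebra Q} (hx : ∀ i, aC Q b i x = 0) :
    x = algebraMap R _ (scal Q b x) := by
  have h : ∀ i, aC (0 : QuadraticForm R M) b i (toExt Q b x) = 0 := fun i => by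
    simp only [aC, ← toExt_contractLeft]
    rw [show contractLeft (b.coord i) x = 0 from hx i, map_zero]
  apply (toExt Q b).injective
  refine (exterior_ker_eq_scalar b h).trans ?_
  simp only [toExt, changeFormEquiv_apply, changeForm_algebraMap]
  rfl

theorem eq_scal_of_contractLeft {x : CliffordAlgebra Q} (hx : ∀ d : Module.Dual R M, contractLeft d x = 0) :
    x = algebraMap R _ (scal Q b x) := eq_scal_of_ker Q b fun _ => hx _

/-- Ordered monomial. -/
noncomputable def mono (l : List (Fin n)) : CliffordAlgebra Q := (l.map fun i => ι Q (b i)).prod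

@[simp] theorem mono_nil : mono Q b [] = 1 := rfl

@[simp] theorem mono_cons (i : Fin n) (l : List (Fin n)) : mono Q b (i :: l) = ι Q (b i) * mono Q b l := by
  simp [mono]

theorem aC_mono_notMem {i : Fin n} : ∀ {l : List (Fin n)}, i ∉ l → aC Q b i (mono Q b l) = 0
  | [], _ => by simp [aC, mono]
  | j :: l, h => by
    rw [mono_cons, aC, contractLeft_ι_mul]
    rw [List.mem_cons, not_or] at h
    have := aC_mono_notMem (l := l) h.2
    rw [aC] at this
    simp [this, Ne.symm h.1]

theorem annL_mono_self : ∀ {l : List (Fin n)}, l.Nodup → annL (aC Q b) l (mono Q b l) = 1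
  | [], _ => rfl
  | i :: l, h => by
    rw [List.nodup_cons] at h
    have h0 := aC_mono_notMem Q b h.1
    simp only [aC] at h0
    simp only [annL, LinearMap.comp_apply, mono_cons]
    rw [show aC Q b i (ι Q (b i) * mono Q b l) = mono Q b l by
      simp [aC, contractLeft_ι_mul, h0]]
    exact annL_mono_self h.2

/-- Sorted list of a finite set of indices. -/
def setList (S : Finset (Fin n)) : List (Fin n) := (List.finRange n).filter fun i => decide (i ∈ S)

theorem mem_setList {S : Finset (Fin n)} {i : Fin n} : i ∈ setList S ↔ i ∈ S := by simp [setList]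

theorem setList_nodup (S : Finset (Fin n)) : (setList S).Nodup := (List.nodup_finRange n).filter _

theorem span_mono (x : CliffordAlgebra Q) :
    x ∈ Submodule.span R (Set.range fun S => mono Q b (setList S)) := by
  classical
  set G : List (Fin n) → Submodule R (CliffordAlgebra Q) := fun l =>
    Submodule.span R (Set.range fun S : {S : Finset (Fin n) // ∀ i ∈ S, i ∈ l} =>
      mono Q b (l.filter fun i => decide (i ∈ S.1))) with hG
  have h := (isCAR_C Q b).mem_of_ker_list G ?_ ?_ (List.finRange n) (List.nodup_finRange n) x
    (fun i hi => absurd (List.mem_finRange i) hi)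
  · refine Submodule.span_mono ?_ h
    rintro _ ⟨S, rfl⟩
    exact ⟨S.1, rfl⟩
  · intro y hy
    rw [eq_scal_of_ker Q b hy, Algebra.algebraMap_eq_smul_one]
    exact Submodule.smul_mem _ _ (Submodule.subset_span ⟨⟨∅, by simp⟩, rfl⟩)
  · intro i l hil
    have hfil : ∀ S : Finset (Fin n), (∀ j ∈ S, j ∈ l) →
        (i :: l).filter (fun j => decide (j ∈ S)) = l.filter (fun j => decide (j ∈ S)) ∧
        (i :: l).filter (fun j => decide (j ∈ insert i S)) = i :: l.filter (fun j => decide (j ∈ S)) := by
      intro S hS
      refine ⟨?_, ?_⟩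
      · rw [List.filter_cons, if_neg]
        simpa using fun h => hil (hS i h)
      · rw [List.filter_cons, if_pos (by simp)]
        congr 1
        refine List.filter_congr fun j hj => ?_
        have : j ≠ i := fun h => hil (h ▸ hj)
        simp [this]
    constructor
    · refine Submodule.span_le.mpr ?_
      rintro _ ⟨⟨S, hS⟩, rfl⟩
      refine Submodule.subset_span ⟨⟨S, fun j hj => List.mem_cons_of_mem _ (hS j hj)⟩, ?_⟩
      simp only [(hfil S hS).1]
    · intro y hy
      refine (Submodule.span_le (p := (G (i :: l)).comap (bC Q b i))).mpr ?_ hy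
      rintro _ ⟨⟨S, hS⟩, rfl⟩
      refine Submodule.subset_span ⟨⟨insert i S, fun j hj => ?_⟩, ?_⟩
      · rcases Finset.mem_insert.mp hj with rfl | hj
        · exact List.mem_cons_self ..
        · exact List.mem_cons_of_mem _ (hS j hj)
      · simp only [(hfil S hS).2, mono_cons]
        rfl

theorem mono_linearIndependent : LinearIndependent R fun S => mono Q b (setList S) := by
  classical
  rw [Fintype.linearIndependent_iff]
  intro g hg
  by_contra hne
  push Not at hne
  set F := Finset.univ.filter fun S => g S ≠ 0 with hF
  obtain ⟨T, hTF, hmax⟩ := F.exists_max_image Finset.card (by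
    obtain ⟨T, hT⟩ := hne
    exact ⟨T, Finset.mem_filter.mpr ⟨Finset.mem_univ _, hT⟩⟩)
  have hT : g T ≠ 0 := (Finset.mem_filter.mp hTF).2
  apply hT
  have h := congrArg (fun y => scal Q b (annL (aC Q b) (setList T) y)) hg
  simp only [map_sum, map_smul, map_zero, smul_eq_mul] at h
  rw [Finset.sum_eq_single T] at h
  · rwa [annL_mono_self Q b (setList_nodup T), scal_one, mul_one] at h
  · intro S _ hST
    by_cases hgS : g S = 0
    · rw [hgS, zero_mul]
    obtain ⟨t, ht, htS⟩ : ∃ t ∈ T, t ∉ S := by
      by_contra hc
      push Not at hc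
      exact hST (Finset.eq_of_subset_of_card_le hc (hmax S (by simp [hF, hgS]))).symm
    rw [(isCAR_C Q b).ann_kills (mem_setList.mpr ht) (aC_mono_notMem Q b (fun h => htS (mem_setList.mp h))),
      map_zero, mul_zero]
  · intro h'; exact absurd (Finset.mem_univ _) h'

/-- The monomial basis. -/
noncomputable def cbasis : Module.Basis (Finset (Fin n)) R (CliffordAlgebra Q) :=
  Module.Basis.mk (mono_linearIndependent Q b) fun x _ => span_mono Q b x

@[simp] theorem cbasis_apply (S : Finset (Fin n)) : cbasis Q b S = mono Q b (setList S) := by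
  simp [cbasis]

include b in
theorem free_C : Module.Free R (CliffordAlgebra Q) := Module.Free.of_basis (cbasis Q b)

include b in
theorem finite_C : Module.Finite R (CliffordAlgebra Q) := Module.Finite.of_basis (cbasis Q b)

/-- The functional killing products of fewer than n vectors, `1` on the product of the basis. -/
noncomputable def top : CliffordAlgebra Q →ₗ[R] R :=
  (scal Q b).comp (annL (aC Q b) (List.finRange n))

theorem annL_degLE : ∀ (l : List (Fin n)) (k : ℕ) (x : CliffordAlgebra Q), x ∈ degLE Q k → k < l.length →
    annL (aC Q b) l x = 0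
  | [], _, _, _, hk => by simp at hk
  | i :: l, k, x, hx, hk => by
    simp only [annL, LinearMap.comp_apply]
    obtain ⟨h0, h1⟩ := contract_degLE Q (b.coord i) k x hx
    rcases Nat.eq_zero_or_pos k with hk0 | hk0
    · rw [show aC Q b i x = 0 from h0 hk0, map_zero]
    · exact annL_degLE l (k - 1) _ h1 (by simp at hk; omega)

theorem top_degLE {k : ℕ} {x : CliffordAlgebra Q} (hx : x ∈ degLE Q k) (hk : k < n) : top Q b x = 0 := by
  simp [top, annL_degLE Q b (List.finRange n) k x hx (by simpa using hk)]

theorem top_contract (d : Module.Dual R M) (x : CliffordAlgebra Q) : top Q b (contractLeft d x) = 0 := by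
  rw [contractLeft_eq_sum Q b d, map_sum]
  refine Finset.sum_eq_zero fun i _ => ?_
  rw [map_smul, top, LinearMap.comp_apply, (isCAR_C Q b).ann_a (List.mem_finRange i), map_zero, smul_zero]

theorem top_ι_mul (v : M) (x : CliffordAlgebra Q) : top Q b (ι Q v * x) = top Q b (involute x * ι Q v) := by
  rw [← sub_eq_zero, ← map_sub, supercomm_eq]
  exact top_contract Q b _ x

theorem top_mul_of_even {x : CliffordAlgebra Q} (hx : x ∈ evenOdd Q 0) (y : CliffordAlgebra Q) :
    top Q b (x * y) = top Q b (y * x) := by
  induction x, hx using even_induction generalizing y with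
  | algebraMap r => rw [Algebra.commutes]
  | add x z _ _ hx hz => rw [add_mul, mul_add, map_add, map_add, hx, hz]
  | ι_mul_ι_mul v w x hxe hx =>
    rw [mul_assoc, mul_assoc, top_ι_mul, map_mul (involute (Q := Q)), involute_ι, map_mul (involute (Q := Q)),
      involute_eq_of_mem_even hxe,
      show -ι Q w * (x * involute y) * ι Q v = -(ι Q w * (x * (involute y * ι Q v))) by noncomm_ring,
      map_neg, top_ι_mul, map_mul (involute (Q := Q)), map_mul (involute (Q := Q)), involute_eq_of_mem_even hxe, involute_ι, involute_involute,
      show x * (y * -ι Q v) * ι Q w = -(x * (y * (ι Q v * ι Q w))) by noncomm_ring,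
      map_neg, neg_neg, hx]
    simp only [mul_assoc]

theorem top_mul_of_odd {x : CliffordAlgebra Q} (hx : x ∈ evenOdd Q 1) (y : CliffordAlgebra Q) :
    top Q b (x * y) = top Q b (involute y * x) := by
  induction x, hx using odd_induction generalizing y with
  | ι v => exact top_ι_mul Q b v y
  | add x z _ _ hx hz => rw [add_mul, mul_add, map_add, map_add, hx, hz]
  | ι_mul_ι_mul v w x hxe hx =>
    have h2 : ι Q v * ι Q w ∈ evenOdd Q 0 := ι_mul_ι_mem_evenOdd_zero Q v w
    rw [show ι Q v * ι Q w * x * y = (ι Q v * ι Q w) * (x * y) by noncomm_ring, top_mul_of_even Q b h2,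
      mul_assoc, hx, map_mul (involute (Q := Q)), involute_eq_of_mem_even h2, mul_assoc]

theorem top_mono_univ : top Q b (mono Q b (List.finRange n)) = 1 := by
  rw [top, LinearMap.comp_apply, annL_mono_self Q b (List.nodup_finRange n), scal_one]

theorem top_repeat (pre post : List M) (v : M) : ∀ mid : List M,
    pre.length + mid.length + post.length + 2 ≤ n →
    top Q b ((pre.map (ι Q)).prod * (ι Q v * ((mid.map (ι Q)).prod * (ι Q v * (post.map (ι Q)).prod)))) = 0 := by
  intro mid
  induction mid generalizing pre with
  | nil =>
    intro h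
    rw [List.map_nil, List.prod_nil, one_mul, ← mul_assoc (ι Q v), ι_sq_scalar, ← Algebra.smul_def,
      mul_smul_comm, map_smul, ← List.prod_append, ← List.map_append]
    have := top_degLE Q b (k := (pre ++ post).length) (prod_mem_degLE Q (pre ++ post))
      (by simp at h ⊢; omega)
    rw [this, smul_zero]
  | cons w mid ih =>
    intro h
    set rest := (mid.map (ι Q)).prod * (ι Q v * (post.map (ι Q)).prod)
    have hsw : ι Q v * ι Q w = algebraMap R _ (QuadraticMap.polar Q v w) - ι Q w * ι Q v :=
      eq_sub_of_add_eq (ι_mul_ι_add_swap v w)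
    have e : (pre.map (ι Q)).prod * (ι Q v * (((w :: mid).map (ι Q)).prod * (ι Q v * (post.map (ι Q)).prod))) =
        QuadraticMap.polar Q v w • ((pre ++ (mid ++ v :: post)).map (ι Q)).prod -
        ((pre ++ [w]).map (ι Q)).prod * (ι Q v * rest) := by
      simp only [List.map_cons, List.prod_cons, List.map_append, List.prod_append, List.map_nil,
        List.prod_nil, mul_one]
      rw [show ι Q v * (ι Q w * (mid.map (ι Q)).prod * (ι Q v * (post.map (ι Q)).prod)) = (ι Q v * ι Q w) * rest by
        simp only [rest, mul_assoc], hsw, sub_mul, mul_sub, Algebra.smul_def]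
      congr 1
      · simp only [rest, mul_assoc]
        rw [Algebra.left_comm]
      · simp only [mul_assoc]
    rw [e, map_sub, map_smul]
    have h1 := top_degLE Q b (k := (pre ++ (mid ++ v :: post)).length) (prod_mem_degLE Q _)
      (by simp at h ⊢; omega)
    rw [h1, smul_zero, ih (pre ++ [w]) (by simp at h ⊢; omega), sub_zero]

/-- The top coefficient of a product of n vectors, as an alternating map. -/
noncomputable def topAlt : M [⋀^Fin n]→ₗ[R] R :=
  { ((top Q b).compMultilinearMap
      ((MultilinearMap.mkPiAlgebraFin R n (CliffordAlgebra Q)).compLinearMap fun _ => ι Q)) with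
    map_eq_zero_of_eq' := by
      intro v i j hij hne
      suffices key : ∀ i j : Fin n, i < j → v i = v j → top Q b ((List.ofFn fun k => ι Q (v k)).prod) = 0 by
        rcases lt_or_gt_of_ne hne with h | h
        · simpa using key i j h hij
        · simpa using key j i h hij.symm
      intro i j hij hv
      set l := List.ofFn v with hl
      have hlen : l.length = n := List.length_ofFn
      have hi : i.1 < l.length := by omega
      have hj : j.1 < l.length := by omega
      have h1 : l.drop i = v i :: l.drop (i + 1) := by
        rw [List.drop_eq_getElem_cons hi]; simp [hl]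
      have h2 : (l.drop (i + 1)).drop (j - (i + 1)) = v i :: l.drop (j + 1) := by
        rw [List.drop_drop, show i.1 + 1 + (j.1 - (i.1 + 1)) = j.1 by have : i.1 < j.1 := hij; omega,
          List.drop_eq_getElem_cons hj]
        simp [hl, hv]
      have hsplit : l = l.take i ++ v i :: ((l.drop (i + 1)).take (j - (i + 1)) ++ v i :: l.drop (j + 1)) := by
        conv_lhs => rw [← List.take_append_drop i.1 l, h1,
          ← List.take_append_drop (j.1 - (i.1 + 1)) (l.drop (i + 1)), h2]
      rw [show (List.ofFn fun k => ι Q (v k)) = l.map (ι Q) by rw [hl, List.map_ofFn]; rfl, hsplit]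
      simp only [List.map_append, List.map_cons, List.prod_append, List.prod_cons]
      refine top_repeat Q b _ _ _ _ ?_
      have : i.1 < j.1 := hij
      simp [List.length_take, List.length_drop, hlen]
      omega }

theorem topAlt_apply (v : Fin n → M) : topAlt Q b v = top Q b ((List.ofFn fun i => ι Q (v i)).prod) := rfl

theorem topAlt_basis : topAlt Q b b = 1 := by
  rw [topAlt_apply, List.ofFn_eq_map]
  exact top_mono_univ Q b

theorem top_prod_map (g : M →ₗ[R] M) :
    top Q b ((List.ofFn fun i => ι Q (g (b i))).prod) = LinearMap.det g := by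
  have h := AlternatingMap.eq_smul_basis_det b (topAlt Q b)
  rw [topAlt_basis, one_smul] at h
  rw [show top Q b ((List.ofFn fun i => ι Q (g (b i))).prod) = topAlt Q b (g ∘ b) from rfl, h,
    Module.Basis.det_comp, b.det_self, mul_one]

end Groth.Agent.Quad37
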