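import Groth.Prelude.Def_QuadGrp
import Groth.Agent.Quad37.Basis

set_option autoImplicit false

universe u v

namespace Groth.Agent.Quad37

open CliffordAlgebra
open scoped Pointwise

variable {R : Type u} [CommRing R] {M : Type v} [AddCommGroup M] [Module R M] {n : ℕ}
  {Q : QuadraticForm R M} (b : Module.Basis (Fin n) R M)

/-- The parts of an element for the grading. -/
theorem exists_parts (x : CliffordAlgebra Q) :
    ∃ x0 ∈ evenOdd Q 0, ∃ x1 ∈ evenOdd Q 1, x0 + x1 = x := by
  have h : x ∈ evenOdd Q 0 ⊔ evenOdd Q 1 := by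
    rw [(evenOdd_isCompl Q).sup_eq_top]; trivial
  obtain ⟨x0, h0, x1, h1, he⟩ := Submodule.mem_sup.mp h
  exact ⟨x0, h0, x1, h1, he⟩

theorem parts_zero {x0 x1 : CliffordAlgebra Q} (h0 : x0 ∈ evenOdd Q 0) (h1 : x1 ∈ evenOdd Q 1)
    (h : x0 + x1 = 0) : x0 = 0 ∧ x1 = 0 := by
  have hx : x0 ∈ evenOdd Q 0 ⊓ evenOdd Q 1 := ⟨h0, by
    rw [eq_neg_of_add_eq_zero_left h]; exact neg_mem h1⟩
  rw [(evenOdd_isCompl Q).inf_eq_bot, Submodule.mem_bot] at hx
  subst hx
  exact ⟨rfl, by simpa using h⟩

theorem eq_zero_of_even_odd {x : CliffordAlgebra Q} (h0 : x ∈ evenOdd Q 0) (h1 : x ∈ evenOdd Q 1) :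
    x = 0 :=
  (parts_zero h0 (neg_mem h1) (add_neg_cancel x)).1

theorem mem_even_one : (1 : CliffordAlgebra Q) ∈ evenOdd Q 0 := SetLike.one_mem_graded _

theorem algebraMap_mem_even (r : R) : algebraMap R (CliffordAlgebra Q) r ∈ evenOdd Q 0 := by
  rw [Algebra.algebraMap_eq_smul_one]; exact Submodule.smul_mem _ _ mem_even_one

theorem mul_mem_parity {x y : CliffordAlgebra Q} {i j k : ZMod 2} (hx : x ∈ evenOdd Q i)
    (hy : y ∈ evenOdd Q j) (h : i + j = k) : x * y ∈ evenOdd Q k :=
  h ▸ SetLike.mul_mem_graded hx hy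

include b in
theorem scalar_odd_eq_zero {r : R} (h : algebraMap R (CliffordAlgebra Q) r ∈ evenOdd Q 1) : r = 0 :=
  algebraMap_injective Q b (by rw [map_zero]; exact eq_zero_of_even_odd (algebraMap_mem_even r) h)

theorem scalar_mul_eq {r : R} {x : CliffordAlgebra Q} : algebraMap R _ r * x = r • x :=
  (Algebra.smul_def r x).symm

theorem mul_scalar_eq {r : R} {x : CliffordAlgebra Q} : x * algebraMap R _ r = r • x := by
  rw [← Algebra.commutes]; exact scalar_mul_eq

/-- The product of the images of a list of vectors. -/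
noncomputable def vecProd (Q : QuadraticForm R M) (l : List M) : CliffordAlgebra Q := (l.map (ι Q)).prod

@[simp] theorem vecProd_nil : vecProd Q [] = 1 := rfl

@[simp] theorem vecProd_cons (v : M) (l : List M) : vecProd Q (v :: l) = ι Q v * vecProd Q l := by
  simp [vecProd]

theorem vecProd_mem : ∀ l : List M, vecProd Q l ∈ evenOdd Q (l.length : ZMod 2)
  | [] => by simpa using mem_even_one
  | v :: l => by
    rw [vecProd_cons]
    exact mul_mem_parity (ι_mem_evenOdd_one Q v) (vecProd_mem l) (by simp [add_comm])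

/-- The product of the basis vectors, and of their images. -/
noncomputable def gProd (Q : QuadraticForm R M) (g : M →ₗ[R] M) : CliffordAlgebra Q :=
  vecProd Q (List.ofFn fun i => g (b i))

theorem top_gProd (g : M →ₗ[R] M) : top Q b (gProd b Q g) = LinearMap.det g := by
  rw [gProd, vecProd, List.map_ofFn]
  exact top_prod_map Q b g

theorem top_gProd_id : top Q b (gProd b Q LinearMap.id) = 1 := by rw [top_gProd, LinearMap.det_id]

theorem gProd_mem (g : M →ₗ[R] M) : gProd b Q g ∈ evenOdd Q (n : ZMod 2) := by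
  have := vecProd_mem (Q := Q) (List.ofFn fun i => g (b i))
  rwa [List.length_ofFn] at this

theorem vecProd_conj {g : M →ₗ[R] M} {u : (CliffordAlgebra Q)ˣ}
    (h : ∀ v, (u : CliffordAlgebra Q) * ι Q v * ↑u⁻¹ = ι Q (g v)) :
    ∀ l : List M, vecProd Q (l.map g) = (u : CliffordAlgebra Q) * vecProd Q l * ↑u⁻¹
  | [] => by simp
  | v :: l => by
    rw [List.map_cons, vecProd_cons, vecProd_cons, ← h v, vecProd_conj h l]
    simp [mul_assoc]

theorem conj_isometry {g : M →ₗ[R] M} {u : (CliffordAlgebra Q)ˣ} (b : Module.Basis (Fin n) R M)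
    (h : ∀ v, (u : CliffordAlgebra Q) * ι Q v * ↑u⁻¹ = ι Q (g v)) (v : M) : Q (g v) = Q v := by
  apply algebraMap_injective Q b
  rw [← ι_sq_scalar, ← h, ← ι_sq_scalar]
  have e : (u : CliffordAlgebra Q) * ι Q v * ↑u⁻¹ * ((u : CliffordAlgebra Q) * ι Q v * ↑u⁻¹) =
      (u : CliffordAlgebra Q) * (ι Q v * ι Q v) * ↑u⁻¹ := by simp only [mul_assoc, Units.inv_mul_cancel_left]
  rw [e, ι_sq_scalar, ← Algebra.commutes, mul_assoc, Units.mul_inv, mul_one]

theorem smul_range_eq (u : (CliffordAlgebra Q)ˣ) (x : CliffordAlgebra Q) :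
    x ∈ ConjAct.toConjAct u • LinearMap.range (ι Q) ↔
      ∃ v, (u : CliffordAlgebra Q) * ι Q v * ↑u⁻¹ = x := by
  rw [← SetLike.mem_coe, Submodule.coe_pointwise_smul, Set.mem_smul_set]
  constructor
  · rintro ⟨_, ⟨v, rfl⟩, rfl⟩
    exact ⟨v, (ConjAct.units_smul_def _ _).symm⟩
  · rintro ⟨v, rfl⟩
    exact ⟨_, ⟨v, rfl⟩, ConjAct.units_smul_def _ _⟩

theorem mem_GPin'_of_conj {g : M ≃ₗ[R] M} {u : (CliffordAlgebra Q)ˣ}
    (h : ∀ v, (u : CliffordAlgebra Q) * ι Q v * ↑u⁻¹ = ι Q (g v)) : u ∈ QuadGrp.GPin' Q := by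
  rw [QuadGrp.mem_GPin']
  ext x
  rw [smul_range_eq]
  constructor
  · rintro ⟨v, rfl⟩; exact ⟨g v, (h v).symm⟩
  · rintro ⟨v, rfl⟩; exact ⟨g.symm v, by rw [h, g.apply_symm_apply]⟩

include b in
theorem exists_conj {u : (CliffordAlgebra Q)ˣ} (hu : u ∈ QuadGrp.GPin' Q) :
    ∃ g : M ≃ₗ[R] M, g ∈ QuadGrp.O Q ∧ ∀ v, (u : CliffordAlgebra Q) * ι Q v * ↑u⁻¹ = ι Q (g v) := by
  rw [QuadGrp.mem_GPin'] at hu
  have hto : ∀ v, ∃ w, ι Q w = (u : CliffordAlgebra Q) * ι Q v * ↑u⁻¹ := fun v => by
    have : (u : CliffordAlgebra Q) * ι Q v * ↑u⁻¹ ∈ LinearMap.range (ι Q) := by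
      rw [← hu]; exact (smul_range_eq u _).mpr ⟨v, rfl⟩
    exact this
  have hfrom : ∀ v, ∃ w, ι Q w = (↑u⁻¹ : CliffordAlgebra Q) * ι Q v * ↑u := fun v => by
    have : ι Q v ∈ ConjAct.toConjAct u • LinearMap.range (ι Q) := by rw [hu]; exact ⟨v, rfl⟩
    obtain ⟨w, hw⟩ := (smul_range_eq u _).mp this
    exact ⟨w, by rw [← hw]; simp [mul_assoc]⟩
  choose f hf using hto
  choose f' hf' using hfrom
  have hinj := ι_injective Q b
  let g : M ≃ₗ[R] M :=
    { toFun := f
      invFun := f'
      map_add' := fun x y => hinj (by simp [hf, mul_add, add_mul])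
      map_smul' := fun c x => hinj (by simp [hf])
      left_inv := fun x => hinj (by rw [hf', hf]; simp [mul_assoc])
      right_inv := fun x => hinj (by rw [hf, hf']; simp [mul_assoc]) }
  have hg : ∀ v, (u : CliffordAlgebra Q) * ι Q v * ↑u⁻¹ = ι Q (g v) := fun v => (hf v).symm
  exact ⟨g, fun v => conj_isometry (g := g.toLinearMap) b hg v, hg⟩

include b in
/-- In odd rank, conjugation by any unit has determinant one. -/
theorem det_conj_of_odd (hn : Odd n) {g : M →ₗ[R] M} {u : (CliffordAlgebra Q)ˣ}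
    (h : ∀ v, (u : CliffordAlgebra Q) * ι Q v * ↑u⁻¹ = ι Q (g v)) : LinearMap.det g = 1 := by
  have hG : gProd b Q g = (u : CliffordAlgebra Q) * gProd b Q LinearMap.id * ↑u⁻¹ := by
    rw [gProd, gProd, ← vecProd_conj h, List.map_ofFn]
    rfl
  have hEodd : gProd b Q LinearMap.id ∈ evenOdd Q 1 := by
    have := gProd_mem (Q := Q) b (LinearMap.id : M →ₗ[R] M)
    rwa [(ZMod.natCast_eq_one_iff_odd).mpr hn] at this
  have heven : ∀ x ∈ evenOdd Q 0, top Q b x = 0 := by
    intro x hx
    have hflip : ∀ (l : List (Fin n)) (y : CliffordAlgebra Q) (i : ZMod 2), y ∈ evenOdd Q i →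
        annL (aC Q b) l y ∈ evenOdd Q (i + l.length) := by
      intro l
      induction l with
      | nil => intro y i hy; simpa [annL] using hy
      | cons a l ih =>
        intro y i hy
        have h1 : aC Q b a y ∈ evenOdd Q (i + 1) := by
          have : ∀ (j : ZMod 2) (z : CliffordAlgebra Q), z ∈ evenOdd Q j → aC Q b a z ∈ evenOdd Q (j + 1) := by
            intro j z hz
            induction z, hz using evenOdd_induction with
            | range_ι_pow z hz =>
              fin_cases j
              · obtain ⟨r, rfl⟩ := Submodule.mem_one.mp (show z ∈ (1 : Submodule R (CliffordAlgebra Q)) by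
                  rw [← pow_zero (LinearMap.range (ι Q))]; exact hz)
                simp [aC]
              · obtain ⟨w, rfl⟩ := (show z ∈ LinearMap.range (ι Q) by
                  rw [← pow_one (LinearMap.range (ι Q))]; exact hz)
                simp only [aC, contractLeft_ι]
                exact algebraMap_mem_even _
            | add z w _ _ hz hw => rw [map_add]; exact add_mem hz hw
            | ι_mul_ι_mul w w' z hzm hz =>
              rw [aC] at hz ⊢
              rw [mul_assoc, contractLeft_ι_mul, contractLeft_ι_mul]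
              refine sub_mem (Submodule.smul_mem _ _ (mul_mem_parity (ι_mem_evenOdd_one Q w') hzm (add_comm _ _))) ?_
              exact mul_mem_parity (ι_mem_evenOdd_one Q w) (sub_mem (Submodule.smul_mem _ _ hzm)
                (mul_mem_parity (ι_mem_evenOdd_one Q w') hz
                  (show 1 + (j + 1) = j by rw [add_left_comm]; exact add_eq_left.mpr rfl))) (add_comm _ _)
          exact this i y hy
        simp only [annL, LinearMap.comp_apply]
        have := ih _ _ h1
        rwa [List.length_cons, Nat.cast_succ, show i + ((l.length : ZMod 2) + 1) = i + 1 + l.length by abel]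
    have h1 := hflip (List.finRange n) x 0 hx
    rw [List.length_finRange, (ZMod.natCast_eq_one_iff_odd).mpr hn, zero_add] at h1
    have hker : ∀ i, aC Q b i (annL (aC Q b) (List.finRange n) x) = 0 := by
      intro i
      have hc := isCAR_C Q b
      have : ∀ (l : List (Fin n)), i ∈ l → ∀ y, aC Q b i (annL (aC Q b) l y) = 0 := by
        intro l
        induction l with
        | nil => simp
        | cons a l ih =>
          intro hi y
          simp only [annL, LinearMap.comp_apply]
          by_cases hia : i ∈ l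
          · exact ih hia _
          · obtain rfl : i = a := (List.mem_cons.mp hi).resolve_right hia
            have hcom : ∀ (l : List (Fin n)) z, aC Q b i z = 0 → aC Q b i (annL (aC Q b) l z) = 0 := by
              intro l
              induction l with
              | nil => intro z hz; exact hz
              | cons a l ih =>
                intro z hz
                simp only [annL, LinearMap.comp_apply]
                exact ih _ (by rw [hc.anti, hz, map_zero, neg_zero])
            exact hcom l _ (hc.sq i y)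
      exact this _ (List.mem_finRange i) x
    rw [eq_scal_of_ker Q b hker] at h1
    exact scalar_odd_eq_zero b h1
  obtain ⟨u0, h0, u1, h1, hu⟩ := exists_parts (u : CliffordAlgebra Q)
  obtain ⟨v0, g0, v1, g1, hv⟩ := exists_parts (↑u⁻¹ : CliffordAlgebra Q)
  have h1' : v0 * u0 + v1 * u1 = 1 := by
    have h : (v0 * u0 + v1 * u1 - 1) + (v0 * u1 + v1 * u0) = 0 := by
      have := u.inv_mul
      rw [← hu, ← hv] at this
      rw [← sub_eq_zero.mpr this]; noncomm_ring
    refine sub_eq_zero.mp (parts_zero ?_ ?_ h).1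
    · exact sub_mem (add_mem (mul_mem_parity g0 h0 rfl) (mul_mem_parity g1 h1 rfl)) mem_even_one
    · exact add_mem (mul_mem_parity g0 h1 rfl) (mul_mem_parity g1 h0 rfl)
  set E := gProd b Q (LinearMap.id : M →ₗ[R] M)
  have e00 : top Q b (u0 * E * v0) = top Q b (E * (v0 * u0)) := by
    rw [mul_assoc, top_mul_of_even Q b h0, mul_assoc]
  have e11 : top Q b (u1 * E * v1) = top Q b (E * (v1 * u1)) := by
    rw [mul_assoc, top_mul_of_odd Q b h1, map_mul (involute (Q := Q)), involute_eq_of_mem_odd hEodd,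
      involute_eq_of_mem_odd g1, neg_mul_neg, mul_assoc]
  rw [← top_gProd b g, hG, ← hu, ← hv,
    show (u0 + u1) * E * (v0 + v1) = u0 * E * v0 + u1 * E * v1 + (u0 * E * v1 + u1 * E * v0) by noncomm_ring,
    map_add, map_add, heven _ (add_mem (mul_mem_parity (mul_mem_parity h0 hEodd rfl) g1 rfl)
      (mul_mem_parity (mul_mem_parity h1 hEodd rfl) g0 rfl)), add_zero, e00, e11, ← map_add, ← mul_add,
    h1', mul_one]
  exact top_gProd_id b

end Groth.Agent.Quad37
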