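import Groth.Agent.Quad37.Disc
import Groth.Agent.Quad37.Conj
import Mathlib.RingTheory.Localization.AtPrime.Basic
import Mathlib.RingTheory.LocalProperties.Basic

set_option autoImplicit false

universe u v w

namespace Groth.Agent.Quad37

open CliffordAlgebra

variable {R : Type u} [CommRing R] {M : Type v} [AddCommGroup M] [Module R M] {n : ℕ}
  (b : Module.Basis (Fin n) R M) (Q : QuadraticForm R M) (S : Type w) [CommRing S] [Algebra R S]

/-- The form over `S` with the same coefficients. -/
noncomputable def formBC : QuadraticForm S (Fin n → S) :=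
  qf fun s => algebraMap R S (QuadGrp.coeffs b (LinearEquiv.refl R R) Q s)

/-- The change of coefficients on vectors. -/
noncomputable def vecBC : M →ₗ[R] (Fin n → S) :=
  ((Algebra.linearMap R S).compLeft (Fin n)).comp b.equivFun.toLinearMap

theorem vecBC_apply (v : M) (i : Fin n) : vecBC b S v i = algebraMap R S (b.repr v i) := rfl

theorem vecBC_basis (i : Fin n) : vecBC b S (b i) = Pi.basisFun S (Fin n) i := by
  funext j
  simp only [vecBC_apply, b.repr_self, Pi.basisFun_apply, Pi.single_apply, Finsupp.single_apply]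
  by_cases h : i = j
  · subst h; simp
  · simp [h, Ne.symm h]

theorem formBC_vecBC (v : M) : formBC b Q S (vecBC b S v) = algebraMap R S (Q v) := by
  conv_rhs => rw [eq_qf_comp b Q]
  rw [QuadraticMap.comp_apply, qf_map]
  rfl

theorem polar_vecBC (v w : M) :
    QuadraticMap.polar (formBC b Q S) (vecBC b S v) (vecBC b S w) = algebraMap R S (QuadraticMap.polar Q v w) := by
  simp only [QuadraticMap.polar, ← map_add, formBC_vecBC, map_sub]

theorem coeffs_formBC :
    QuadGrp.coeffs (Pi.basisFun S (Fin n)) (LinearEquiv.refl S S) (formBC b Q S) =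
      fun s => algebraMap R S (QuadGrp.coeffs b (LinearEquiv.refl R R) Q s) := coeffs_qf _

theorem halfDisc_formBC :
    QuadGrp.halfDisc (Pi.basisFun S (Fin n)) (LinearEquiv.refl S S) (formBC b Q S) =
      algebraMap R S (QuadGrp.halfDisc b (LinearEquiv.refl R R) Q) := by
  rw [QuadGrp.halfDisc, QuadGrp.halfDisc, coeffs_formBC, eval_halfDiscUniv_map]

theorem isSemiregular_formBC (h : QuadGrp.IsSemiregular b (LinearEquiv.refl R R) Q) :
    QuadGrp.IsSemiregular (Pi.basisFun S (Fin n)) (LinearEquiv.refl S S) (formBC b Q S) := by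
  rw [QuadGrp.IsSemiregular, halfDisc_formBC]
  exact IsUnit.map _ h

/-- The induced map of Clifford algebras. -/
noncomputable def cliffBC : CliffordAlgebra Q →ₐ[R] CliffordAlgebra (formBC b Q S) :=
  CliffordAlgebra.lift Q ⟨((ι (formBC b Q S)).restrictScalars R).comp (vecBC b S), fun v => by
    rw [LinearMap.comp_apply, LinearMap.restrictScalars_apply, ι_sq_scalar, formBC_vecBC,
      ← IsScalarTower.algebraMap_apply]⟩

theorem cliffBC_ι (v : M) : cliffBC b Q S (ι Q v) = ι (formBC b Q S) (vecBC b S v) :=
  CliffordAlgebra.lift_ι_apply _ _ _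

theorem cliffBC_mono : ∀ l : List (Fin n),
    cliffBC b Q S (mono Q b l) = mono (formBC b Q S) (Pi.basisFun S (Fin n)) l
  | [] => map_one _
  | i :: l => by rw [mono_cons, map_mul, cliffBC_mono l, mono_cons, cliffBC_ι, vecBC_basis]

theorem cbasis_repr_cliffBC (x : CliffordAlgebra Q) (T : Finset (Fin n)) :
    (cbasis (formBC b Q S) (Pi.basisFun S (Fin n))).repr (cliffBC b Q S x) T =
      algebraMap R S ((cbasis Q b).repr x T) := by
  classical
  conv_lhs => rw [← (cbasis Q b).sum_repr x, map_sum]
  simp only [map_smul, cbasis_apply, cliffBC_mono]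
  simp only [← cbasis_apply]
  rw [Finset.sum_congr rfl fun U _ => (algebraMap_smul S ((cbasis Q b).repr x U) _).symm, map_sum, Finsupp.finsetSum_apply, Finset.sum_eq_single T]
  · rw [map_smul, Module.Basis.repr_self, Finsupp.smul_apply, Finsupp.single_eq_same, smul_eq_mul, mul_one]
  · intro U _ hU
    rw [map_smul, Module.Basis.repr_self, Finsupp.smul_apply, Finsupp.single_eq_of_ne (Ne.symm hU), smul_zero]
  · exact fun h => absurd (Finset.mem_univ _) h

theorem cliffBC_mem {x : CliffordAlgebra Q} {i : ZMod 2} (hx : x ∈ evenOdd Q i) :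
    cliffBC b Q S x ∈ evenOdd (formBC b Q S) i := by
  induction x, hx using evenOdd_induction with
  | range_ι_pow x hx =>
    fin_cases i
    · obtain ⟨r, rfl⟩ := Submodule.mem_one.mp (show x ∈ (1 : Submodule R (CliffordAlgebra Q)) by
        rw [← pow_zero (LinearMap.range (ι Q))]; exact hx)
      rw [AlgHom.commutes, IsScalarTower.algebraMap_apply R S]
      exact algebraMap_mem_even _
    · obtain ⟨v, rfl⟩ := (show x ∈ LinearMap.range (ι Q) by
        rw [← pow_one (LinearMap.range (ι Q))]; exact hx)
      rw [cliffBC_ι]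
      exact ι_mem_evenOdd_one _ _
  | add x y _ _ hx hy => rw [map_add]; exact add_mem hx hy
  | ι_mul_ι_mul v w x _ hx =>
    rw [map_mul, map_mul, cliffBC_ι, cliffBC_ι]
    exact mul_mem_parity (ι_mul_ι_mem_evenOdd_zero _ _ _) hx (zero_add _)

theorem cliffBC_star (x : CliffordAlgebra Q) : cliffBC b Q S (star x) = star (cliffBC b Q S x) := by
  induction x using CliffordAlgebra.induction with
  | algebraMap r =>
    rw [CliffordAlgebra.star_algebraMap, AlgHom.commutes, IsScalarTower.algebraMap_apply R S,
      CliffordAlgebra.star_algebraMap]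
  | ι v => rw [CliffordAlgebra.star_ι, map_neg, cliffBC_ι, CliffordAlgebra.star_ι]
  | mul x y hx hy => rw [star_mul, map_mul, map_mul, hx, hy, star_mul]
  | add x y hx hy => rw [star_add, map_add, map_add, hx, hy, star_add]

theorem cliffBC_central {z : CliffordAlgebra Q} (hz : ∀ v, ι Q v * z = z * ι Q v) :
    cliffBC b Q S z ∈ Subalgebra.center S (CliffordAlgebra (formBC b Q S)) := by
  rw [Subalgebra.mem_center_iff]
  have hv : ∀ v : Fin n → S, ι (formBC b Q S) v * cliffBC b Q S z = cliffBC b Q S z * ι (formBC b Q S) v := by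
    intro v
    rw [← (Pi.basisFun S (Fin n)).sum_repr v, map_sum, Finset.sum_mul, Finset.mul_sum]
    refine Finset.sum_congr rfl fun i _ => ?_
    rw [map_smul, smul_mul_assoc, mul_smul_comm, ← vecBC_basis b S i, ← cliffBC_ι, ← map_mul, hz, map_mul]
  intro y
  induction y using CliffordAlgebra.induction with
  | algebraMap r => exact Algebra.commutes r _
  | ι v => exact hv v
  | mul x y hx hy => rw [mul_assoc, hy, ← mul_assoc, hx, mul_assoc]
  | add x y hx hy => rw [add_mul, mul_add, hx, hy]

/-- An element vanishing in all localisations vanishes. -/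
theorem eq_zero_of_cliffBC {x : CliffordAlgebra Q}
    (h : ∀ (p : Ideal R) (_ : p.IsMaximal), cliffBC b Q (Localization.AtPrime p) x = 0) : x = 0 := by
  refine (cbasis Q b).ext_elem fun T => ?_
  rw [map_zero, Finsupp.zero_apply]
  refine eq_zero_of_localization _ fun p hp => ?_
  rw [← cbasis_repr_cliffBC b Q, h p hp, map_zero, Finsupp.zero_apply]

end Groth.Agent.Quad37
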