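import Mathlib.LinearAlgebra.QuadraticForm.Basic
import Mathlib.LinearAlgebra.FiniteDimensional.Lemmas
import Mathlib.FieldTheory.IsAlgClosed.Basic

/-! Over an algebraically closed field every isometry is a product of reflections. -/

set_option autoImplicit false

universe u v

namespace Groth.Agent.Quad37

open QuadraticMap

variable {K : Type u} [Field K] {V : Type v} [AddCommGroup V] [Module K V]

/-- The reflection in a vector (the identity if it is isotropic). -/
noncomputable def reflEnd (q : QuadraticForm K V) (v : V) : Module.End K V :=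
  LinearMap.id - (q v)⁻¹ • (q.polarBilin v).smulRight v

theorem reflEnd_apply (q : QuadraticForm K V) (v w : V) : reflEnd q v w = w - ((q v)⁻¹ * polar q v w) • v := by
  simp [reflEnd, mul_smul]

theorem map_reflEnd (q : QuadraticForm K V) {v : V} (hv : q v ≠ 0) (w : V) : q (reflEnd q v w) = q w := by
  rw [reflEnd_apply, sub_eq_add_neg, ← neg_smul, QuadraticMap.map_add q, q.map_smul, q.polar_smul_right, polar_comm q w v,
    smul_eq_mul, smul_eq_mul]
  field_simp
  ring

theorem reflEnd_reflEnd (q : QuadraticForm K V) {v : V} (hv : q v ≠ 0) : reflEnd q v * reflEnd q v = 1 := by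
  refine LinearMap.ext fun w => ?_
  rw [Module.End.mul_apply, Module.End.one_apply, reflEnd_apply q v (reflEnd q v w), reflEnd_apply, q.polar_sub_right,
    q.polar_smul_right, q.polar_self, nsmul_eq_mul, smul_eq_mul, Nat.cast_ofNat]
  match_scalars
  · ring
  · field_simp
    ring

/-- A product of reflections. -/
def IsReflProd (q : QuadraticForm K V) (g : Module.End K V) : Prop :=
  ∃ l : List V, (∀ v ∈ l, q v ≠ 0) ∧ g = (l.map (reflEnd q)).prod

theorem isReflProd_one (q : QuadraticForm K V) : IsReflProd q 1 := ⟨[], by simp, rfl⟩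

theorem IsReflProd.mul {q : QuadraticForm K V} {g h : Module.End K V} :
    IsReflProd q g → IsReflProd q h → IsReflProd q (g * h) :=
  fun ⟨l, hl, eg⟩ ⟨l', hl', eh⟩ => ⟨l ++ l', fun v hv => (List.mem_append.mp hv).elim (hl v) (hl' v), by
    rw [List.map_append, List.prod_append, eg, eh]⟩

theorem isReflProd_reflEnd {q : QuadraticForm K V} {v : V} (hv : q v ≠ 0) : IsReflProd q (reflEnd q v) :=
  ⟨[v], by simpa using hv, by simp⟩

theorem IsReflProd.map_eq {q : QuadraticForm K V} {g : Module.End K V} (h : IsReflProd q g) (w : V) : q (g w) = q w := by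
  obtain ⟨l, hl, rfl⟩ := h
  induction l generalizing w with
  | nil => rfl
  | cons v l ih =>
    rw [List.map_cons, List.prod_cons, Module.End.mul_apply, map_reflEnd q (hl v (by simp)), ih]
    exact fun x hx => hl x (List.mem_cons_of_mem _ hx)

theorem IsReflProd.exists_inv {q : QuadraticForm K V} {g : Module.End K V} (h : IsReflProd q g) :
    ∃ g', IsReflProd q g' ∧ g' * g = 1 := by
  obtain ⟨l, hl, rfl⟩ := h
  induction l with
  | nil => exact ⟨1, isReflProd_one q, one_mul _⟩
  | cons v l ih =>
    obtain ⟨g', hg', e⟩ := ih fun x hx => hl x (List.mem_cons_of_mem _ hx)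
    have hv : q v ≠ 0 := hl v (by simp)
    refine ⟨g' * reflEnd q v, hg'.mul (isReflProd_reflEnd hv), ?_⟩
    rw [List.map_cons, List.prod_cons, mul_assoc, ← mul_assoc (reflEnd q v), reflEnd_reflEnd q hv, one_mul, e]

/-- The form has no isotropic vector in its radical. -/
def NonDeg (q : QuadraticForm K V) : Prop := ∀ v, (∀ w, polar q v w = 0) → q v = 0 → v = 0

section Moves

variable (q : QuadraticForm K V)

theorem reflEnd_sub {a c : V} (hac : q a = q c) (hne : q (a - c) ≠ 0) : reflEnd q (a - c) c = a := by
  have h1 : q (a - c) = q a + q c - polar q a c := by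
    rw [sub_eq_add_neg, QuadraticMap.map_add q, q.map_neg, q.polar_neg_right, sub_eq_add_neg]
  have h2 : polar q (a - c) c = polar q a c - 2 * q c := by
    rw [q.polar_sub_left, q.polar_self, nsmul_eq_mul, Nat.cast_ofNat]
  have h3 : (q (a - c))⁻¹ * polar q (a - c) c = -1 := by
    rw [show polar q (a - c) c = -q (a - c) by rw [h1, h2, hac]; ring, mul_neg, inv_mul_cancel₀ hne]
  rw [reflEnd_apply, h3, neg_smul, one_smul, sub_neg_eq_add, add_sub_cancel]

theorem reflEnd_fix {v w : V} (h : polar q v w = 0) : reflEnd q v w = w := by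
  rw [reflEnd_apply, h, mul_zero, zero_smul, sub_zero]

theorem move_iso {a c : V} (ha : q a = 0) (hc : q c = 0) (hne : polar q a c ≠ 0) :
    q (a - c) ≠ 0 ∧ reflEnd q (a - c) c = a := by
  have h1 : q (a - c) = -polar q a c := by
    rw [sub_eq_add_neg, QuadraticMap.map_add q, q.map_neg, q.polar_neg_right, ha, hc]; ring
  have h2 : q (a - c) ≠ 0 := by rw [h1]; exact neg_ne_zero.mpr hne
  exact ⟨h2, reflEnd_sub q (ha.trans hc.symm) h2⟩

/-- Transitivity on isotropic vectors. -/
theorem exists_move {e f e' f' : V} (he : q e = 0) (hf : q f = 0) (he' : q e' = 0) (hf' : q f' = 0)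
    (h : polar q e f = 1) (h' : polar q e' f' = 1) : ∃ r, IsReflProd q r ∧ r e' = e := by
  by_cases hee : polar q e e' = 0
  swap
  · obtain ⟨h1, h2⟩ := move_iso q he he' hee
    exact ⟨_, isReflProd_reflEnd h1, h2⟩
  obtain ⟨z, hz, hze, hze'⟩ : ∃ z, q z = 0 ∧ polar q e z ≠ 0 ∧ polar q z e' ≠ 0 := by
    by_cases h1 : polar q f e' = 0
    swap
    · exact ⟨f, hf, by rw [h]; exact one_ne_zero, h1⟩
    by_cases h2 : polar q e f' = 0
    swap
    · exact ⟨f', hf', h2, by rw [polar_comm, h']; exact one_ne_zero⟩
    refine ⟨f + f' + (-polar q f f') • e, ?_, ?_, ?_⟩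
    · rw [QuadraticMap.map_add q, QuadraticMap.map_add q f f', q.map_smul, q.polar_add_left, q.polar_smul_right, q.polar_smul_right, hf, hf', he,
        polar_comm q f e, h, polar_comm q f' e, h2]
      simp
    · rw [q.polar_add_right, q.polar_add_right, q.polar_smul_right, q.polar_self, he, h, h2]
      simp
    · rw [q.polar_add_left, q.polar_add_left, q.polar_smul_left, h1, polar_comm q f' e', h', hee]
      simp
  obtain ⟨a1, a2⟩ := move_iso q he hz hze
  obtain ⟨c1, c2⟩ := move_iso q hz he' hze'
  exact ⟨reflEnd q (e - z) * reflEnd q (z - e'), (isReflProd_reflEnd a1).mul (isReflProd_reflEnd c1), by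
    rw [Module.End.mul_apply, c2, a2]⟩

/-- Transitivity on partners of an isotropic vector. -/
theorem exists_move_fix [Infinite K] (hnd : NonDeg q) {e f f' : V} (he : q e = 0) (hf : q f = 0) (hf' : q f' = 0)
    (h : polar q e f = 1) (h' : polar q e f' = 1) : ∃ r, IsReflProd q r ∧ r e = e ∧ r f' = f := by
  by_cases hff : polar q f f' = 0
  swap
  · obtain ⟨h1, h2⟩ := move_iso q hf hf' hff
    refine ⟨_, isReflProd_reflEnd h1, reflEnd_fix q ?_, h2⟩
    rw [q.polar_sub_left, polar_comm q f, polar_comm q f', h, h', sub_self]
  set w := f' - f with hw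
  by_cases hw0 : w = 0
  · exact ⟨1, isReflProd_one q, rfl, (sub_eq_zero.mp hw0)⟩
  have hwe : polar q w e = 0 := by
    rw [hw, q.polar_sub_left, polar_comm q f, polar_comm q f', h, h', sub_self]
  have hwf : polar q w f = 0 := by
    rw [hw, q.polar_sub_left, q.polar_self, hf, polar_comm q f', hff]; simp
  have hqw : q w = 0 := by
    rw [hw, sub_eq_add_neg, QuadraticMap.map_add q, q.map_neg, q.polar_neg_right, hf, hf', polar_comm q f', hff]; simp
  obtain ⟨y, hy⟩ : ∃ y, polar q w y ≠ 0 := by
    by_contra hc
    simp only [not_exists, not_not] at hc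
    exact hw0 (hnd w hc hqw)
  obtain ⟨u, hue, huf, hu⟩ : ∃ u, polar q e u = 0 ∧ polar q f u = 0 ∧ q u ≠ 0 := by
    set u0 := y + (-polar q f y) • e + (-polar q e y) • f with hu0
    have e1 : polar q e u0 = 0 := by
      simp only [hu0, q.polar_add_right, q.polar_smul_right, q.polar_self, he, h, smul_eq_mul]; simp
    have e2 : polar q f u0 = 0 := by
      simp only [hu0, q.polar_add_right, q.polar_smul_right, q.polar_self, hf, polar_comm q f e, h, smul_eq_mul]; simp
    have e3 : polar q w u0 ≠ 0 := by
      simp only [hu0, q.polar_add_right, q.polar_smul_right, hwe, hwf, smul_zero, add_zero]; exact hy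
    by_cases h0 : q u0 = 0
    · refine ⟨w + u0, ?_, ?_, ?_⟩
      · rw [q.polar_add_right, e1, polar_comm q e, hwe, add_zero]
      · rw [q.polar_add_right, e2, polar_comm q f, hwf, add_zero]
      · rw [QuadraticMap.map_add q, hqw, h0, zero_add, zero_add]; exact e3
    · exact ⟨u0, e1, e2, h0⟩
  classical
  obtain ⟨t, ht⟩ := Infinite.exists_notMem_finset ({0, polar q u w / q u} : Finset K)
  simp only [Finset.mem_insert, Finset.mem_singleton, not_or] at ht
  set z := f + t • u + (-(t * t * q u)) • e with hzdef
  have hz : q z = 0 := by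
    rw [hzdef, QuadraticMap.map_add q, QuadraticMap.map_add q f (t • u), q.map_smul, q.map_smul, q.polar_add_left, q.polar_smul_right,
      q.polar_smul_right, q.polar_smul_right, q.polar_smul_left, polar_comm q f e, h, polar_comm q u e, hue, huf, hf,
      he]
    simp
  have hez : polar q e z = 1 := by
    rw [hzdef, q.polar_add_right, q.polar_add_right, q.polar_smul_right, q.polar_smul_right, q.polar_self, hue, h, he]
    simp
  have hfz : polar q f z ≠ 0 := by
    rw [hzdef, q.polar_add_right, q.polar_add_right, q.polar_smul_right, q.polar_smul_right, q.polar_self, huf, hf,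
      polar_comm q f e, h]
    simp [ht.1, hu]
  have hzw : polar q z w = t * polar q u w := by
    rw [hzdef, q.polar_add_left, q.polar_add_left, q.polar_smul_left, q.polar_smul_left, polar_comm q f w, hwf,
      polar_comm q e w, hwe]
    simp
  have hzf' : polar q z f' ≠ 0 := by
    rw [show f' = f + w by rw [hw, add_sub_cancel], q.polar_add_right, hzw, polar_comm q z f]
    intro hc
    rw [hzdef, q.polar_add_right, q.polar_add_right, q.polar_smul_right, q.polar_smul_right, q.polar_self, huf, hf,
      polar_comm q f e, h] at hc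
    simp only [nsmul_eq_mul, mul_zero, smul_eq_mul, zero_add, mul_one] at hc
    refine ht.2 ?_
    rw [eq_div_iff hu]
    refine (mul_left_cancel₀ ht.1 ?_).symm
    linear_combination hc
  obtain ⟨a1, a2⟩ := move_iso q hf hz hfz
  obtain ⟨c1, c2⟩ := move_iso q hz hf' hzf'
  refine ⟨reflEnd q (f - z) * reflEnd q (z - f'), (isReflProd_reflEnd a1).mul (isReflProd_reflEnd c1), ?_, by
    rw [Module.End.mul_apply, c2, a2]⟩
  rw [Module.End.mul_apply, reflEnd_fix q (v := z - f'), reflEnd_fix q (v := f - z)]
  · rw [q.polar_sub_left, polar_comm q f e, h, polar_comm q z e, hez, sub_self]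
  · rw [q.polar_sub_left, polar_comm q f' e, h', polar_comm q z e, hez, sub_self]

end Moves

/-- Cartan–Dieudonné over an algebraically closed field. -/
theorem isReflProd_of_isometry [IsAlgClosed K] :
    ∀ (d : ℕ) {V : Type v} [AddCommGroup V] [Module K V] [FiniteDimensional K V], Module.finrank K V = d →
      ∀ (q : QuadraticForm K V), NonDeg q → ∀ g : Module.End K V, (∀ w, q (g w) = q w) → Function.Injective g →
        IsReflProd q g := by
  intro d
  induction d using Nat.strongRecOn with
  | ind d ih =>
    intro V _ _ _ hd q hnd g hg hinj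
    have hgp : ∀ x y, polar q (g x) (g y) = polar q x y := fun x y => by
      simp only [polar, ← map_add, hg]
    by_cases hiso : ∃ e, e ≠ 0 ∧ q e = 0
    · obtain ⟨e, he0, he⟩ := hiso
      obtain ⟨f, hf, hef⟩ : ∃ f, q f = 0 ∧ polar q e f = 1 := by
        obtain ⟨y, hy⟩ : ∃ y, polar q e y ≠ 0 := by
          by_contra hc
          simp only [not_exists, not_not] at hc
          exact he0 (hnd e hc he)
        obtain ⟨f0, h1⟩ : ∃ f0, polar q e f0 = 1 :=
          ⟨(polar q e y)⁻¹ • y, by rw [q.polar_smul_right, smul_eq_mul, inv_mul_cancel₀ hy]⟩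
        refine ⟨f0 + (-q f0) • e, ?_, ?_⟩
        · rw [QuadraticMap.map_add q, q.map_smul, q.polar_smul_right, he, polar_comm q f0, h1]; simp
        · rw [q.polar_add_right, q.polar_smul_right, q.polar_self, he, h1]; simp
      obtain ⟨r1, hr1, e1⟩ := exists_move q he hf (hg e ▸ he) (hg f ▸ hf) hef ((hgp e f).trans hef)
      have hf1 : q (r1 (g f)) = 0 := by rw [hr1.map_eq, hg, hf]
      have hef1 : polar q e (r1 (g f)) = 1 := by
        conv_lhs => arg 2; rw [← e1]
        simp only [polar, ← map_add, hr1.map_eq, hg]
        exact hef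
      obtain ⟨r2, hr2, e2, f2⟩ := exists_move_fix q hnd he hf hf1 hef hef1
      set h := r2 * r1 * g with hh
      have hhe : h e = e := by rw [hh, Module.End.mul_apply, Module.End.mul_apply, e1, e2]
      have hhf : h f = f := by rw [hh, Module.End.mul_apply, Module.End.mul_apply, f2]
      have hhq : ∀ w, q (h w) = q w := fun w => by
        rw [hh, Module.End.mul_apply, Module.End.mul_apply, hr2.map_eq, hr1.map_eq, hg]
      have hhp : ∀ x y, polar q (h x) (h y) = polar q x y := fun x y => by simp only [polar, ← map_add, hhq]
      have hhi : Function.Injective h := by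
        obtain ⟨s1, -, i1⟩ := hr1.exists_inv
        obtain ⟨s2, -, i2⟩ := hr2.exists_inv
        intro x y hxy
        refine hinj ?_
        have := congrArg (fun z => s1 (s2 z)) hxy
        simp only [hh, Module.End.mul_apply] at this
        simpa only [← Module.End.mul_apply, ← mul_assoc, mul_assoc s1, i2, mul_one, i1, one_mul, Module.End.one_apply] using this
      let W : Submodule K V := LinearMap.ker (q.polarBilin e) ⊓ LinearMap.ker (q.polarBilin f)
      have hmemW : ∀ w, w ∈ W ↔ polar q e w = 0 ∧ polar q f w = 0 := fun w => Iff.rfl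
      let pr : V → V := fun x => x + (-polar q f x) • e + (-polar q e x) • f
      have hpr : ∀ x, pr x ∈ W := fun x => by
        rw [hmemW]
        constructor
        · simp only [pr, q.polar_add_right, q.polar_smul_right, q.polar_self, he, hef, smul_eq_mul]; simp
        · simp only [pr, q.polar_add_right, q.polar_smul_right, q.polar_self, hf, polar_comm q f e, hef, smul_eq_mul]
          simp
      have hWh : ∀ w ∈ W, h w ∈ W := fun w hw => by
        rw [hmemW] at hw ⊢
        constructor
        · conv_lhs => arg 2; rw [← hhe]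
          rw [hhp]; exact hw.1
        · conv_lhs => arg 2; rw [← hhf]
          rw [hhp]; exact hw.2
      have hlt : Module.finrank K W < d := by
        rw [← hd]
        refine Submodule.finrank_lt fun htop => ?_
        have : f ∈ W := by rw [htop]; trivial
        exact one_ne_zero (hef.symm.trans ((hmemW f).mp this).1)
      have hndW : NonDeg (q.comp W.subtype) := fun w hw hq => by
        refine Subtype.ext (hnd w.1 (fun x => ?_) hq)
        have e0 : x = pr x + (polar q f x) • e + (polar q e x) • f := by simp only [pr]; module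
        have h0 : polar q w.1 (pr x) = 0 := hw ⟨_, hpr x⟩
        rw [e0, q.polar_add_right, q.polar_add_right, q.polar_smul_right, q.polar_smul_right, h0,
          polar_comm q w.1 e, ((hmemW w.1).mp w.2).1, polar_comm q w.1 f, ((hmemW w.1).mp w.2).2]
        simp
      obtain ⟨l, hl, hlh⟩ := ih _ hlt rfl (q.comp W.subtype) hndW (h.restrict hWh)
        (fun w => hhq w.1) (fun x y hxy => Subtype.ext (hhi (congrArg Subtype.val hxy)))
      have hval : ∀ (l : List W) (w : W), ((l.map W.subtype).map (reflEnd q)).prod w.1 =
          (((l.map (reflEnd (q.comp W.subtype))).prod w : W) : V) := by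
        intro l
        induction l with
        | nil => exact fun w => rfl
        | cons v l ihl =>
          intro w
          simp only [List.map_cons, List.prod_cons, Module.End.mul_apply]
          rw [ihl, reflEnd_apply, reflEnd_apply]
          simp [polar]
      have hfix : ∀ (l : List W) (x : V),
          (∀ w ∈ W, polar q w x = 0) → ((l.map W.subtype).map (reflEnd q)).prod x = x := by
        intro l x hx
        induction l with
        | nil => rfl
        | cons v l ihl =>
          simp only [List.map_cons, List.prod_cons, Module.End.mul_apply]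
          rw [ihl, reflEnd_fix q]
          exact hx _ v.2
      have hheq : h = ((l.map W.subtype).map (reflEnd q)).prod := by
        refine LinearMap.ext fun x => ?_
        have e0 : x = pr x + (polar q f x) • e + (polar q e x) • f := by simp only [pr]; module
        rw [e0]
        simp only [map_add, map_smul, hhe, hhf]
        rw [hfix l e (fun w hw => by rw [polar_comm q]; exact ((hmemW w).mp hw).1),
          hfix l f (fun w hw => by rw [polar_comm q]; exact ((hmemW w).mp hw).2),
          hval l ⟨pr x, hpr x⟩, ← hlh]
        rfl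
      have hhR : IsReflProd q h := ⟨l.map W.subtype, fun v hv => by
        obtain ⟨w, hw, rfl⟩ := List.mem_map.mp hv
        exact hl w hw, hheq⟩
      obtain ⟨s1, hs1, i1⟩ := hr1.exists_inv
      obtain ⟨s2, hs2, i2⟩ := hr2.exists_inv
      have : g = s1 * s2 * h := by
        rw [hh, ← mul_assoc, ← mul_assoc, mul_assoc s1 s2, i2, mul_one, i1, one_mul]
      rw [this]
      exact (hs1.mul hs2).mul hhR
    · simp only [not_exists, not_and] at hiso
      by_cases hV : ∃ v : V, v ≠ 0
      swap
      · simp only [not_exists, not_not] at hV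
        exact (show g = 1 from LinearMap.ext fun x => (hV _).trans (hV _).symm) ▸ isReflProd_one q
      obtain ⟨v, hv⟩ := hV
      have hqv : q v ≠ 0 := hiso v hv
      have hspan : ∀ x : V, ∃ c : K, x = c • v := by
        intro x
        by_contra hc
        simp only [not_exists] at hc
        obtain ⟨t, ht⟩ := IsAlgClosed.exists_root
          (Polynomial.C (q v) * Polynomial.X ^ 2 + Polynomial.C (polar q v x) * Polynomial.X + Polynomial.C (q x))
          (by rw [Polynomial.degree_quadratic hqv]; decide)
        simp only [Polynomial.IsRoot, Polynomial.eval_add, Polynomial.eval_mul, Polynomial.eval_C,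
          Polynomial.eval_pow, Polynomial.eval_X] at ht
        refine hiso (t • v + x) (fun h0 => hc (-t) ?_) ?_
        · rw [neg_smul, eq_neg_iff_add_eq_zero, add_comm, h0]
        · rw [QuadraticMap.map_add q, q.map_smul, q.polar_smul_left, smul_eq_mul, smul_eq_mul]
          linear_combination ht
      obtain ⟨c, hc⟩ := hspan (g v)
      have hc2 : c * c = 1 := by
        have := hg v
        rw [hc, q.map_smul, smul_eq_mul] at this
        exact mul_right_cancel₀ hqv (this.trans (one_mul _).symm)
      have hgc : ∀ x, g x = c • x := fun x => by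
        obtain ⟨a, rfl⟩ := hspan x
        rw [map_smul, hc, smul_comm]
      rcases mul_self_eq_one_iff.mp hc2 with rfl | rfl
      · exact (show g = 1 from LinearMap.ext fun x => by rw [hgc, one_smul]; rfl) ▸ isReflProd_one q
      · refine (show g = reflEnd q v from LinearMap.ext fun x => ?_) ▸ isReflProd_reflEnd hqv
        obtain ⟨a, rfl⟩ := hspan x
        rw [hgc, reflEnd_apply, q.polar_smul_right, q.polar_self, nsmul_eq_mul, Nat.cast_ofNat, smul_eq_mul]
        match_scalars
        field_simp
        ring

end Groth.Agent.Quad37
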