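import Mathlib.LinearAlgebra.Span.Basic
import Mathlib.Data.List.FinRange
import Mathlib.Algebra.Module.LinearMap.End

set_option autoImplicit false

universe u v

namespace Groth.Agent.Quad37

variable {R : Type u} [CommRing R] {N : Type v} [AddCommGroup N] [Module R N] {n : ℕ}

/-- Annihilators `a i` and creators `b i` with the canonical anticommutation relations (no relation is
asked among the creators). -/
structure IsCAR (a b : Fin n → N →ₗ[R] N) : Prop where
  sq : ∀ i x, a i (a i x) = 0
  anti : ∀ i j x, a i (a j x) = -a j (a i x)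
  rel : ∀ i j x, a i (b j x) + b j (a i x) = if i = j then x else 0

/-- Composite of the annihilators along a list, the head applied first. -/
def annL (a : Fin n → N →ₗ[R] N) : List (Fin n) → N →ₗ[R] N
  | [] => LinearMap.id
  | i :: l => (annL a l).comp (a i)

/-- Composite of the projectors `a i ∘ b i`. -/
def projL (a b : Fin n → N →ₗ[R] N) : List (Fin n) → N →ₗ[R] N
  | [] => LinearMap.id
  | i :: l => ((a i).comp (b i)).comp (projL a b l)

/-- The projector on the joint kernel of the annihilators. -/
def projK (a b : Fin n → N →ₗ[R] N) : N →ₗ[R] N := projL a b (List.finRange n)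

variable {a b : Fin n → N →ₗ[R] N}

theorem IsCAR.comm_ab (h : IsCAR a b) {i j : Fin n} (hij : i ≠ j) (x : N) :
    a i (b j x) = -b j (a i x) := by
  rw [eq_neg_iff_add_eq_zero, h.rel, if_neg hij]

theorem IsCAR.split (h : IsCAR a b) (i : Fin n) (x : N) : a i (b i x) + b i (a i x) = x := by
  rw [h.rel, if_pos rfl]

theorem IsCAR.ab_of_ker (h : IsCAR a b) {i : Fin n} {x : N} (hx : a i x = 0) : a i (b i x) = x := by
  have := h.split i x
  rwa [hx, map_zero, add_zero] at this

theorem IsCAR.comm_aP (h : IsCAR a b) {i j : Fin n} (hij : j ≠ i) (x : N) :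
    a j (a i (b i x)) = a i (b i (a j x)) := by
  rw [h.anti, h.comm_ab hij, map_neg, neg_neg]

theorem IsCAR.ann_kills (h : IsCAR a b) {t : Fin n} : ∀ {l : List (Fin n)} {x : N},
    t ∈ l → a t x = 0 → annL a l x = 0
  | [], _, ht, _ => by simp at ht
  | i :: l, x, ht, hx => by
    simp only [annL, LinearMap.comp_apply]
    by_cases hti : t = i
    · subst hti; rw [hx, map_zero]
    · refine h.ann_kills ((List.mem_cons.mp ht).resolve_left hti) ?_
      rw [h.anti, hx, map_zero, neg_zero]

theorem IsCAR.ann_a (h : IsCAR a b) {t : Fin n} {l : List (Fin n)} (ht : t ∈ l) (x : N) :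
    annL a l (a t x) = 0 := h.ann_kills ht (h.sq t x)

theorem IsCAR.a_projL (h : IsCAR a b) {t : Fin n} : ∀ {l : List (Fin n)}, t ∈ l → ∀ x,
    a t (projL a b l x) = 0
  | [], ht, _ => by simp at ht
  | i :: l, ht, x => by
    simp only [projL, LinearMap.comp_apply]
    by_cases hti : t = i
    · subst hti; exact h.sq _ _
    · rw [h.comm_aP hti, h.a_projL ((List.mem_cons.mp ht).resolve_left hti), map_zero, map_zero]

theorem IsCAR.projL_of_ker (h : IsCAR a b) : ∀ {l : List (Fin n)} {x : N},
    (∀ i ∈ l, a i x = 0) → projL a b l x = x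
  | [], _, _ => rfl
  | i :: l, x, hx => by
    simp only [projL, LinearMap.comp_apply]
    rw [h.projL_of_ker fun j hj => hx j (List.mem_cons_of_mem _ hj),
      h.ab_of_ker (hx i (List.mem_cons_self ..))]

theorem IsCAR.a_projK (h : IsCAR a b) (i : Fin n) (x : N) : a i (projK a b x) = 0 :=
  h.a_projL (List.mem_finRange i) x

theorem IsCAR.projK_of_ker (h : IsCAR a b) {x : N} (hx : ∀ i, a i x = 0) : projK a b x = x :=
  h.projL_of_ker fun i _ => hx i

theorem IsCAR.mem_of_ker_list (h : IsCAR a b) (S : List (Fin n) → Submodule R N)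
    (h0 : ∀ x, (∀ i, a i x = 0) → x ∈ S [])
    (hcons : ∀ i l, i ∉ l → S l ≤ S (i :: l) ∧ ∀ x ∈ S l, b i x ∈ S (i :: l)) :
    ∀ l : List (Fin n), l.Nodup → ∀ y, (∀ i, i ∉ l → a i y = 0) → y ∈ S l
  | [], _, y, hy => h0 y fun i => hy i (by simp)
  | i :: l, hl, y, hy => by
    rw [List.nodup_cons] at hl
    have hrec := h.mem_of_ker_list S h0 hcons l hl.2
    have h1 : a i (b i y) ∈ S l := hrec _ fun j hj => by
      by_cases hji : j = i
      · subst hji; exact h.sq _ _
      · rw [h.comm_aP hji, hy j (by simp [hji, hj]), map_zero, map_zero]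
    have h2 : a i y ∈ S l := hrec _ fun j hj => by
      by_cases hji : j = i
      · subst hji; exact h.sq _ _
      · rw [h.anti, hy j (by simp [hji, hj]), map_zero, neg_zero]
    rw [← h.split i y]
    exact add_mem ((hcons i l hl.1).1 h1) ((hcons i l hl.1).2 _ h2)

/-- A submodule stable under the creators and containing the joint kernel is everything. -/
theorem IsCAR.eq_top (h : IsCAR a b) {S : Submodule R N} (hb : ∀ i, ∀ x ∈ S, b i x ∈ S)
    (hk : ∀ x, (∀ i, a i x = 0) → x ∈ S) (y : N) : y ∈ S :=
  h.mem_of_ker_list (fun _ => S) hk (fun i _ _ => ⟨le_rfl, hb i⟩) _ (List.nodup_finRange n) y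
    fun i hi => absurd (List.mem_finRange i) hi

/-- Intertwiners of CAR data commute with the projectors. -/
theorem projL_natural {N' : Type*} [AddCommGroup N'] {R' : Type*} [CommRing R'] [Module R' N']
    {a' b' : Fin n → N' →ₗ[R'] N'} (f : N →+ N') (ha : ∀ i x, f (a i x) = a' i (f x))
    (hb : ∀ i x, f (b i x) = b' i (f x)) : ∀ (l : List (Fin n)) (x : N),
    f (projL a b l x) = projL a' b' l (f x)
  | [], _ => rfl
  | i :: l, x => by
    simp only [projL, LinearMap.comp_apply]
    rw [ha, hb, projL_natural f ha hb l x]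

theorem IsCAR.P_comm (h : IsCAR a b) (hbb : ∀ i j x, b i (b j x) = -b j (b i x)) {i j : Fin n}
    (hij : i ≠ j) (x : N) : a i (b i (a j (b j x))) = a j (b j (a i (b i x))) := by
  have h1 : b i (a j (b j x)) = -a j (b i (b j x)) := by rw [h.comm_ab hij.symm, neg_neg]
  have h2 : b j (a i (b i x)) = -a i (b j (b i x)) := by rw [h.comm_ab hij, neg_neg]
  simp only [h1, h2, map_neg]
  rw [hbb j i, map_neg, map_neg, neg_neg, h.anti j i]

theorem IsCAR.projL_P (h : IsCAR a b) (hbb : ∀ i j x, b i (b j x) = -b j (b i x)) {j : Fin n} :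
    ∀ {l : List (Fin n)}, j ∈ l → ∀ x, projL a b l (a j (b j x)) = projL a b l x := by
  have hcomm : ∀ (l : List (Fin n)) x, projL a b l (a j (b j x)) = a j (b j (projL a b l x)) := by
    intro l
    induction l with
    | nil => intro x; rfl
    | cons i l ih =>
      intro x
      simp only [projL, LinearMap.comp_apply]
      rw [ih]
      by_cases hij : i = j
      · subst hij; rfl
      · rw [h.P_comm hbb hij]
  intro l
  induction l with
  | nil => intro hj; simp at hj
  | cons i l ih =>
    intro hj x
    simp only [projL, LinearMap.comp_apply]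
    by_cases hij : j = i
    · subst hij
      rw [hcomm, h.ab_of_ker (h.sq _ _)]
    · rw [ih ((List.mem_cons.mp hj).resolve_left hij)]

end Groth.Agent.Quad37
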