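import Groth.Agent.Quad37.OddBasis
import Groth.Agent.Quad37.BaseChange
import Mathlib.LinearAlgebra.Dimension.StrongRankCondition
import Mathlib.LinearAlgebra.Dimension.Constructions
import Mathlib.RingTheory.TensorProduct.Free
import Mathlib.LinearAlgebra.QuadraticForm.Radical

set_option autoImplicit false

universe u v w

namespace Groth.Agent.Quad37

open scoped TensorProduct

section BCForm

variable {R : Type u} [CommRing R] {M : Type v} [AddCommGroup M] [Module R M] [Module.Free R M]
  (A : Type w) [CommRing A] [Algebra R A] (Q : QuadraticForm R M)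

theorem baseChangeForm_tmul (a : A) (x : M) :
    QuadGrp.baseChangeForm A Q (a ⊗ₜ[R] x) = algebraMap R A (Q x) * (a * a) := by
  rw [QuadGrp.baseChangeForm, LinearMap.compQuadraticMap_apply, QuadGrp.baseChange_tmul, LinearEquiv.coe_coe,
    TensorProduct.AlgebraTensorModule.rid_tmul, Algebra.smul_def]

theorem polar_baseChangeForm_one (x y : M) :
    QuadraticMap.polar (QuadGrp.baseChangeForm A Q) (1 ⊗ₜ[R] x) (1 ⊗ₜ[R] y) =
      algebraMap R A (QuadraticMap.polar Q x y) := by
  simp only [QuadraticMap.polar, ← TensorProduct.tmul_add, baseChangeForm_tmul, mul_one, map_sub]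

theorem halfDisc_baseChangeForm {n : ℕ} (b : Module.Basis (Fin n) R M) :
    QuadGrp.halfDisc (Algebra.TensorProduct.basis A b) (LinearEquiv.refl A A) (QuadGrp.baseChangeForm A Q) =
      algebraMap R A (QuadGrp.halfDisc b (LinearEquiv.refl R R) Q) := by
  rw [← halfDisc_formBC]
  refine halfDisc_congr (fun i => ?_) (fun i j _ => ?_)
  · rw [Algebra.TensorProduct.basis_apply, baseChangeForm_tmul, ← vecBC_basis b A, formBC_vecBC, one_mul, mul_one]
  · rw [Algebra.TensorProduct.basis_apply, Algebra.TensorProduct.basis_apply, polar_baseChangeForm_one,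
      ← vecBC_basis b A, ← vecBC_basis b A, polar_vecBC]

end BCForm

section Field

variable {K : Type u} [Field K] {M : Type v} [AddCommGroup M] [Module K M] {m : ℕ}

theorem isUnit_halfDisc_iff_nondegenerate (b : Module.Basis (Fin (2 * m + 1)) K M) (Q : QuadraticForm K M) :
    IsUnit (QuadGrp.halfDisc b (LinearEquiv.refl K K) Q) ↔ Q.Nondegenerate := by
  classical
  have hodd : Odd (2 * m + 1) := odd_two_mul_add_one m
  have hmemrad : ∀ v, v ∈ Q.radical ↔ Q v = 0 ∧ Q.polarBilin v = 0 := fun v => Iff.rfl
  constructor
  · intro hQ
    obtain ⟨b', ho, hc, hG⟩ := exists_orth_basis (even_two_mul m) b Q hQ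
    have hker : Q.polarBilin.ker ≤ Submodule.span K {b' 0} := by
      intro x hx
      rw [LinearMap.mem_ker] at hx
      have h0 : Matrix.vecMul (fun i : Fin (2 * m) => b'.repr x i.succ) (restGram b' Q) = 0 := by
        funext j
        have h := LinearMap.congr_fun hx (b' j.succ)
        rw [← b'.sum_repr x, map_sum, LinearMap.sum_apply, Fin.sum_univ_succ, map_smul, LinearMap.smul_apply,
          QuadraticMap.polarBilin_apply_apply, ho, smul_zero, zero_add] at h
        rw [Pi.zero_apply, Matrix.vecMul, dotProduct]
        rw [LinearMap.zero_apply] at h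
        refine Eq.trans ?_ h
        simp [restGram]
      have h1 : (fun i : Fin (2 * m) => b'.repr x i.succ) = 0 :=
        Matrix.eq_zero_of_vecMul_eq_zero hG.ne_zero h0
      rw [← b'.sum_repr x, Fin.sum_univ_succ]
      refine add_mem (Submodule.smul_mem _ _ (Submodule.mem_span_singleton_self _)) (Submodule.sum_mem _ fun i _ => ?_)
      rw [show b'.repr x i.succ = 0 from congrFun h1 i, zero_smul]
      exact zero_mem _
    refine ⟨(Submodule.eq_bot_iff _).mpr fun x hx => ?_, ?_⟩
    · obtain ⟨t, rfl⟩ := Submodule.mem_span_singleton.mp (hker (Q.radical_le_ker_polarBilin hx))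
      have h := ((hmemrad _).mp hx).1
      rw [QuadraticMap.map_smul, smul_eq_mul, mul_eq_zero, or_iff_left hc.ne_zero, mul_self_eq_zero] at h
      rw [h, zero_smul]
    · refine (Submodule.rank_mono hker).trans ?_
      exact (rank_span_le _).trans (by simp)
  · intro hN
    by_cases hbot : Q.polarBilin.ker = ⊥
    · have hdet : (LinearMap.toMatrix₂ b b Q.polarBilin).det ≠ 0 := by
        intro h0
        obtain ⟨x, hx0, hx⟩ := Matrix.exists_vecMul_eq_zero_iff.mpr h0
        refine hx0 (funext fun i => ?_)
        have hv : (∑ j, x j • b j) ∈ Q.polarBilin.ker := by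
          rw [LinearMap.mem_ker]
          refine b.ext fun l => ?_
          rw [LinearMap.zero_apply, map_sum, LinearMap.sum_apply]
          have := congrFun hx l
          rw [Matrix.vecMul, dotProduct, Pi.zero_apply] at this
          rw [← this]
          simp [LinearMap.toMatrix₂_apply]
        rw [hbot, Submodule.mem_bot] at hv
        have := congrArg (fun y => b.repr y i) hv
        simp only [b.repr_sum_self, map_zero, Finsupp.zero_apply] at this
        exact this
      rw [← disc_eq_det, disc_eq_two_mul hodd] at hdet
      exact (right_ne_zero_of_mul hdet).isUnit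
    · obtain ⟨v, hv, hv0⟩ := Submodule.exists_mem_ne_zero_of_ne_bot hbot
      obtain ⟨i, hi⟩ : ∃ i, b.repr v i ≠ 0 := by
        by_contra hc
        simp only [not_exists, not_not] at hc
        exact hv0 (b.ext_elem fun i => by simp [hc i])
      obtain ⟨b', hb'⟩ := exists_basis_first b hi.isUnit
      rw [LinearMap.mem_ker] at hv
      have ho : ∀ j : Fin (2 * m), QuadraticMap.polar Q (b' 0) (b' j.succ) = 0 := fun j => by
        rw [hb', ← QuadraticMap.polarBilin_apply_apply, hv, LinearMap.zero_apply]
      have h' : IsUnit (QuadGrp.halfDisc b' (LinearEquiv.refl K K) Q) := by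
        rw [halfDisc_orth (even_two_mul m) b' Q ho, isUnit_iff_ne_zero]
        refine mul_ne_zero ?_ ?_
        · intro h
          rw [hb'] at h
          exact hv0 ((Submodule.eq_bot_iff _).mp hN.radical_eq_bot v ((hmemrad _).mpr ⟨h, hv⟩))
        · intro h
          obtain ⟨x, hx0, hx⟩ := Matrix.exists_vecMul_eq_zero_iff.mpr h
          set z := ∑ j, x j • b' j.succ
          have hz : z ∈ Q.polarBilin.ker := by
            rw [LinearMap.mem_ker]
            refine b'.ext fun l => ?_
            rw [LinearMap.zero_apply]
            rcases Fin.eq_zero_or_eq_succ l with rfl | ⟨l, rfl⟩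
            · rw [hb', QuadraticMap.polarBilin_apply_apply, QuadraticMap.polar_comm,
                ← QuadraticMap.polarBilin_apply_apply, hv, LinearMap.zero_apply]
            · have := congrFun hx l
              rw [Matrix.vecMul, dotProduct, Pi.zero_apply] at this
              rw [← this]
              simp [z, restGram]
          have hli : LinearIndependent K ![(⟨v, LinearMap.mem_ker.mpr hv⟩ : Q.polarBilin.ker), ⟨z, hz⟩] := by
            rw [LinearIndependent.pair_iff]
            intro r s hrs
            have hrs' : r • b' 0 + ∑ j, (s * x j) • b' j.succ = 0 := by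
              have := congrArg Subtype.val hrs
              rw [Submodule.coe_add, Submodule.coe_smul, Submodule.coe_smul] at this
              simpa [hb', z, Finset.smul_sum, smul_smul] using this
            have hco : ∀ l, (Fin.cons r (fun j => s * x j) : Fin (2 * m + 1) → K) l = 0 := by
              intro l
              have h2 : ∑ l, (Fin.cons r (fun j => s * x j) : Fin (2 * m + 1) → K) l • b' l = 0 := by
                rw [Fin.sum_univ_succ]; simpa using hrs'
              exact Fintype.linearIndependent_iff.mp b'.linearIndependent _ h2 l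
            refine ⟨by simpa using hco 0, ?_⟩
            obtain ⟨j, hj⟩ := Function.ne_iff.mp hx0
            have := hco j.succ
            rw [Fin.cons_succ, mul_eq_zero] at this
            exact this.resolve_right hj
          have h2 := hli.cardinal_lift_le_rank
          simp at h2
          exact absurd (h2.trans hN.rank_rad_polar_le) (by norm_num)
      exact isSemiregular_basis hodd b h'

end Field

end Groth.Agent.Quad37
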