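import Groth.Agent.Quad37.Conj
import Mathlib.RingTheory.Ideal.Maps

set_option autoImplicit false

universe u v

namespace Groth.Agent.Quad37

open CliffordAlgebra

variable {R : Type u} [CommRing R] {M : Type v} [AddCommGroup M] [Module R M] {n : ℕ}
  {Q : QuadraticForm R M} (b : Module.Basis (Fin n) R M)

theorem polar_isometry {g : M ≃ₗ[R] M} (hg : g ∈ QuadGrp.O Q) (v w : M) :
    QuadraticMap.polar Q (g v) (g w) = QuadraticMap.polar Q v w := by
  simp only [QuadraticMap.polar, ← map_add, show ∀ x, Q (g x) = Q x from hg]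

/-- `x ↦ ι (g v) x - involute x ι v`. -/
noncomputable def aT (g : M ≃ₗ[R] M) (v : M) : CliffordAlgebra Q →ₗ[R] CliffordAlgebra Q :=
  LinearMap.mulLeft R (ι Q (g v)) - (LinearMap.mulRight R (ι Q v)).comp (involute (Q := Q)).toLinearMap

theorem aT_apply (g : M ≃ₗ[R] M) (v : M) (x : CliffordAlgebra Q) :
    aT g v x = ι Q (g v) * x - involute x * ι Q v := rfl

theorem aT_add (g : M ≃ₗ[R] M) (v w : M) (x : CliffordAlgebra Q) :
    aT g (v + w) x = aT g v x + aT g w x := by
  simp only [aT_apply, map_add]; noncomm_ring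

theorem aT_smul (g : M ≃ₗ[R] M) (c : R) (v : M) (x : CliffordAlgebra Q) :
    aT g (c • v) x = c • aT g v x := by
  simp only [aT_apply, map_smul, smul_mul_assoc, mul_smul_comm, smul_sub]

theorem aT_sum {ι' : Type*} (g : M ≃ₗ[R] M) (s : Finset ι') (v : ι' → M) (x : CliffordAlgebra Q) :
    aT g (∑ i ∈ s, v i) x = ∑ i ∈ s, aT g (v i) x := by
  simp only [aT_apply, map_sum, Finset.sum_mul, Finset.mul_sum, Finset.sum_sub_distrib]

theorem aT_sq {g : M ≃ₗ[R] M} (hg : g ∈ QuadGrp.O Q) (v : M) (x : CliffordAlgebra Q) :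
    aT g v (aT g v x) = 0 := by
  simp only [aT_apply, map_sub, map_mul, involute_ι, involute_involute]
  have h1 : ι Q (g v) * (ι Q (g v) * x) = Q v • x := by
    rw [← mul_assoc, ι_sq_scalar, show Q (g v) = Q v from hg v, Algebra.smul_def]
  have h2 : x * ι Q v * ι Q v = Q v • x := by
    rw [mul_assoc, ι_sq_scalar, mul_scalar_eq]
  rw [show ι Q (g v) * (ι Q (g v) * x) - -ι Q (g v) * involute x * ι Q v -
      (ι Q (g v) * (involute x * ι Q v) - x * -ι Q v * ι Q v) =
    ι Q (g v) * (ι Q (g v) * x) - x * ι Q v * ι Q v by noncomm_ring, h1, h2, sub_self]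

theorem aT_anti {g : M ≃ₗ[R] M} (hg : g ∈ QuadGrp.O Q) (v w : M) (x : CliffordAlgebra Q) :
    aT g v (aT g w x) = -aT g w (aT g v x) := by
  have h := aT_sq hg (v + w) x
  simp only [aT_add, map_add, aT_sq hg, zero_add, add_zero] at h
  rw [add_comm] at h
  exact eq_neg_of_add_eq_zero_left h

theorem aT_rel {g : M ≃ₗ[R] M} (hg : g ∈ QuadGrp.O Q) (v w : M) (x : CliffordAlgebra Q) :
    aT g v (ι Q (g w) * x) + ι Q (g w) * aT g v x = QuadraticMap.polar Q v w • x := by
  simp only [aT_apply, map_mul, involute_ι]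
  rw [show ι Q (g v) * (ι Q (g w) * x) - -ι Q (g w) * involute x * ι Q v +
      ι Q (g w) * (ι Q (g v) * x - involute x * ι Q v) =
      (ι Q (g v) * ι Q (g w) + ι Q (g w) * ι Q (g v)) * x by noncomm_ring,
    ι_mul_ι_add_swap, polar_isometry hg, Algebra.smul_def]

/-- The twisted intertwiners of an isometry. -/
noncomputable def Tw (Q : QuadraticForm R M) (g : M ≃ₗ[R] M) : Submodule R (CliffordAlgebra Q) :=
  ⨅ v, LinearMap.ker (aT g v)

theorem mem_Tw {g : M ≃ₗ[R] M} {p : CliffordAlgebra Q} :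
    p ∈ Tw Q g ↔ ∀ v, ι Q (g v) * p = involute p * ι Q v := by
  simp [Tw, aT_apply, sub_eq_zero]

theorem Tw_mul {g h : M ≃ₗ[R] M} {p q : CliffordAlgebra Q} (hp : p ∈ Tw Q g) (hq : q ∈ Tw Q h) :
    p * q ∈ Tw Q (g * h) := by
  rw [mem_Tw] at hp hq ⊢
  intro v
  rw [LinearEquiv.mul_apply, ← mul_assoc, hp, mul_assoc, hq, map_mul, mul_assoc]

section Regular

variable (hQ : QuadGrp.IsRegular Q)

/-- The polar form as an equivalence with the dual. -/
noncomputable def polarEquiv : M ≃ₗ[R] Module.Dual R M := LinearEquiv.ofBijective Q.polarBilin hQ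

/-- The dual basis for the polar form. -/
noncomputable def dualVec (i : Fin n) : M := (polarEquiv hQ).symm (b.coord i)

theorem polar_dualVec (i : Fin n) (w : M) : QuadraticMap.polar Q (dualVec b hQ i) w = b.coord i w := by
  have h := LinearEquiv.apply_symm_apply (polarEquiv hQ) (b.coord i)
  exact LinearMap.congr_fun h w

theorem sum_dualVec (v : M) : ∑ i, QuadraticMap.polar Q v (b i) • dualVec b hQ i = v := by
  apply (polarEquiv hQ).injective
  rw [map_sum]
  simp only [map_smul, dualVec, LinearEquiv.apply_symm_apply]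
  exact b.sum_dual_apply_smul_coord (Q.polarBilin v)

theorem isCAR_T {g : M ≃ₗ[R] M} (hg : g ∈ QuadGrp.O Q) :
    IsCAR (fun i => aT g (dualVec b hQ i)) (fun i => LinearMap.mulLeft R (ι Q (g (b i)))) where
  sq i x := aT_sq hg _ x
  anti i j x := aT_anti hg _ _ x
  rel i j x := by
    simp only [LinearMap.mulLeft_apply, aT_rel hg, polar_dualVec, b.coord_apply, b.repr_self,
      Finsupp.single_apply]
    by_cases hij : i = j
    · subst hij; simp
    · simp [hij, Ne.symm hij]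

include hQ in
theorem mem_Tw_iff_dual (g : M ≃ₗ[R] M) {p : CliffordAlgebra Q} :
    p ∈ Tw Q g ↔ ∀ i, aT g (dualVec b hQ i) p = 0 := by
  constructor
  · intro h i; rw [aT_apply, sub_eq_zero]; exact mem_Tw.mp h _
  · intro h
    rw [mem_Tw]
    intro v
    rw [← sub_eq_zero, ← aT_apply, ← sum_dualVec b hQ v, aT_sum]
    exact Finset.sum_eq_zero fun i _ => by rw [aT_smul, h, smul_zero]

include b hQ in
/-- The whole algebra is generated by the twisted intertwiners as a left ideal. -/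
theorem mem_span_mul_Tw {g : M ≃ₗ[R] M} (hg : g ∈ QuadGrp.O Q) (x : CliffordAlgebra Q) :
    x ∈ Submodule.span R {y | ∃ c, ∃ p ∈ Tw Q g, c * p = y} := by
  refine (isCAR_T b hQ hg).eq_top (fun i y hy => ?_) (fun y hy => ?_) x
  · refine (Submodule.span_le (p := (Submodule.span R {y | ∃ c, ∃ p ∈ Tw Q g, c * p = y}).comap
      (LinearMap.mulLeft R (ι Q (g (b i)))))).mpr ?_ hy
    rintro _ ⟨c, p, hp, rfl⟩
    exact Submodule.subset_span ⟨ι Q (g (b i)) * c, p, hp, mul_assoc _ _ _⟩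
  · exact Submodule.subset_span ⟨1, y, (mem_Tw_iff_dual b hQ g).mpr hy, one_mul y⟩

include b hQ in
theorem Tw_one {p : CliffordAlgebra Q} (hp : p ∈ Tw Q (1 : M ≃ₗ[R] M)) :
    p = algebraMap R _ (scal Q b p) := by
  refine eq_scal_of_ker Q b fun i => ?_
  have h := supercomm_eq Q (dualVec b hQ i) p
  rw [sub_eq_zero.mpr (by simpa using mem_Tw.mp hp (dualVec b hQ i))] at h
  have e : Q.polarBilin (dualVec b hQ i) = b.coord i := LinearEquiv.apply_symm_apply (polarEquiv hQ) _
  rw [e] at h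
  exact h.symm

theorem Tw_parts {g : M ≃ₗ[R] M} {p0 p1 : CliffordAlgebra Q} (h0 : p0 ∈ evenOdd Q 0)
    (h1 : p1 ∈ evenOdd Q 1) (h : p0 + p1 ∈ Tw Q g) : p0 ∈ Tw Q g ∧ p1 ∈ Tw Q g := by
  have key : ∀ v, aT g v p0 = 0 ∧ aT g v p1 = 0 := by
    intro v
    have hs : aT g v p1 + aT g v p0 = 0 := by
      rw [← map_add, add_comm, aT_apply, mem_Tw.mp h v, sub_self]
    have e1 : aT g v p1 ∈ evenOdd Q 0 := by
      rw [aT_apply, involute_eq_of_mem_odd h1, neg_mul, sub_neg_eq_add]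
      exact add_mem (mul_mem_parity (ι_mem_evenOdd_one Q _) h1 rfl)
        (mul_mem_parity h1 (ι_mem_evenOdd_one Q _) rfl)
    have e0 : aT g v p0 ∈ evenOdd Q 1 := by
      rw [aT_apply, involute_eq_of_mem_even h0]
      exact sub_mem (mul_mem_parity (ι_mem_evenOdd_one Q _) h0 rfl)
        (mul_mem_parity h0 (ι_mem_evenOdd_one Q _) rfl)
    exact ⟨(parts_zero e1 e0 hs).2, (parts_zero e1 e0 hs).1⟩
  refine ⟨?_, ?_⟩ <;> rw [mem_Tw] <;> intro v
  · exact sub_eq_zero.mp (key v).1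
  · exact sub_eq_zero.mp (key v).2

/-- Scalars which are products of homogeneous intertwiners of `g⁻¹` and `g`. -/
def pairSet (Q : QuadraticForm R M) (g : M ≃ₗ[R] M) : Set R :=
  {r | ∃ i : ZMod 2, ∃ q ∈ Tw Q g⁻¹, ∃ p ∈ Tw Q g, q ∈ evenOdd Q i ∧ p ∈ evenOdd Q i ∧
    q * p = algebraMap R (CliffordAlgebra Q) r}

include b hQ in
theorem qp_scalar {g : M ≃ₗ[R] M} {p q : CliffordAlgebra Q} (hq : q ∈ Tw Q g⁻¹) (hp : p ∈ Tw Q g) :
    q * p = algebraMap R _ (scal Q b (q * p)) :=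
  Tw_one b hQ (inv_mul_cancel g ▸ Tw_mul hq hp)

include b hQ in
theorem pq_scalar {g : M ≃ₗ[R] M} {p q : CliffordAlgebra Q} (hq : q ∈ Tw Q g⁻¹) (hp : p ∈ Tw Q g) :
    p * q = algebraMap R _ (scal Q b (p * q)) :=
  Tw_one b hQ (mul_inv_cancel g ▸ Tw_mul hp hq)

include b hQ in
theorem qp_cross {g : M ≃ₗ[R] M} {p q : CliffordAlgebra Q} (hq : q ∈ Tw Q g⁻¹) (hp : p ∈ Tw Q g)
    {i j : ZMod 2} (hi : q ∈ evenOdd Q i) (hj : p ∈ evenOdd Q j) (hij : i ≠ j) :
    q * p = 0 ∧ p * q = 0 := by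
  have hk : i + j = 1 := by fin_cases i <;> fin_cases j <;> first | exact absurd rfl hij | decide
  constructor
  · have h := qp_scalar b hQ hq hp
    have hs := scalar_odd_eq_zero b (r := scal Q b (q * p)) (h ▸ mul_mem_parity hi hj hk)
    rw [h, hs, map_zero]
  · have h := pq_scalar b hQ hq hp
    have hs := scalar_odd_eq_zero b (r := scal Q b (p * q)) (h ▸ mul_mem_parity hj hi (add_comm j i ▸ hk))
    rw [h, hs, map_zero]

include b hQ in
theorem one_mem_pairSpan {g : M ≃ₗ[R] M} (hg : g ∈ QuadGrp.O Q) :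
    (1 : R) ∈ Submodule.span R (pairSet Q g) := by
  set I := Submodule.span R (pairSet Q g)
  let J : Submodule R (CliffordAlgebra Q) := Submodule.span R {y | ∃ c, ∃ r ∈ I, c * algebraMap R _ r = y}
  have hqp : ∀ q ∈ Tw Q g⁻¹, ∀ p ∈ Tw Q g, ∃ r ∈ I, q * p = algebraMap R _ r := by
    intro q hq p hp
    obtain ⟨q0, hq0, q1, hq1, rfl⟩ := exists_parts q
    obtain ⟨p0, hp0, p1, hp1, rfl⟩ := exists_parts p
    obtain ⟨hq0', hq1'⟩ := Tw_parts hq0 hq1 hq
    obtain ⟨hp0', hp1'⟩ := Tw_parts hp0 hp1 hp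
    refine ⟨scal Q b (q0 * p0) + scal Q b (q1 * p1), ?_, ?_⟩
    · exact add_mem (Submodule.subset_span ⟨0, q0, hq0', p0, hp0', hq0, hp0, qp_scalar b hQ hq0' hp0'⟩)
        (Submodule.subset_span ⟨1, q1, hq1', p1, hp1', hq1, hp1, qp_scalar b hQ hq1' hp1'⟩)
    · rw [map_add, ← qp_scalar b hQ hq0' hp0', ← qp_scalar b hQ hq1' hp1',
        show (q0 + q1) * (p0 + p1) = q0 * p0 + q1 * p1 + (q0 * p1 + q1 * p0) by noncomm_ring,
        (qp_cross b hQ hq0' hp1' hq0 hp1 (by decide)).1, (qp_cross b hQ hq1' hp0' hq1 hp0 (by decide)).1,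
        add_zero, add_zero]
  have hJ : ∀ x, x ∈ J := by
    intro x
    refine (Submodule.span_le (p := J)).mpr ?_ (mem_span_mul_Tw b hQ hg x)
    rintro _ ⟨c, p, hp, rfl⟩
    refine (Submodule.span_le (p := J.comap (LinearMap.mulRight R p))).mpr ?_
      (mem_span_mul_Tw b hQ ((QuadGrp.O Q).inv_mem hg) c)
    rintro _ ⟨d, q, hq, rfl⟩
    obtain ⟨r, hr, hqpr⟩ := hqp q hq p hp
    exact Submodule.subset_span ⟨d, r, hr, by rw [← hqpr, LinearMap.mulRight_apply, mul_assoc]⟩
  have : J ≤ Submodule.comap (scal Q b) I := by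
    refine Submodule.span_le.mpr ?_
    rintro _ ⟨c, r, hr, rfl⟩
    rw [SetLike.mem_coe, Submodule.mem_comap, mul_scalar_eq, map_smul, smul_eq_mul]
    exact Ideal.mul_mem_right _ I hr
  simpa using this (hJ 1)

/-- A partition of one by homogeneous pairs of intertwiners. -/
structure Pairs (Q : QuadraticForm R M) (g : M ≃ₗ[R] M) where
  size : ℕ
  par : Fin size → ZMod 2
  q : Fin size → CliffordAlgebra Q
  p : Fin size → CliffordAlgebra Q
  r : Fin size → R
  q_mem : ∀ k, q k ∈ Tw Q g⁻¹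
  p_mem : ∀ k, p k ∈ Tw Q g
  q_par : ∀ k, q k ∈ evenOdd Q (par k)
  p_par : ∀ k, p k ∈ evenOdd Q (par k)
  qp : ∀ k, q k * p k = algebraMap R _ (r k)
  pq : ∀ k, p k * q k = algebraMap R _ (r k)
  sum_r : ∑ k, r k = 1

include b hQ in
theorem exists_pairs {g : M ≃ₗ[R] M} (hg : g ∈ QuadGrp.O Q) : Nonempty (Pairs Q g) := by
  classical
  obtain ⟨N, c, r, hr⟩ := Submodule.mem_span_set'.mp (one_mem_pairSpan b hQ hg)
  choose i q hq p hp hqi hpi hqp using fun k => (r k).2
  set q' : Fin N → CliffordAlgebra Q := fun k => c k • q k with hq'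
  set r' : Fin N → R := fun k => c k * (r k : R) with hr'
  have hqp' : ∀ k, q' k * p k = algebraMap R _ (r' k) := fun k => by
    rw [hq', hr']; simp only []; rw [smul_mul_assoc, hqp, map_mul, Algebra.smul_def]
  have hsum : ∑ k, r' k = 1 := by rw [← hr]; simp [hr']
  have hq'mem : ∀ k, q' k ∈ Tw Q g⁻¹ := fun k => Submodule.smul_mem _ _ (hq k)
  set s : Fin N → R := fun k => scal Q b (p k * q' k)
  have hs : ∀ k, p k * q' k = algebraMap R _ (s k) := fun k => pq_scalar b hQ (hq'mem k) (hp k)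
  set t : Fin N → Fin N → R := fun k l => scal Q b (q' k * p l)
  have ht : ∀ k l, q' k * p l = algebraMap R _ (t k l) := fun k l => qp_scalar b hQ (hq'mem k) (hp l)
  have htk : ∀ k, t k k = r' k := fun k => algebraMap_injective Q b (by rw [← ht, hqp'])
  have key : ∀ k l, s k * r' l = t k l * t l k := by
    intro k l
    apply algebraMap_injective Q b
    have hA : s k • p l = t k l • p k := by
      rw [← scalar_mul_eq, ← mul_scalar_eq (x := p k), ← hs, ← ht, mul_assoc]
    calc algebraMap R _ (s k * r' l) = q' l * (s k • p l) := by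
          rw [mul_smul_comm, hqp', map_mul, Algebra.smul_def]
      _ = algebraMap R _ (t k l * t l k) := by rw [hA, mul_smul_comm, ht, map_mul, Algebra.smul_def]
  have hsr : ∀ k, s k = r' k := by
    have hsk : ∀ k, s k = (∑ l, s l) * r' k := fun k => by
      rw [Finset.sum_mul, Finset.sum_congr rfl fun l _ => show s l * r' k = s k * r' l by
        rw [key, key, mul_comm], ← Finset.mul_sum, hsum, mul_one]
    have hsq : ∀ k, ((∑ l, s l) - 1) * (r' k ^ 2) = 0 := fun k => by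
      have h := key k k
      rw [htk, hsk k] at h
      linear_combination h
    have htop : Ideal.span (Set.range fun k => r' k ^ 2) = ⊤ := by
      have h1 : Ideal.span (Set.range r') = ⊤ := by
        rw [Ideal.eq_top_iff_one, ← hsum]
        exact Submodule.sum_mem _ fun k _ => Ideal.subset_span ⟨k, rfl⟩
      have h2 := Ideal.span_pow_eq_top _ h1 2
      rwa [← Set.range_comp] at h2
    have hS : (∑ l, s l) - 1 = 0 := by
      have h1 : (1 : R) ∈ Ideal.span (Set.range fun k => r' k ^ 2) := by rw [htop]; trivial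
      obtain ⟨d, hd⟩ := (Ideal.mem_span_range_iff_exists_fun).mp h1
      calc (∑ l, s l) - 1 = ((∑ l, s l) - 1) * ∑ k, d k * r' k ^ 2 := by rw [hd, mul_one]
        _ = 0 := by
          rw [Finset.mul_sum]
          exact Finset.sum_eq_zero fun k _ => by rw [mul_left_comm, hsq, mul_zero]
    intro k; rw [hsk k, sub_eq_zero.mp hS, one_mul]
  exact ⟨⟨N, i, q', p, r', hq'mem, hp, fun k => Submodule.smul_mem _ _ (hqi k), hpi, hqp',
    fun k => by rw [hs, hsr], hsum⟩⟩

end Regular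

end Groth.Agent.Quad37
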