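import Groth.Agent.Quad37.OddSplit
import Groth.Agent.Quad37.Twist

set_option autoImplicit false

universe u v

namespace Groth.Agent.Quad37

open CliffordAlgebra

variable {R : Type u} [CommRing R] {M : Type v} [AddCommGroup M] [Module R M] {Q : QuadraticForm R M} {m : ℕ}
  (D : OddSplit Q m)

/-- The dual vectors of the rest of the basis. -/
noncomputable def OddSplit.dual (j : Fin (2 * m)) : M :=
  ∑ i, ((restGram D.bas Q)⁻¹) j i • D.bas i.succ

theorem OddSplit.polar_dual (j l : Fin (2 * m)) :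
    QuadraticMap.polar Q (D.dual j) (D.bas l.succ) = if j = l then 1 else 0 := by
  have := congrFun (congrFun (Matrix.nonsing_inv_mul (restGram D.bas Q) D.gram) j) l
  rw [Matrix.mul_apply, Matrix.one_apply] at this
  rw [← this, OddSplit.dual, ← QuadraticMap.polarBilin_apply_apply, map_sum, LinearMap.sum_apply]
  simp [restGram]

theorem OddSplit.isCAR {g : M ≃ₗ[R] M} (hg : g ∈ QuadGrp.O Q) :
    IsCAR (fun j => aT g (D.dual j)) (fun j : Fin (2 * m) => LinearMap.mulLeft R (ι Q (g (D.bas j.succ)))) where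
  sq i x := aT_sq hg _ x
  anti i j x := aT_anti hg _ _ x
  rel i j x := by
    simp only [LinearMap.mulLeft_apply, aT_rel hg, D.polar_dual]
    by_cases hij : i = j
    · subst hij; simp
    · simp [hij]

theorem OddSplit.aT_eq_zero_rest {g : M ≃ₗ[R] M} {p : CliffordAlgebra Q} (h : ∀ j, aT g (D.dual j) p = 0) {v : M}
    (hv : v ∈ Submodule.span R (Set.range fun j : Fin (2 * m) => D.bas j.succ)) : aT g v p = 0 := by
  induction hv using Submodule.span_induction with
  | mem x hx =>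
    obtain ⟨l, rfl⟩ := hx
    have e : D.bas l.succ = ∑ j, restGram D.bas Q l j • D.dual j := by
      simp only [OddSplit.dual, Finset.smul_sum, smul_smul]
      rw [Finset.sum_comm]
      simp only [← Finset.sum_smul, ← Matrix.mul_apply, Matrix.mul_nonsing_inv _ D.gram]
      simp [Matrix.one_apply]
    show aT g (D.bas l.succ) p = 0
    rw [e, aT_sum]
    exact Finset.sum_eq_zero fun j _ => by rw [aT_smul, h, smul_zero]
  | zero => simp [aT_apply]
  | add x y _ _ hx hy => rw [aT_add, hx, hy, add_zero]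
  | smul r x _ hx => rw [aT_smul, hx, smul_zero]

/-- Even intertwiners. -/
noncomputable def Ev (Q : QuadraticForm R M) (g : M ≃ₗ[R] M) : Submodule R (CliffordAlgebra Q) :=
  Tw Q g ⊓ evenOdd Q 0

theorem mem_Ev {g : M ≃ₗ[R] M} {p : CliffordAlgebra Q} :
    p ∈ Ev Q g ↔ p ∈ evenOdd Q 0 ∧ ∀ v, ι Q (g v) * p = p * ι Q v := by
  rw [Ev, Submodule.mem_inf, mem_Tw]
  constructor
  · rintro ⟨h1, h0⟩
    exact ⟨h0, fun v => by rw [h1, involute_eq_of_mem_even h0]⟩
  · rintro ⟨h0, h1⟩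
    exact ⟨fun v => by rw [h1, involute_eq_of_mem_even h0], h0⟩

theorem Ev_mul_eq {g : M ≃ₗ[R] M} (hg : g ∈ QuadGrp.O Q) {p : CliffordAlgebra Q} (hp : p ∈ Ev Q g)
    (x : CliffordAlgebra Q) : map (QuadGrp.isometryOfMem Q g hg) x * p = p * x := by
  induction x using CliffordAlgebra.induction with
  | algebraMap r => rw [AlgHom.commutes, Algebra.commutes]
  | ι v => rw [map_apply_ι, QuadGrp.isometryOfMem_apply, (mem_Ev.mp hp).2]
  | mul x y hx hy => rw [map_mul, mul_assoc, hy, ← mul_assoc, hx, mul_assoc]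
  | add x y hx hy => rw [map_add, add_mul, mul_add, hx, hy]

/-- The action of an isometry on a product over planes commutes with a semi-intertwiner. -/
theorem map_wList_mul {g : M ≃ₗ[R] M} (hg : g ∈ QuadGrp.O Q) (P : PlaneFam Q m) {p : CliffordAlgebra Q} {ε : R}
    (hε : ε * ε = 1) (he : ∀ k, ι Q (g (P.e k)) * p = ε • (p * ι Q (P.e k)))
    (hf : ∀ k, ι Q (g (P.f k)) * p = ε • (p * ι Q (P.f k))) :
    ∀ l, map (QuadGrp.isometryOfMem Q g hg) (wList P l) * p = p * wList P l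
  | [] => by simp [wList]
  | k :: l => by
    have h1 : map (QuadGrp.isometryOfMem Q g hg) (wElt Q (P.e k) (P.f k)) * p = p * wElt Q (P.e k) (P.f k) := by
      rw [wElt, map_sub, map_one, map_smul, map_mul, map_apply_ι, map_apply_ι, QuadGrp.isometryOfMem_apply,
        QuadGrp.isometryOfMem_apply, sub_mul, mul_sub, one_mul, mul_one, smul_mul_assoc, mul_smul_comm, mul_assoc,
        hf, mul_smul_comm, ← mul_assoc, he, smul_mul_assoc, smul_smul ε ε, hε, one_smul, mul_assoc]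
    rw [wList, List.map_cons, List.prod_cons, map_mul, mul_assoc, ← wList, map_wList_mul hg P hε he hf l, ← mul_assoc,
      h1, mul_assoc]

include D in
/-- The whole algebra is generated by the even intertwiners of an isometry fixing the central element. -/
theorem OddSplit.mem_span_mul_Ev {g : M ≃ₗ[R] M} (hg : g ∈ QuadGrp.O Q)
    (hζ : map (QuadGrp.isometryOfMem Q g hg) D.ζ = D.ζ) (x : CliffordAlgebra Q) :
    x ∈ Submodule.span R {y | ∃ c, ∃ p ∈ Ev Q g, c * p = y} := by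
  set S := Submodule.span R {y | ∃ c, ∃ p ∈ Ev Q g, c * p = y} with hS
  refine (D.isCAR hg).eq_top (fun i y hy => ?_) (fun p hp => ?_) x
  · refine (Submodule.span_le (p := S.comap (LinearMap.mulLeft R (ι Q (g (D.bas i.succ)))))).mpr ?_ hy
    rintro _ ⟨c, p, hp, rfl⟩
    exact Submodule.subset_span ⟨ι Q (g (D.bas i.succ)) * c, p, hp, mul_assoc _ _ _⟩
  obtain ⟨p0, h0, p1, h1, rfl⟩ := exists_parts p
  set φ := map (QuadGrp.isometryOfMem Q g hg)
  have hker : ∀ v ∈ Submodule.span R (Set.range fun j : Fin (2 * m) => D.bas j.succ),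
      ι Q (g v) * p0 = p0 * ι Q v ∧ ι Q (g v) * p1 = -(p1 * ι Q v) := by
    intro v hv
    have h := D.aT_eq_zero_rest hp hv
    rw [aT_apply, map_add, involute_eq_of_mem_even h0, involute_eq_of_mem_odd h1] at h
    have e : (ι Q (g v) * p1 + p1 * ι Q v) + (ι Q (g v) * p0 - p0 * ι Q v) = 0 := by
      rw [← h]; noncomm_ring
    have hv' := ι_mem_evenOdd_one Q v
    have hgv := ι_mem_evenOdd_one Q (g v)
    have h2 := parts_zero (add_mem (mul_mem_parity hgv h1 rfl) (mul_mem_parity h1 hv' rfl))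
      (sub_mem (mul_mem_parity hgv h0 rfl) (mul_mem_parity h0 hv' rfl)) e
    exact ⟨sub_eq_zero.mp h2.2, eq_neg_of_add_eq_zero_left h2.1⟩
  have hw0 : φ D.P.w * p0 = p0 * D.P.w := map_wList_mul hg D.P (ε := 1) (one_mul 1)
    (fun k => by rw [one_smul]; exact (hker _ (D.plane_mem k).1).1)
    (fun k => by rw [one_smul]; exact (hker _ (D.plane_mem k).2).1) _
  have hw1 : φ D.P.w * p1 = p1 * D.P.w := map_wList_mul hg D.P (ε := -1) (by ring)
    (fun k => by rw [neg_one_smul]; exact (hker _ (D.plane_mem k).1).2)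
    (fun k => by rw [neg_one_smul]; exact (hker _ (D.plane_mem k).2).2) _
  have hz : φ D.P.w * ι Q (g (D.bas 0)) = D.ζ := by
    conv_rhs => rw [← hζ, OddSplit.ζ]
    rw [map_mul, map_apply_ι, QuadGrp.isometryOfMem_apply]
  have hcomm : φ D.P.w * ι Q (g (D.bas 0)) = ι Q (g (D.bas 0)) * φ D.P.w := by
    have := congrArg φ D.v0_w
    rw [map_mul, map_mul, map_apply_ι, QuadGrp.isometryOfMem_apply] at this
    exact this.symm
  have hv0 : ∀ q : CliffordAlgebra Q, φ D.P.w * q = q * D.P.w →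
      ι Q (g (D.bas 0)) * q = q * ι Q (D.bas 0) := by
    intro q hq
    have h : ι Q (g (D.bas 0)) * q * D.P.w = q * ι Q (D.bas 0) * D.P.w := by
      rw [mul_assoc, ← hq, ← mul_assoc, ← hcomm, hz, ← Subalgebra.mem_center_iff.mp D.ζ_center q, OddSplit.ζ,
        ← D.v0_w, mul_assoc]
    exact D.P.wUnit.mul_left_inj.mp h
  have hall : ∀ q : CliffordAlgebra Q,
      (∀ j : Fin (2 * m), ι Q (g (D.bas j.succ)) * q = q * ι Q (D.bas j.succ)) →
      ι Q (g (D.bas 0)) * q = q * ι Q (D.bas 0) → ∀ v, ι Q (g v) * q = q * ι Q v := by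
    intro q hr h00 v
    rw [← D.bas.sum_repr v, map_sum, map_sum, map_sum, Finset.sum_mul, Finset.mul_sum]
    refine Finset.sum_congr rfl fun i _ => ?_
    rw [map_smul, map_smul, map_smul, smul_mul_assoc, mul_smul_comm]
    rcases Fin.eq_zero_or_eq_succ i with rfl | ⟨j, rfl⟩
    · rw [h00]
    · rw [hr j]
  have hsub : ∀ j : Fin (2 * m), D.bas j.succ ∈ Submodule.span R (Set.range fun j : Fin (2 * m) => D.bas j.succ) :=
    fun j => Submodule.subset_span ⟨j, rfl⟩
  have hp0 : p0 ∈ Ev Q g := mem_Ev.mpr ⟨h0, hall p0 (fun j => (hker _ (hsub j)).1) (hv0 p0 hw0)⟩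
  have hwz : D.P.w * D.ζ ∈ evenOdd Q 1 := mul_mem_parity D.P.w_mem D.ζ_mem (zero_add _)
  have hp1 : p1 * (D.P.w * D.ζ) ∈ Ev Q g := by
    refine mem_Ev.mpr ⟨mul_mem_parity h1 hwz rfl, hall _ (fun j => ?_) ?_⟩
    · have e : ι Q (D.bas j.succ) * (D.P.w * D.ζ) = -(D.P.w * D.ζ * ι Q (D.bas j.succ)) := by
        rw [← mul_assoc, D.P.w_anti (D.rest_mem j), neg_mul, mul_assoc, D.ζ_comm, ← mul_assoc]
      rw [← mul_assoc, (hker _ (hsub j)).2, neg_mul, mul_assoc p1, e, mul_neg, neg_neg, ← mul_assoc]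
    · have e : ι Q (D.bas 0) * (D.P.w * D.ζ) = D.P.w * D.ζ * ι Q (D.bas 0) := by
        rw [← mul_assoc, D.v0_w, mul_assoc, D.ζ_comm, ← mul_assoc]
      rw [← mul_assoc, hv0 p1 hw1, mul_assoc p1, e, ← mul_assoc]
  have hsq : (D.P.w * D.ζ) * (D.P.w * D.ζ) = algebraMap R _ (D.P.w2 * D.ζ2) := by
    rw [mul_assoc, ← mul_assoc D.ζ D.P.w, ← Subalgebra.mem_center_iff.mp D.ζ_center D.P.w, mul_assoc D.P.w D.ζ,
      D.ζ_sq, mul_scalar_eq, mul_smul_comm, D.P.w_sq, ← scalar_mul_eq, ← map_mul, mul_comm]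
  refine add_mem (Submodule.subset_span ⟨1, p0, hp0, one_mul p0⟩) ?_
  obtain ⟨s, hs⟩ := D.P.w2_isUnit.mul D.ζ2_isUnit
  have e : p1 = (↑s⁻¹ : R) • ((φ (D.P.w * D.ζ)) * (p1 * (D.P.w * D.ζ))) := by
    rw [Ev_mul_eq hg hp1, mul_assoc, hsq, mul_scalar_eq, smul_smul, ← hs, Units.inv_mul, one_smul]
  rw [e]
  exact Submodule.smul_mem _ _ (Submodule.subset_span ⟨_, _, hp1, rfl⟩)

include D in
theorem OddSplit.Ev_one {x : CliffordAlgebra Q} (hx : x ∈ Ev Q (1 : M ≃ₗ[R] M)) :
    x = algebraMap R _ (scal Q D.bas x) :=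
  D.even_comm_eq_scal (mem_Ev.mp hx).1 fun v => by simpa using (mem_Ev.mp hx).2 v

theorem Ev_mul {g h : M ≃ₗ[R] M} {p q : CliffordAlgebra Q} (hp : p ∈ Ev Q g) (hq : q ∈ Ev Q h) :
    p * q ∈ Ev Q (g * h) := by
  rw [mem_Ev] at hp hq ⊢
  refine ⟨mul_mem_parity hp.1 hq.1 rfl, fun v => ?_⟩
  rw [LinearEquiv.mul_apply, ← mul_assoc, hp.2, mul_assoc, hq.2, mul_assoc]

theorem map_inv_fix {g : M ≃ₗ[R] M} (hg : g ∈ QuadGrp.O Q) {z : CliffordAlgebra Q}
    (h : map (QuadGrp.isometryOfMem Q g hg) z = z) :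
    map (QuadGrp.isometryOfMem Q g⁻¹ ((QuadGrp.O Q).inv_mem hg)) z = z := by
  have hc : (map (QuadGrp.isometryOfMem Q g⁻¹ ((QuadGrp.O Q).inv_mem hg))).comp (map (QuadGrp.isometryOfMem Q g hg)) =
      AlgHom.id R _ := by
    apply CliffordAlgebra.hom_ext; ext x; simp [QuadGrp.isometryOfMem]
  conv_lhs => rw [← h]
  exact AlgHom.congr_fun hc z

include D in
/-- An isometry fixing the central element is conjugation by an even unit. -/
theorem OddSplit.exists_even_unit [IsLocalRing R] {g : M ≃ₗ[R] M} (hg : g ∈ QuadGrp.O Q)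
    (hζ : map (QuadGrp.isometryOfMem Q g hg) D.ζ = D.ζ) :
    ∃ u : (CliffordAlgebra Q)ˣ, (u : CliffordAlgebra Q) ∈ Ev Q g := by
  set b := D.bas
  set I : Ideal R := Ideal.span {r | ∃ q ∈ Ev Q g⁻¹, ∃ p ∈ Ev Q g, scal Q b (q * p) = r}
  have hqp : ∀ q ∈ Ev Q g⁻¹, ∀ p ∈ Ev Q g, q * p = algebraMap R _ (scal Q b (q * p)) := fun q hq p hp =>
    D.Ev_one (inv_mul_cancel g ▸ Ev_mul hq hp)
  have hpq : ∀ q ∈ Ev Q g⁻¹, ∀ p ∈ Ev Q g, p * q = algebraMap R _ (scal Q b (p * q)) := fun q hq p hp =>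
    D.Ev_one (mul_inv_cancel g ▸ Ev_mul hp hq)
  let J : Submodule R (CliffordAlgebra Q) := Submodule.span R {y | ∃ c, ∃ r ∈ I, c * algebraMap R _ r = y}
  have hJ : ∀ x, x ∈ J := by
    intro x
    refine (Submodule.span_le (p := J)).mpr ?_ (D.mem_span_mul_Ev hg hζ x)
    rintro _ ⟨c, p, hp, rfl⟩
    refine (Submodule.span_le (p := J.comap (LinearMap.mulRight R p))).mpr ?_
      (D.mem_span_mul_Ev ((QuadGrp.O Q).inv_mem hg) (map_inv_fix hg hζ) c)
    rintro _ ⟨d, q, hq, rfl⟩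
    exact Submodule.subset_span ⟨d, scal Q b (q * p), Ideal.subset_span ⟨q, hq, p, hp, rfl⟩,
      by rw [← hqp q hq p hp, LinearMap.mulRight_apply, mul_assoc]⟩
  have hle : J ≤ Submodule.comap (scal Q b) I := by
    refine Submodule.span_le.mpr ?_
    rintro _ ⟨c, r, hr, rfl⟩
    rw [SetLike.mem_coe, Submodule.mem_comap, mul_scalar_eq, map_smul, smul_eq_mul]
    exact Ideal.mul_mem_right _ I hr
  have h1 : (1 : R) ∈ I := by simpa using hle (hJ 1)
  have hex : ∃ q ∈ Ev Q g⁻¹, ∃ p ∈ Ev Q g, IsUnit (scal Q b (q * p)) := by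
    by_contra hc
    refine (IsLocalRing.mem_maximalIdeal _).mp (?_ : (1 : R) ∈ IsLocalRing.maximalIdeal R) isUnit_one
    refine Ideal.span_le.mpr ?_ h1
    rintro _ ⟨q, hq, p, hp, rfl⟩
    exact (IsLocalRing.mem_maximalIdeal _).mpr fun hu => hc ⟨q, hq, p, hp, hu⟩
  obtain ⟨q, hq, p, hp, r, hr⟩ := hex
  have hqp' := hqp q hq p hp
  have hpq' := hpq q hq p hp
  rw [← hr] at hqp'
  have key : scal Q b (p * q) = r := by
    have h : scal Q b (p * q) • p = (r : R) • p := by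
      rw [← scalar_mul_eq (r := scal Q b (p * q)), ← hpq', mul_assoc, hqp', mul_scalar_eq]
    have h2 := congrArg (fun y => scal Q b (q * y)) h
    simp only [mul_smul_comm, hqp', map_smul, scal_algebraMap, smul_eq_mul] at h2
    exact r.isUnit.mul_right_cancel h2
  refine ⟨⟨p, (↑r⁻¹ : R) • q, ?_, ?_⟩, hp⟩
  · rw [mul_smul_comm, hpq', key, ← scalar_mul_eq, ← map_mul, Units.inv_mul, map_one]
  · rw [smul_mul_assoc, hqp', ← scalar_mul_eq, ← map_mul, Units.inv_mul, map_one]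

theorem map_smul_plane {g g' : M ≃ₗ[R] M} (hg : g ∈ QuadGrp.O Q) (hg' : g' ∈ QuadGrp.O Q) {s : R} (hs : s * s = 1)
    (h : ∀ v, g' v = s • g v) (P : PlaneFam Q m) :
    ∀ l, map (QuadGrp.isometryOfMem Q g' hg') (wList P l) = map (QuadGrp.isometryOfMem Q g hg) (wList P l)
  | [] => by simp [wList]
  | k :: l => by
    rw [wList, List.map_cons, List.prod_cons, map_mul, map_mul, ← wList, map_smul_plane hg hg' hs h P l]
    congr 1
    simp only [wElt, map_sub, map_one, map_smul, map_mul, map_apply_ι, QuadGrp.isometryOfMem_apply, h,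
      smul_mul_assoc, mul_smul_comm, smul_smul]
    rw [show 2 * (s * s) = (2 : R) by rw [hs, mul_one]]

include D in
/-- Every isometry is a sign times a conjugation by an even unit, the sign being the determinant. -/
theorem OddSplit.exists_conj [IsLocalRing R] {g : M ≃ₗ[R] M} (hg : g ∈ QuadGrp.O Q) :
    ∃ u : (CliffordAlgebra Q)ˣ, (u : CliffordAlgebra Q) ∈ evenOdd Q 0 ∧
      ∀ v, (u : CliffordAlgebra Q) * ι Q v * ↑u⁻¹ = ι Q ((LinearMap.det (g : M →ₗ[R] M)) • g v) := by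
  set φ := map (QuadGrp.isometryOfMem Q g hg) with hφ
  have hodd : φ D.ζ ∈ evenOdd Q 1 := by
    rw [OddSplit.ζ, map_mul, map_apply_ι]
    refine mul_mem_parity ?_ (ι_mem_evenOdd_one Q _) (zero_add _)
    have : ∀ x ∈ evenOdd Q 0, φ x ∈ evenOdd Q 0 := by
      intro x hx
      induction x, hx using even_induction with
      | algebraMap r => rw [AlgHom.commutes]; exact algebraMap_mem_even r
      | add x y _ _ hx hy => rw [map_add]; exact add_mem hx hy
      | ι_mul_ι_mul v w x _ hx =>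
        rw [map_mul, map_mul, hφ, map_apply_ι, map_apply_ι]
        exact mul_mem_parity (ι_mul_ι_mem_evenOdd_zero Q _ _) hx rfl
    exact this _ D.P.w_mem
  have hcent : ∀ v, ι Q v * φ D.ζ = φ D.ζ * ι Q v := fun v => by
    have hv : ι Q v = φ (ι Q (g.symm v)) := by
      rw [hφ, map_apply_ι, QuadGrp.isometryOfMem_apply, g.apply_symm_apply]
    rw [hv, ← map_mul, ← map_mul, D.ζ_comm]
  obtain ⟨s, hs⟩ := D.odd_central hodd hcent
  have hss : s * s = 1 := by
    have h := congrArg φ D.ζ_sq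
    rw [map_mul, hs, AlgHom.commutes, smul_mul_smul_comm, D.ζ_sq, ← scalar_mul_eq, ← map_mul] at h
    have h2 := algebraMap_injective Q D.bas h
    refine D.ζ2_isUnit.mul_right_cancel ?_
    rw [h2, one_mul]
  let g' : M ≃ₗ[R] M := g.trans (LinearEquiv.smulOfUnit ⟨s, s, hss, hss⟩)
  have hg'a : ∀ v, g' v = s • g v := fun v => rfl
  have hg' : g' ∈ QuadGrp.O Q := fun v => by
    rw [hg'a, QuadraticMap.map_smul, hg v, hss, one_smul]
  have hζ' : map (QuadGrp.isometryOfMem Q g' hg') D.ζ = D.ζ := by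
    rw [OddSplit.ζ, map_mul, map_apply_ι, QuadGrp.isometryOfMem_apply,
      show map (QuadGrp.isometryOfMem Q g' hg') D.P.w = φ D.P.w from map_smul_plane hg hg' hss hg'a D.P _,
      hg'a, map_smul, mul_smul_comm]
    have e : φ D.P.w * ι Q (g (D.bas 0)) = φ D.ζ := by
      rw [OddSplit.ζ, map_mul, hφ, map_apply_ι, QuadGrp.isometryOfMem_apply]
    rw [e, hs, smul_smul, hss, one_smul]
    rfl
  obtain ⟨u, hu⟩ := D.exists_even_unit hg' hζ'
  have hu' : ∀ v, (u : CliffordAlgebra Q) * ι Q v * ↑u⁻¹ = ι Q ((g' : M →ₗ[R] M) v) := fun v => by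
    rw [← (mem_Ev.mp hu).2 v, mul_assoc, Units.mul_inv, mul_one]
    rfl
  refine ⟨u, (mem_Ev.mp hu).1, fun v => ?_⟩
  haveI := Module.Free.of_basis D.bas
  have hdet : LinearMap.det (g : M →ₗ[R] M) = s := by
    by_cases hR : Subsingleton R
    · exact Subsingleton.elim _ _
    rw [not_subsingleton_iff_nontrivial] at hR
    have h := det_conj_of_odd D.bas (odd_two_mul_add_one m) hu'
    rw [show (g' : M →ₗ[R] M) = s • (g : M →ₗ[R] M) from LinearMap.ext hg'a, LinearMap.det_smul,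
      Module.finrank_eq_card_basis D.bas, Fintype.card_fin, pow_succ, pow_mul, pow_two, hss, one_pow, one_mul] at h
    linear_combination s * h - LinearMap.det (g : M →ₗ[R] M) * hss
  rw [hdet]
  exact hu' v

end Groth.Agent.Quad37
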