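import Groth.Agent.Quad37.Parity
import Groth.Agent.Quad37.OddConj
import Groth.Agent.Quad37.Nondeg
import Mathlib.Algebra.DualNumber
import Mathlib.LinearAlgebra.TensorProduct.Basis
import Mathlib.LinearAlgebra.Matrix.ToLinearEquiv

set_option autoImplicit false

universe u v w

namespace Groth.Agent.Quad37

open scoped TensorProduct
open CliffordAlgebra

section Star

variable {R : Type u} [CommRing R] {M : Type v} [AddCommGroup M] [Module R M]

/-- The condition that `g` commutes with the infinitesimal rotations. -/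
def Star (Q : QuadraticForm R M) (g : M →ₗ[R] M) : Prop :=
  ∀ u v y : M, QuadraticMap.polar Q (g v) y • g u - QuadraticMap.polar Q (g u) y • g v =
    QuadraticMap.polar Q v y • u - QuadraticMap.polar Q u y • v

theorem scalar_of_star {n : ℕ} (hn : 3 ≤ n) (b : Module.Basis (Fin n) R M) (j0 : Fin n) {Q : QuadraticForm R M}
    {g : M →ₗ[R] M} (hginj : Function.Injective g) (hs : Star Q g)
    (hd : ∀ j, j ≠ j0 → ∃ d : M, ∀ y, QuadraticMap.polar Q y d = b.coord j y) :
    ∃ c : R, c * c = 1 ∧ ∀ v, g v = c • v := by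
  classical
  set G : Fin n → Fin n → R := fun j l => b.repr (g (b l)) j with hG
  have heq : ∀ i l j, j ≠ j0 → G j l • g (b i) - G j i • g (b l) =
      (if l = j then (1 : R) else 0) • b i - (if i = j then (1 : R) else 0) • b l := by
    intro i l j hj
    obtain ⟨d, hd⟩ := hd j hj
    have := hs (b i) (b l) d
    simp only [hd, b.coord_apply, b.repr_self, Finsupp.single_apply] at this
    exact this
  have third : ∀ j l : Fin n, ∃ i, i ≠ j ∧ i ≠ l := by
    intro j l
    by_contra hc
    simp only [not_exists, not_and, not_not] at hc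
    have hsub : (Finset.univ : Finset (Fin n)) ⊆ {j, l} := fun i _ => by
      by_cases h : i = j
      · simp [h]
      · simp [hc i h]
    have := (Finset.card_le_card hsub).trans Finset.card_le_two
    simp at this
    omega
  have hoff : ∀ j l, j ≠ j0 → j ≠ l → G j l = 0 := by
    intro j l hj hjl
    obtain ⟨i, hij, hil⟩ := third j l
    have h := heq i l j hj
    rw [if_neg (Ne.symm hjl), if_neg hij, zero_smul, zero_smul, sub_self, ← map_smul g, ← map_smul g, ← map_sub g,
      ← map_zero g] at h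
    have := congrArg (fun z => b.repr z i) (hginj h)
    simpa [Finsupp.single_apply, hil, Ne.symm hil] using this
  have hdiag : ∀ i j, j ≠ j0 → i ≠ j → G j j • g (b i) = b i := by
    intro i j hj hij
    have h := heq i j j hj
    rwa [hoff j i hj (Ne.symm hij), zero_smul, sub_zero, if_pos rfl, one_smul, if_neg hij, zero_smul, sub_zero] at h
  have hprod : ∀ i j, j ≠ j0 → i ≠ j → G j j * G i i = 1 := fun i j hj hij => by
    have := congrArg (fun z => b.repr z i) (hdiag i j hj hij)
    simpa [hG] using this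
  have hsc : ∀ i, g (b i) = G i i • b i := by
    intro i
    obtain ⟨j, hji, hj⟩ := third i j0
    calc g (b i) = (G i i * G j j) • g (b i) := by rw [mul_comm, hprod i j hj (Ne.symm hji), one_smul]
      _ = G i i • b i := by rw [mul_smul, hdiag i j hj (Ne.symm hji)]
  have hall : ∀ i, G i i = G j0 j0 := by
    intro i
    obtain ⟨j, hji, hj⟩ := third i j0
    calc G i i = G i i * (G j j * G j0 j0) := by rw [hprod j0 j hj (Ne.symm hj), mul_one]
      _ = (G j j * G i i) * G j0 j0 := by ring
      _ = G j0 j0 := by rw [hprod i j hj (Ne.symm hji), one_mul]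
  refine ⟨G j0 j0, ?_, fun v => ?_⟩
  · obtain ⟨j, hj, -⟩ := third j0 j0
    conv_lhs => arg 1; rw [← hall j]
    exact hprod j0 j hj (Ne.symm hj)
  · conv_lhs => rw [← b.sum_repr v]
    conv_rhs => rw [← b.sum_repr v, Finset.smul_sum]
    rw [map_sum]
    exact Finset.sum_congr rfl fun i _ => by rw [map_smul, hsc, hall, smul_comm]

theorem star_of_basis {n : ℕ} (b : Module.Basis (Fin n) R M) {Q : QuadraticForm R M} {g : M →ₗ[R] M}
    (h : ∀ i j k, QuadraticMap.polar Q (g (b j)) (b k) • g (b i) - QuadraticMap.polar Q (g (b i)) (b k) • g (b j) =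
      QuadraticMap.polar Q (b j) (b k) • b i - QuadraticMap.polar Q (b i) (b k) • b j) : Star Q g := by
  intro u v y
  have h1 : ∀ i j, ∀ y, QuadraticMap.polar Q (g (b j)) y • g (b i) - QuadraticMap.polar Q (g (b i)) y • g (b j) =
      QuadraticMap.polar Q (b j) y • b i - QuadraticMap.polar Q (b i) y • b j := by
    intro i j y
    have := LinearMap.congr_fun (b.ext (f₁ := (Q.polarBilin (g (b j))).smulRight (g (b i)) - (Q.polarBilin (g (b i))).smulRight (g (b j)))
      (f₂ := (Q.polarBilin (b j)).smulRight (b i) - (Q.polarBilin (b i)).smulRight (b j)) fun k => h i j k) y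
    exact this
  have h2 : ∀ i, ∀ v, QuadraticMap.polar Q (g v) y • g (b i) - QuadraticMap.polar Q (g (b i)) y • g v =
      QuadraticMap.polar Q v y • b i - QuadraticMap.polar Q (b i) y • v := by
    intro i v
    have := LinearMap.congr_fun (b.ext
      (f₁ := ((Q.polarBilin.flip y).comp g).smulRight (g (b i)) - QuadraticMap.polar Q (g (b i)) y • g)
      (f₂ := (Q.polarBilin.flip y).smulRight (b i) - QuadraticMap.polar Q (b i) y • (LinearMap.id : M →ₗ[R] M)) fun j => h1 i j y) v
    exact this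
  have := LinearMap.congr_fun (b.ext
    (f₁ := QuadraticMap.polar Q (g v) y • g - ((Q.polarBilin.flip y).comp g).smulRight (g v))
    (f₂ := QuadraticMap.polar Q v y • (LinearMap.id : M →ₗ[R] M) - (Q.polarBilin.flip y).smulRight v) fun i => h2 i v) u
  exact this

theorem scalar_of_star_regular {n : ℕ} (hn : 3 ≤ n) (b : Module.Basis (Fin n) R M) {Q : QuadraticForm R M}
    (hQ : QuadGrp.IsRegular Q) (g : M ≃ₗ[R] M) (hs : Star Q (g : M →ₗ[R] M)) :
    ∃ c : R, c * c = 1 ∧ ∀ v, g v = c • v :=
  scalar_of_star hn b ⟨0, by omega⟩ g.injective hs fun j _ =>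
    ⟨dualVec b hQ j, fun y => by rw [QuadraticMap.polar_comm, polar_dualVec]⟩

theorem OddSplit.scalar_of_star {m : ℕ} {Q : QuadraticForm R M} (D : OddSplit Q m) (hn : 3 ≤ 2 * m + 1) (g : M ≃ₗ[R] M)
    (hs : Star Q (g : M →ₗ[R] M)) : ∃ c : R, c * c = 1 ∧ ∀ v, g v = c • v := by
  refine Quad37.scalar_of_star hn D.bas 0 g.injective hs fun j hj => ?_
  obtain ⟨j, rfl⟩ := Fin.exists_succ_eq.mpr hj
  refine ⟨D.dual j, fun y => ?_⟩
  rw [← D.bas.sum_repr y, ← QuadraticMap.polarBilin_apply_apply, map_sum, LinearMap.sum_apply, map_sum]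
  refine Finset.sum_congr rfl fun l _ => ?_
  rw [map_smul, LinearMap.smul_apply, QuadraticMap.polarBilin_apply_apply, map_smul, QuadraticMap.polar_comm]
  congr 1
  rw [D.bas.coord_apply, D.bas.repr_self]
  rcases Fin.eq_zero_or_eq_succ l with rfl | ⟨l, rfl⟩
  · rw [Finsupp.single_eq_of_ne (Fin.succ_ne_zero j), OddSplit.dual, ← QuadraticMap.polarBilin_apply_apply, map_sum,
      LinearMap.sum_apply]
    refine Finset.sum_eq_zero fun i _ => ?_
    rw [map_smul, LinearMap.smul_apply, QuadraticMap.polarBilin_apply_apply, QuadraticMap.polar_comm, D.orth, smul_zero]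
  · rw [D.polar_dual, Finsupp.single_apply]
    simp [eq_comm]

end Star

section Global

variable {R : Type u} [CommRing R] {n : ℕ} {Q : QuadraticForm R (Fin n → R)}

theorem scalar_of_star_semiregular (hn : 3 ≤ n) (hodd : Odd n)
    (hQ : QuadGrp.IsSemiregular (Pi.basisFun R (Fin n)) (LinearEquiv.refl R R) Q)
    (g : (Fin n → R) ≃ₗ[R] (Fin n → R)) (hs : Star Q (g : (Fin n → R) →ₗ[R] (Fin n → R))) :
    ∃ c : R, c * c = 1 ∧ ∀ v, g v = c • v := by
  classical
  obtain ⟨m, rfl⟩ := hodd
  set b := Pi.basisFun R (Fin (2 * m + 1))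
  set G : Fin (2 * m + 1) → Fin (2 * m + 1) → R := fun j l => g (b l) j with hG
  have hloc : ∀ (p : Ideal R) (_ : p.IsMaximal), ∃ c : Localization.AtPrime p, c * c = 1 ∧
      ∀ j l, algebraMap R (Localization.AtPrime p) (G j l) = if j = l then c else 0 := by
    intro p hp
    set S := Localization.AtPrime p
    set bS := Pi.basisFun S (Fin (2 * m + 1))
    let gS : (Fin (2 * m + 1) → S) →ₗ[S] (Fin (2 * m + 1) → S) := bS.constr S fun l => vecBC b S (g (b l))
    let gS' : (Fin (2 * m + 1) → S) →ₗ[S] (Fin (2 * m + 1) → S) := bS.constr S fun l => vecBC b S (g.symm (b l))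
    have key : ∀ x, gS (vecBC b S x) = vecBC b S (g x) := fun x => by
      rw [← b.sum_repr x, map_sum, map_sum, map_sum, map_sum]
      refine Finset.sum_congr rfl fun l _ => ?_
      simp only [map_smul, LinearMap.map_smul_of_tower, vecBC_basis, gS, gS', bS, Module.Basis.constr_basis]
    have key' : ∀ x, gS' (vecBC b S x) = vecBC b S (g.symm x) := fun x => by
      rw [← b.sum_repr x, map_sum, map_sum, map_sum, map_sum]
      refine Finset.sum_congr rfl fun l _ => ?_
      simp only [map_smul, LinearMap.map_smul_of_tower, vecBC_basis, gS, gS', bS, Module.Basis.constr_basis]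
    let e : (Fin (2 * m + 1) → S) ≃ₗ[S] (Fin (2 * m + 1) → S) := LinearEquiv.ofLinear gS gS'
      (bS.ext fun l => by rw [LinearMap.comp_apply, LinearMap.id_apply, ← vecBC_basis b S, key', key, g.apply_symm_apply])
      (bS.ext fun l => by rw [LinearMap.comp_apply, LinearMap.id_apply, ← vecBC_basis b S, key, key', g.symm_apply_apply])
    obtain ⟨D⟩ := exists_oddSplit bS (formBC b Q S) (isSemiregular_formBC b Q S hQ)
    obtain ⟨c, hc, hv⟩ := D.scalar_of_star hn e (star_of_basis bS fun i j k => by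
      show QuadraticMap.polar (formBC b Q S) (gS (bS j)) (bS k) • gS (bS i) -
          QuadraticMap.polar (formBC b Q S) (gS (bS i)) (bS k) • gS (bS j) =
        QuadraticMap.polar (formBC b Q S) (bS j) (bS k) • bS i - QuadraticMap.polar (formBC b Q S) (bS i) (bS k) • bS j
      simp only [bS, ← vecBC_basis b S, key, polar_vecBC, algebraMap_smul]
      rw [← map_smul (vecBC b S), ← map_smul (vecBC b S), ← map_smul (vecBC b S), ← map_smul (vecBC b S),
        ← map_sub, ← map_sub]
      exact congrArg (vecBC b S) (hs (b i) (b j) (b k)))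
    refine ⟨c, hc, fun j l => ?_⟩
    have h := congrFun ((key (b l)).symm.trans ((congrArg gS (vecBC_basis b S l)).trans (hv (bS l)))) j
    rw [vecBC_apply, show b.repr (g (b l)) j = G j l from rfl, Pi.smul_apply, smul_eq_mul] at h
    rw [h]
    simp [bS, Pi.basisFun_apply, Pi.single_apply]
  have hz : ∀ x : R, (∀ (p : Ideal R) (_ : p.IsMaximal), algebraMap R (Localization.AtPrime p) x = 0) → x = 0 :=
    eq_zero_of_localization
  have hoff : ∀ j l, j ≠ l → G j l = 0 := fun j l hjl => hz _ fun p hp => by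
    obtain ⟨c, -, h⟩ := hloc p hp
    rw [h, if_neg hjl]
  have hd : ∀ l, G l l = G 0 0 := fun l => sub_eq_zero.mp (hz _ fun p hp => by
    obtain ⟨c, -, h⟩ := hloc p hp
    rw [map_sub, h, h, if_pos rfl, if_pos rfl, sub_self])
  refine ⟨G 0 0, sub_eq_zero.mp (hz _ fun p hp => by
    obtain ⟨c, hc, h⟩ := hloc p hp
    rw [map_sub, map_mul, h, if_pos rfl, hc, map_one, sub_self]), fun v => ?_⟩
  have hb : ∀ l, g (b l) = G 0 0 • b l := fun l => funext fun j => by
    show G j l = _
    by_cases hjl : j = l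
    · subst hjl; rw [hd]; simp [b, Pi.basisFun_apply]
    · rw [hoff j l hjl]; simp [b, Pi.basisFun_apply, hjl]
  rw [← b.sum_repr v, map_sum, Finset.smul_sum]
  exact Finset.sum_congr rfl fun l _ => by rw [map_smul, hb, smul_comm]

end Global

section Infinitesimal

variable {R : Type u} [CommRing R] {M : Type u} [AddCommGroup M] [Module R M] [Module.Free R M] {n : ℕ}
  (b : Module.Basis (Fin n) R M) (Q : QuadraticForm R M) {A : Type u} [CommRing A] [Algebra R A] {e : A} (he2 : e * e = 0)

/-- The infinitesimal rotation of a pair of vectors. -/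
noncomputable def infRot (e : A) (u v : M) : (A ⊗[R] M) →ₗ[A] (A ⊗[R] M) :=
  e •
    (((QuadGrp.baseChangeForm (A) Q).polarBilin (1 ⊗ₜ v)).smulRight (1 ⊗ₜ[R] u) -
      ((QuadGrp.baseChangeForm (A) Q).polarBilin (1 ⊗ₜ u)).smulRight (1 ⊗ₜ[R] v))

include he2 in
theorem infRot_sq (u v : M) : (infRot Q e u v) ∘ₗ (infRot Q e u v) = 0 := by
  refine LinearMap.ext fun y => ?_
  simp only [infRot, LinearMap.comp_apply, LinearMap.smul_apply, map_smul, smul_smul, he2, zero_smul,
    LinearMap.zero_apply]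

/-- The automorphism `1 + ε X`. -/
noncomputable def infAut (u v : M) : (A ⊗[R] M) ≃ₗ[A] (A ⊗[R] M) :=
  LinearEquiv.ofLinear (LinearMap.id + infRot Q e u v) (LinearMap.id - infRot Q e u v)
    (by rw [LinearMap.comp_sub, LinearMap.comp_id, LinearMap.add_comp, LinearMap.id_comp, infRot_sq Q he2]; abel)
    (by rw [LinearMap.comp_add, LinearMap.comp_id, LinearMap.sub_comp, LinearMap.id_comp, infRot_sq Q he2]; abel)

theorem infAut_apply (u v : M) (y : A ⊗[R] M) :
    infAut Q he2 u v y = y + e •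
      (QuadraticMap.polar (QuadGrp.baseChangeForm (A) Q) (1 ⊗ₜ v) y • (1 ⊗ₜ[R] u) -
        QuadraticMap.polar (QuadGrp.baseChangeForm (A) Q) (1 ⊗ₜ u) y • (1 ⊗ₜ[R] v)) := rfl

/-- The even unit `1 + ε u v`. -/
noncomputable def infUnit (u v : M) : (CliffordAlgebra (QuadGrp.baseChangeForm (A) Q))ˣ where
  val := 1 + e • (ι _ (1 ⊗ₜ u) * ι _ (1 ⊗ₜ v))
  inv := 1 - e • (ι _ (1 ⊗ₜ u) * ι _ (1 ⊗ₜ v))
  val_inv := by
    rw [add_mul, mul_sub, mul_one, one_mul, mul_sub, mul_one, smul_mul_smul_comm, he2, zero_smul]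
    abel
  inv_val := by
    rw [sub_mul, mul_add, mul_one, one_mul, mul_add, mul_one, smul_mul_smul_comm, he2, zero_smul]
    abel

theorem infUnit_mem (u v : M) :
    (infUnit Q he2 u v : CliffordAlgebra (QuadGrp.baseChangeForm (A) Q)) ∈ evenOdd _ 0 :=
  add_mem mem_even_one (Submodule.smul_mem _ _ (ι_mul_ι_mem_evenOdd_zero _ _ _))

theorem infUnit_conj (u v : M) (y : A ⊗[R] M) :
    (infUnit Q he2 u v : CliffordAlgebra (QuadGrp.baseChangeForm (A) Q)) * ι (QuadGrp.baseChangeForm A Q) y * (↑(infUnit Q he2 u v)⁻¹ : CliffordAlgebra (QuadGrp.baseChangeForm A Q)) =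
      ι (QuadGrp.baseChangeForm A Q) (infAut Q he2 u v y) := by
  set q := QuadGrp.baseChangeForm (A) Q
  set U := (1 : A) ⊗ₜ[R] u
  set V := (1 : A) ⊗ₜ[R] v
  show (1 + e • (ι q U * ι q V)) * ι q y * (1 - e • (ι q U * ι q V)) = _
  rw [infAut_apply, map_add, map_smul, map_sub, map_smul, map_smul]
  have h1 : ι q U * ι q V * ι q y = QuadraticMap.polar q V y • ι q U - QuadraticMap.polar q U y • ι q V +
      ι q y * (ι q U * ι q V) := by
    rw [mul_assoc, ι_mul_ι_comm V y, mul_sub, mul_scalar_eq, ← mul_assoc (ι q U) (ι q y), ι_mul_ι_comm U y, sub_mul,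
      scalar_mul_eq, mul_assoc]
    abel
  rw [add_mul, one_mul, mul_sub, mul_one, add_mul, smul_mul_assoc, mul_smul_comm, smul_mul_smul_comm, he2, zero_smul,
    add_zero, h1, smul_add, smul_sub]
  abel

include b in
theorem infAut_mem_O (u v : M) : infAut Q he2 u v ∈ QuadGrp.O (QuadGrp.baseChangeForm (A) Q) := fun y =>
  conj_isometry (g := (infAut Q he2 u v : (A ⊗[R] M) →ₗ[A] _))
    (Algebra.TensorProduct.basis (A) b) (infUnit_conj Q he2 u v) y

theorem det_gram_baseChange (A : Type u) [CommRing A] [Algebra R A] :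
    (LinearMap.toMatrix₂ (Algebra.TensorProduct.basis A b) (Algebra.TensorProduct.basis A b)
      (QuadGrp.baseChangeForm A Q).polarBilin).det = algebraMap R A (LinearMap.toMatrix₂ b b Q.polarBilin).det := by
  rw [RingHom.map_det]
  congr 1
  ext i j
  simp only [LinearMap.toMatrix₂_apply, QuadraticMap.polarBilin_apply_apply, RingHom.mapMatrix_apply, Matrix.map_apply,
    Algebra.TensorProduct.basis_apply, polar_baseChangeForm_one]

theorem isRegular_iff_det {S : Type u} [CommRing S] {N : Type v} [AddCommGroup N] [Module S N]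
    (c : Module.Basis (Fin n) S N) (q : QuadraticForm S N) :
    QuadGrp.IsRegular q ↔ IsUnit (LinearMap.toMatrix₂ c c q.polarBilin).det := by
  classical
  have hm : LinearMap.toMatrix c c.dualBasis q.polarBilin = (LinearMap.toMatrix₂ c c q.polarBilin).transpose := by
    ext i j
    rw [LinearMap.toMatrix_apply, Module.Basis.dualBasis_repr, Matrix.transpose_apply, LinearMap.toMatrix₂_apply]
  constructor
  · intro h
    have := LinearEquiv.isUnit_det (LinearEquiv.ofBijective q.polarBilin h) c c.dualBasis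
    rwa [show ((LinearEquiv.ofBijective q.polarBilin h : N ≃ₗ[S] Module.Dual S N) : N →ₗ[S] Module.Dual S N) = q.polarBilin from rfl,
      hm, Matrix.det_transpose] at this
  · intro h
    exact (LinearEquiv.ofIsUnitDet (f := q.polarBilin) (v := c) (v' := c.dualBasis)
      (by rwa [hm, Matrix.det_transpose])).bijective

include b in
theorem isRegular_baseChange (A : Type u) [CommRing A] [Algebra R A] (hQ : QuadGrp.IsRegular Q) :
    QuadGrp.IsRegular (QuadGrp.baseChangeForm A Q) := by
  rw [isRegular_iff_det (Algebra.TensorProduct.basis A b), det_gram_baseChange]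
  exact ((isRegular_iff_det b Q).mp hQ).map _

theorem mem_orth_iff (h : (A ⊗[R] M) ≃ₗ[A] (A ⊗[R] M)) :
    h ∈ QuadGrp.orth Q A ↔ h ∈ QuadGrp.O (QuadGrp.baseChangeForm A Q) := by
  constructor
  · intro hh y
    exact congrArg (TensorProduct.AlgebraTensorModule.rid R A A) (hh y)
  · intro hh y
    exact (TensorProduct.AlgebraTensorModule.rid R A A).injective (hh y)

include b in
theorem infAut_mem_sorth' (hQ : QuadGrp.IsNondeg b (LinearEquiv.refl R R) Q) (u v : M) :
    infAut Q he2 u v ∈ QuadGrp.sorth' Q (A) ∧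
      (Even n → QuadGrp.IsDicksonTrivial (QuadGrp.baseChangeForm (A) Q) (infAut Q he2 u v) (infAut_mem_O b Q he2 u v)) := by
  set bA := Algebra.TensorProduct.basis (A) b
  have hO := infAut_mem_O b Q he2 u v
  have hc : ∀ y, (infUnit Q he2 u v : CliffordAlgebra (QuadGrp.baseChangeForm (A) Q)) * ι (QuadGrp.baseChangeForm A Q) y * (↑(infUnit Q he2 u v)⁻¹ : CliffordAlgebra (QuadGrp.baseChangeForm A Q)) =
      ι (QuadGrp.baseChangeForm A Q) ((infAut Q he2 u v : (A ⊗[R] M) →ₗ[A] _) y) := infUnit_conj Q he2 u v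
  have hev : ∀ hn : Even n, LinearMap.det (infAut Q he2 u v : (A ⊗[R] M) →ₗ[A] _) = 1 ∧
      QuadGrp.IsDicksonTrivial (QuadGrp.baseChangeForm (A) Q) (infAut Q he2 u v) hO := by
    intro hn
    have hreg := isRegular_baseChange b Q (A) (hQ.1 hn)
    obtain ⟨e', he⟩ := exists_isParity bA hreg hO
    have hU : (infUnit Q he2 u v : CliffordAlgebra (QuadGrp.baseChangeForm (A) Q)) ∈ Tw _ (infAut Q he2 u v) := by
      rw [mem_Tw]
      intro y
      rw [involute_eq_of_mem_even (infUnit_mem Q he2 u v), ← infUnit_conj Q he2 u v y, mul_assoc, Units.inv_mul, mul_one]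
    have h := he.even_fix hU (infUnit_mem Q he2 u v)
    have h2 : (e' - 1) • (1 : CliffordAlgebra (QuadGrp.baseChangeForm (A) Q)) = 0 := by
      rw [← (infUnit Q he2 u v).mul_inv, ← smul_mul_assoc, sub_smul, one_smul, h, sub_self, zero_mul]
    obtain rfl : e' = 1 := sub_eq_zero.mp (smul_one_eq_zero bA h2)
    exact ⟨by rw [det_eq bA hreg hn hO he]; norm_num, (dickson_iff bA hreg hn hO he).mpr rfl⟩
  refine ⟨⟨(mem_orth_iff Q _).mpr hO, ?_⟩, fun hn => (hev hn).2⟩
  show LinearEquiv.det _ = 1
  rw [Units.ext_iff, Units.val_one, LinearEquiv.coe_det]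
  rcases Nat.even_or_odd n with hn | hn
  · exact (hev hn).1
  · exact det_conj_of_odd bA hn hc

theorem baseChange_infAut (τ : A →ₗ[R] R) (hτ : τ e = 1) (g : M ≃ₗ[R] M) (u v x : M)
    (h : g.baseChange R (A) M M * infAut Q he2 u v = infAut Q he2 u v * g.baseChange R (A) M M) :
    QuadraticMap.polar Q v x • g u - QuadraticMap.polar Q u x • g v =
      QuadraticMap.polar Q v (g x) • u - QuadraticMap.polar Q u (g x) • v := by
  have h1 := LinearEquiv.congr_fun h (1 ⊗ₜ x)
  simp only [LinearEquiv.mul_apply, LinearEquiv.baseChange_tmul, infAut_apply, polar_baseChangeForm_one, map_add,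
    map_smul, map_sub, algebraMap_smul, add_right_inj, LinearMap.map_smul_of_tower] at h1
  have hr : ∀ (r : R) (z : M), r • (1 : A) ⊗ₜ[R] z = (1 : A) ⊗ₜ[R] (r • z) := fun r z => (TensorProduct.tmul_smul r 1 z).symm
  have hd : ∀ z z' : M, (1 : A) ⊗ₜ[R] z - (1 : A) ⊗ₜ[R] z' = (1 : A) ⊗ₜ[R] (z - z') := fun z z' =>
    (TensorProduct.tmul_sub _ _ _).symm
  simp only [hr, hd, map_smul, map_add, LinearEquiv.baseChange_tmul, add_right_inj] at h1
  have hz : ∀ z : M, TensorProduct.lid R M (LinearMap.rTensor M τ (e • (1 : A) ⊗ₜ[R] z)) = z := fun z => by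
    rw [TensorProduct.smul_tmul', smul_eq_mul, mul_one, LinearMap.rTensor_tmul, TensorProduct.lid_tmul, hτ, one_smul]
  have h2 := congrArg (fun z => TensorProduct.lid R M (LinearMap.rTensor M τ z)) h1
  simpa only [hz, LinearEquiv.baseChange_tmul, map_smul, map_sub] using h2

include he2 in
theorem star_of_commute (τ : A →ₗ[R] R) (hτ : τ e = 1) {g : M ≃ₗ[R] M} (hg : g ∈ QuadGrp.O Q)
    (h : ∀ u v, g.baseChange R (A) M M * infAut Q he2 u v = infAut Q he2 u v * g.baseChange R (A) M M) :
    Star Q (g : M →ₗ[R] M) := by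
  intro u v y
  obtain ⟨x, rfl⟩ := g.surjective y
  simp only [LinearEquiv.coe_coe, polar_isometry hg]
  exact baseChange_infAut Q he2 τ hτ g u v x (h u v)

theorem commute_of_scalar (g : M ≃ₗ[R] M) (c : R) (hc : ∀ v, g v = c • v)
    (h : (A ⊗[R] M) ≃ₗ[A] (A ⊗[R] M)) : g.baseChange R A M M * h = h * g.baseChange R A M M := by
  have hg : ∀ y, g.baseChange R A M M y = algebraMap R A c • y := by
    intro y
    induction y using TensorProduct.induction_on with
    | zero => rw [map_zero, smul_zero]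
    | tmul a x => rw [LinearEquiv.baseChange_tmul, hc, algebraMap_smul, TensorProduct.tmul_smul]
    | add x y hx hy => rw [map_add, smul_add, hx, hy]
  refine LinearEquiv.ext fun y => ?_
  rw [LinearEquiv.mul_apply, LinearEquiv.mul_apply, hg, hg, map_smul]

end Infinitesimal

end Groth.Agent.Quad37
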