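import Groth.Agent.Quad37.OddSplit
import Groth.Agent.Quad37.BaseChange
import Mathlib.RingTheory.Localization.Integer
import Mathlib.LinearAlgebra.Projection
import Mathlib.LinearAlgebra.TensorProduct.Basic

set_option autoImplicit false

universe u v w

namespace Groth.Agent.Quad37

open CliffordAlgebra

section BC

variable {R : Type u} [CommRing R] {M : Type v} [AddCommGroup M] [Module R M] {n : ℕ}
  (b : Module.Basis (Fin n) R M) (Q : QuadraticForm R M)

/-- Coefficient denominators can be cleared. -/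
theorem exists_smul_eq_cliffBC (p : Ideal R) [p.IsPrime]
    (y : CliffordAlgebra (formBC b Q (Localization.AtPrime p))) :
    ∃ x : CliffordAlgebra Q, ∃ s : p.primeCompl, cliffBC b Q (Localization.AtPrime p) x = (s : R) • y := by
  classical
  set S := Localization.AtPrime p
  obtain ⟨s, hs⟩ := IsLocalization.exist_integer_multiples_of_finite p.primeCompl
    (fun T => (cbasis (formBC b Q S) (Pi.basisFun S (Fin n))).repr y T)
  choose r hr using hs
  refine ⟨(cbasis Q b).equivFun.symm r, s, (cbasis (formBC b Q S) (Pi.basisFun S (Fin n))).ext_elem fun T => ?_⟩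
  rw [cbasis_repr_cliffBC, ← algebraMap_smul S (s : R) y, map_smul, Finsupp.smul_apply, smul_eq_mul,
    ← Module.Basis.equivFun_apply, LinearEquiv.apply_symm_apply]
  rw [hr T, Algebra.smul_def]

/-- An element vanishing in a localisation is annihilated outside the prime. -/
theorem exists_smul_eq_zero (p : Ideal R) [p.IsPrime] {x : CliffordAlgebra Q}
    (h : cliffBC b Q (Localization.AtPrime p) x = 0) : ∃ s : p.primeCompl, (s : R) • x = 0 := by
  classical
  have : ∀ T, ∃ s : p.primeCompl, (s : R) * (cbasis Q b).repr x T = 0 := fun T => by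
    refine (IsLocalization.map_eq_zero_iff p.primeCompl (Localization.AtPrime p) _).mp ?_
    rw [← cbasis_repr_cliffBC b Q, h, map_zero, Finsupp.zero_apply]
  choose s hs using this
  refine ⟨∏ T, s T, (cbasis Q b).ext_elem fun T => ?_⟩
  rw [map_smul, map_zero, Finsupp.zero_apply, Finsupp.smul_apply, smul_eq_mul, ← Finset.mul_prod_erase _ _ (Finset.mem_univ T),
    Submonoid.coe_mul, mul_comm (s T : R), mul_assoc, hs, mul_zero]

include b in
theorem comm_of_basis {z : CliffordAlgebra Q} (h : ∀ i, ι Q (b i) * z = z * ι Q (b i)) (v : M) :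
    ι Q v * z = z * ι Q v := by
  rw [← b.sum_repr v, map_sum, Finset.sum_mul, Finset.mul_sum]
  exact Finset.sum_congr rfl fun i _ => by rw [map_smul, smul_mul_assoc, mul_smul_comm, h]

theorem mem_center_of_comm {z : CliffordAlgebra Q} (h : ∀ v, ι Q v * z = z * ι Q v) :
    z ∈ Subalgebra.center R (CliffordAlgebra Q) := by
  rw [Subalgebra.mem_center_iff]
  intro y
  induction y using CliffordAlgebra.induction with
  | algebraMap r => exact Algebra.commutes r _
  | ι v => exact h v
  | mul x y hx hy => rw [mul_assoc, hy, ← mul_assoc, hx, mul_assoc]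
  | add x y hx hy => rw [add_mul, mul_add, hx, hy]

theorem center_parts {z0 z1 : CliffordAlgebra Q} (h0 : z0 ∈ evenOdd Q 0) (h1 : z1 ∈ evenOdd Q 1)
    (hz : z0 + z1 ∈ Subalgebra.center R (CliffordAlgebra Q)) (v : M) :
    ι Q v * z0 = z0 * ι Q v ∧ ι Q v * z1 = z1 * ι Q v := by
  have h := Subalgebra.mem_center_iff.mp hz (ι Q v)
  have hv := ι_mem_evenOdd_one Q v
  have e : (ι Q v * z1 - z1 * ι Q v) + (ι Q v * z0 - z0 * ι Q v) = 0 := by
    rw [← sub_eq_zero.mpr h]; noncomm_ring
  have h2 := parts_zero (sub_mem (mul_mem_parity hv h1 rfl) (mul_mem_parity h1 hv rfl))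
    (sub_mem (mul_mem_parity hv h0 rfl) (mul_mem_parity h0 hv rfl)) e
  exact ⟨sub_eq_zero.mp h2.2, sub_eq_zero.mp h2.1⟩

end BC

section Odd

variable {R : Type u} [CommRing R] {M : Type v} [AddCommGroup M] [Module R M] {m : ℕ}
  (b : Module.Basis (Fin (2 * m + 1)) R M) {Q : QuadraticForm R M}
  (hQ : QuadGrp.IsSemiregular b (LinearEquiv.refl R R) Q)

include b hQ in
/-- In odd rank an even central element is a scalar. -/
theorem even_central_scalar {z : CliffordAlgebra Q} (hz : z ∈ evenOdd Q 0) (hc : ∀ v, ι Q v * z = z * ι Q v) :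
    z = algebraMap R _ ((cbasis Q b).repr z ∅) := by
  classical
  have h1 : mono Q b (setList (∅ : Finset (Fin (2 * m + 1)))) = 1 := by simp [setList]
  refine (cbasis Q b).ext_elem fun T => ?_
  rw [Algebra.algebraMap_eq_smul_one, ← h1, ← cbasis_apply, map_smul, Module.Basis.repr_self, Finsupp.smul_apply,
    smul_eq_mul]
  by_cases hT : T = ∅
  · subst hT; rw [Finsupp.single_eq_same, mul_one]
  rw [Finsupp.single_eq_of_ne hT, mul_zero]
  refine eq_zero_of_localization _ fun p hp => ?_
  set S := Localization.AtPrime p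
  obtain ⟨D⟩ := exists_oddSplit (Pi.basisFun S (Fin (2 * m + 1))) (formBC b Q S) (isSemiregular_formBC b Q S hQ)
  have hc' := cliffBC_central b Q S (z := z) hc
  have h := D.even_comm_eq_scal (cliffBC_mem b Q S hz) fun v => Subalgebra.mem_center_iff.mp hc' _
  have h1' : mono (formBC b Q S) (Pi.basisFun S (Fin (2 * m + 1))) (setList (∅ : Finset (Fin (2 * m + 1)))) = 1 := by
    simp [setList]
  rw [← cbasis_repr_cliffBC b Q, h, Algebra.algebraMap_eq_smul_one, ← h1', ← cbasis_apply, map_smul,
    Module.Basis.repr_self, Finsupp.smul_apply, Finsupp.single_eq_of_ne hT, smul_zero]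

/-- Odd central elements. -/
def IsOddCentral (z : CliffordAlgebra Q) : Prop := z ∈ evenOdd Q 1 ∧ ∀ v, ι Q v * z = z * ι Q v

include b hQ in
theorem oddCentral_mul {z z' : CliffordAlgebra Q} (hz : IsOddCentral z) (hz' : IsOddCentral z') :
    z * z' = algebraMap R _ ((cbasis Q b).repr (z * z') ∅) :=
  even_central_scalar b hQ (mul_mem_parity hz.1 hz'.1 rfl) fun v => by
    rw [← mul_assoc, hz.2, mul_assoc, hz'.2, ← mul_assoc]

include b hQ in
/-- The odd central elements generate. -/
theorem exists_oddCentral_pairs : ∃ (N : ℕ) (z z' : Fin N → CliffordAlgebra Q),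
    (∀ k, IsOddCentral (z k)) ∧ (∀ k, IsOddCentral (z' k)) ∧ ∑ k, z k * z' k = 1 := by
  classical
  set I : Ideal R := Ideal.span {r | ∃ z : CliffordAlgebra Q, IsOddCentral z ∧ z * z = algebraMap R _ r}
  have hI : I = ⊤ := by
    by_contra hne
    obtain ⟨p, hp, hIp⟩ := Ideal.exists_le_maximal I hne
    set S := Localization.AtPrime p
    obtain ⟨D⟩ := exists_oddSplit (Pi.basisFun S (Fin (2 * m + 1))) (formBC b Q S) (isSemiregular_formBC b Q S hQ)
    obtain ⟨x, s, hx⟩ := exists_smul_eq_cliffBC b Q p D.ζ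
    obtain ⟨x0, h0, x1, h1, rfl⟩ := exists_parts x
    have hx1 : cliffBC b Q S x1 = (s : R) • D.ζ := by
      rw [map_add] at hx
      have e : cliffBC b Q S x0 + (cliffBC b Q S x1 - (s : R) • D.ζ) = 0 := by rw [← add_sub_assoc, hx, sub_self]
      exact sub_eq_zero.mp (parts_zero (cliffBC_mem b Q S h0)
        (sub_mem (cliffBC_mem b Q S h1) (by rw [← algebraMap_smul S]; exact Submodule.smul_mem _ _ D.ζ_mem)) e).2
    have hci : ∀ i, ∃ t : p.primeCompl, (t : R) • (ι Q (b i) * x1 - x1 * ι Q (b i)) = 0 := fun i => by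
      refine exists_smul_eq_zero b Q p ?_
      rw [map_sub, map_mul, map_mul, cliffBC_ι, hx1, mul_smul_comm, smul_mul_assoc, D.ζ_comm, sub_self]
    choose t ht using hci
    set z := ((∏ i, t i : p.primeCompl) : R) • x1 with hz
    have hzc : IsOddCentral z := by
      refine ⟨Submodule.smul_mem _ _ h1, comm_of_basis b Q fun i => ?_⟩
      have h := congrArg (fun y => ((∏ j ∈ Finset.univ.erase i, t j : p.primeCompl) : R) • y) (ht i)
      simp only [smul_zero, smul_smul, ← Submonoid.coe_mul, Finset.prod_erase_mul _ _ (Finset.mem_univ i), smul_sub,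
        sub_eq_zero] at h
      rw [hz, mul_smul_comm, smul_mul_assoc, h]
    have hr := oddCentral_mul b hQ hzc hzc
    set r := (cbasis Q b).repr (z * z) ∅
    have hrI : r ∈ I := Ideal.subset_span ⟨z, hzc, hr⟩
    refine (IsLocalization.AtPrime.isUnit_to_map_iff S p r).mp ?_ (hIp hrI)
    have h' := congrArg (cliffBC b Q S) hr
    rw [AlgHom.commutes, map_mul, hz, map_smul, hx1, smul_smul, smul_mul_smul_comm, ← algebraMap_smul S, D.ζ_sq,
      ← scalar_mul_eq, ← map_mul, IsScalarTower.algebraMap_apply R S (CliffordAlgebra _)] at h'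
    rw [← algebraMap_injective _ (Pi.basisFun S (Fin (2 * m + 1))) h']
    refine IsUnit.mul ?_ D.ζ2_isUnit
    rw [map_mul, map_mul]
    exact ((IsLocalization.map_units S _).mul (IsLocalization.map_units S s)).mul
      ((IsLocalization.map_units S _).mul (IsLocalization.map_units S s))
  obtain ⟨N, c, r, hr⟩ := Submodule.mem_span_set'.mp (show (1 : R) ∈ I by rw [hI]; trivial)
  choose z hz hzz using fun k => (r k).2
  refine ⟨N, z, fun k => c k • z k, hz, fun k => ⟨Submodule.smul_mem _ _ (hz k).1, fun v => by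
    rw [mul_smul_comm, smul_mul_assoc, (hz k).2]⟩, ?_⟩
  simp only [mul_smul_comm, hzz]
  rw [← map_one (algebraMap R (CliffordAlgebra Q)), ← hr, map_sum]
  exact Finset.sum_congr rfl fun k _ => by rw [← scalar_mul_eq, ← map_mul]; rfl

theorem star_mem_parity {i : ZMod 2} {x : CliffordAlgebra Q} (hx : x ∈ evenOdd Q i) : star x ∈ evenOdd Q i := by
  induction x, hx using evenOdd_induction with
  | range_ι_pow x hx =>
    fin_cases i
    · obtain ⟨r, rfl⟩ := Submodule.mem_one.mp (show x ∈ (1 : Submodule R (CliffordAlgebra Q)) by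
        rw [← pow_zero (LinearMap.range (ι Q))]; exact hx)
      rw [CliffordAlgebra.star_algebraMap]; exact algebraMap_mem_even _
    · obtain ⟨v, rfl⟩ := (show x ∈ LinearMap.range (ι Q) by
        rw [← pow_one (LinearMap.range (ι Q))]; exact hx)
      rw [CliffordAlgebra.star_ι]; exact neg_mem (ι_mem_evenOdd_one _ _)
  | add x y _ _ hx hy => rw [star_add]; exact add_mem hx hy
  | ι_mul_ι_mul v w x _ hx =>
    rw [star_mul, star_mul, CliffordAlgebra.star_ι, CliffordAlgebra.star_ι, neg_mul_neg]
    exact mul_mem_parity hx (ι_mul_ι_mem_evenOdd_zero _ _ _) (add_zero _)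

include b hQ in
theorem star_oddCentral {z : CliffordAlgebra Q} (hz : IsOddCentral z) : star z = ((-1 : R) ^ (m + 1)) • z := by
  refine sub_eq_zero.mp (eq_zero_of_cliffBC b Q fun p hp => ?_)
  obtain ⟨D⟩ := exists_oddSplit (Pi.basisFun (Localization.AtPrime p) (Fin (2 * m + 1)))
    (formBC b Q (Localization.AtPrime p)) (isSemiregular_formBC b Q _ hQ)
  have hc := cliffBC_central b Q (Localization.AtPrime p) (z := z) hz.2
  have h := D.star_odd_central (cliffBC_mem b Q _ hz.1) fun v => Subalgebra.mem_center_iff.mp hc _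
  rw [map_sub, cliffBC_star, h, map_smul, sub_eq_zero]
  rw [show ((-1 : Localization.AtPrime p) ^ (m + 1)) = algebraMap R (Localization.AtPrime p) ((-1) ^ (m + 1)) by
    rw [map_pow, map_neg, map_one], algebraMap_smul]

end Odd

end Groth.Agent.Quad37
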