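import Groth.Agent.Quad37.Twist
import Mathlib.RingTheory.LocalRing.Basic

set_option autoImplicit false

universe u v

namespace Groth.Agent.Quad37

open CliffordAlgebra

variable {R : Type u} [CommRing R] {M : Type v} [AddCommGroup M] [Module R M] {n : ℕ}
  {Q : QuadraticForm R M} (b : Module.Basis (Fin n) R M) (hQ : QuadGrp.IsRegular Q)

/-- The idempotent cutting out the even part of the intertwiners of `g`. -/
def IsParity (Q : QuadraticForm R M) (g : M ≃ₗ[R] M) (e : R) : Prop :=
  IsIdempotentElem e ∧ ∀ p ∈ Tw Q g, e • p ∈ evenOdd Q 0 ∧ (1 - e) • p ∈ evenOdd Q 1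

variable {g : M ≃ₗ[R] M}

theorem IsParity.even_fix {e : R} (he : IsParity Q g e) {p : CliffordAlgebra Q} (hp : p ∈ Tw Q g)
    (h0 : p ∈ evenOdd Q 0) : e • p = p := by
  have h := eq_zero_of_even_odd (Submodule.smul_mem _ (1 - e) h0) (he.2 p hp).2
  rw [sub_smul, one_smul, sub_eq_zero] at h
  exact h.symm

theorem IsParity.odd_fix {e : R} (he : IsParity Q g e) {p : CliffordAlgebra Q} (hp : p ∈ Tw Q g)
    (h1 : p ∈ evenOdd Q 1) : e • p = 0 :=
  eq_zero_of_even_odd (he.2 p hp).1 (Submodule.smul_mem _ e h1)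

theorem Pairs.ext_left (P : Pairs Q g) {x : CliffordAlgebra Q}
    (h : ∀ p ∈ Tw Q g, ∀ i : ZMod 2, p ∈ evenOdd Q i → x * p = 0) : x = 0 := by
  calc x = x * ∑ k, algebraMap R (CliffordAlgebra Q) (P.r k) := by
        rw [← map_sum, P.sum_r, map_one, mul_one]
    _ = 0 := by
        rw [Finset.mul_sum]
        exact Finset.sum_eq_zero fun k _ => by rw [← P.pq k, ← mul_assoc, h _ (P.p_mem k) _ (P.p_par k), zero_mul]

theorem Pairs.ext_right (P : Pairs Q g) {x : CliffordAlgebra Q}
    (h : ∀ p ∈ Tw Q g, ∀ i : ZMod 2, p ∈ evenOdd Q i → p * x = 0) : x = 0 := by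
  calc x = (∑ k, algebraMap R (CliffordAlgebra Q) (P.r k)) * x := by
        rw [← map_sum, P.sum_r, map_one, one_mul]
    _ = 0 := by
        rw [Finset.sum_mul]
        exact Finset.sum_eq_zero fun k _ => by rw [← P.qp k, mul_assoc, h _ (P.p_mem k) _ (P.p_par k), mul_zero]

include b in
theorem smul_one_eq_zero {r : R} (h : r • (1 : CliffordAlgebra Q) = 0) : r = 0 := by
  have := congrArg (scal Q b) h
  simpa using this

include b hQ in
theorem exists_isParity (hg : g ∈ QuadGrp.O Q) : ∃ e, IsParity Q g e := by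
  classical
  obtain ⟨P⟩ := exists_pairs b hQ hg
  set e := ∑ k ∈ Finset.univ.filter (fun k => P.par k = 0), P.r k with he
  have hodd : ∀ p ∈ Tw Q g, ∀ i : ZMod 2, p ∈ evenOdd Q i → ∀ k, P.par k ≠ i → P.r k • p = 0 := by
    intro p hp i hi k hk
    rw [← mul_scalar_eq, ← P.qp k, ← mul_assoc, (qp_cross b hQ (P.q_mem k) hp (P.q_par k) hi hk).2, zero_mul]
  have he0 : ∀ p ∈ Tw Q g, p ∈ evenOdd Q 0 → e • p = p := by
    intro p hp h0
    conv_rhs => rw [← one_smul R p, ← P.sum_r, Finset.sum_smul]
    rw [he, Finset.sum_smul, Finset.sum_filter]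
    refine Finset.sum_congr rfl fun k _ => ?_
    split_ifs with h
    · rfl
    · exact (hodd p hp 0 h0 k h).symm
  have he1 : ∀ p ∈ Tw Q g, p ∈ evenOdd Q 1 → e • p = 0 := by
    intro p hp h1
    rw [he, Finset.sum_smul]
    refine Finset.sum_eq_zero fun k hk => hodd p hp 1 h1 k ?_
    rw [(Finset.mem_filter.mp hk).2]
    decide
  refine ⟨e, ?_, fun p hp => ?_⟩
  · have : ∀ k ∈ Finset.univ.filter (fun k => P.par k = 0), e * P.r k = P.r k := by
      intro k hk
      apply algebraMap_injective Q b
      rw [map_mul, ← P.qp k, scalar_mul_eq, ← mul_smul_comm,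
        he0 _ (P.p_mem k) ((Finset.mem_filter.mp hk).2 ▸ P.p_par k)]
    show e * e = e
    conv_lhs => arg 2; rw [he]
    rw [Finset.mul_sum, Finset.sum_congr rfl this]
  · obtain ⟨p0, h0, p1, h1, rfl⟩ := exists_parts p
    obtain ⟨hp0, hp1⟩ := Tw_parts h0 h1 hp
    have e0 := he0 p0 hp0 h0
    have e1 := he1 p1 hp1 h1
    refine ⟨?_, ?_⟩
    · rw [smul_add, e0, e1, add_zero]; exact h0
    · rw [smul_add, sub_smul, sub_smul, one_smul, one_smul, e0, e1, sub_self, sub_zero, zero_add]; exact h1

include b hQ in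
theorem IsParity.unique (hg : g ∈ QuadGrp.O Q) {e e' : R} (he : IsParity Q g e) (he' : IsParity Q g e') :
    e = e' := by
  obtain ⟨P⟩ := exists_pairs b hQ hg
  refine sub_eq_zero.mp (smul_one_eq_zero (Q := Q) b (P.ext_left fun p hp i hi => ?_))
  rw [smul_mul_assoc, one_mul, sub_smul]
  fin_cases i
  · rw [he.even_fix hp hi, he'.even_fix hp hi, sub_self]
  · rw [he.odd_fix hp hi, he'.odd_fix hp hi, sub_self]

theorem prod_Tw {p : CliffordAlgebra Q} (hp : p ∈ Tw Q g) {c : R} (hc : involute p = c • p) :
    ∀ l : List M, vecProd Q (l.map g) * p = c ^ l.length • (p * vecProd Q l)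
  | [] => by simp
  | v :: l => by
    rw [List.map_cons, vecProd_cons, vecProd_cons, mul_assoc, prod_Tw hp hc l, mul_smul_comm, ← mul_assoc,
      mem_Tw.mp hp v, hc, smul_mul_assoc, smul_mul_assoc, smul_smul, List.length_cons, pow_succ, mul_assoc]

include b hQ in
theorem det_eq (hn : Even n) (hg : g ∈ QuadGrp.O Q) {e : R} (he : IsParity Q g e) :
    LinearMap.det (g : M →ₗ[R] M) = 2 * e - 1 := by
  obtain ⟨P⟩ := exists_pairs b hQ hg
  set E := gProd b Q (LinearMap.id : M →ₗ[R] M)
  have hEeven : E ∈ evenOdd Q 0 := by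
    have h := gProd_mem (Q := Q) b (LinearMap.id : M →ₗ[R] M)
    rwa [ZMod.natCast_eq_zero_iff_even.mpr hn] at h
  have key : ∀ k, P.r k * LinearMap.det (g : M →ₗ[R] M) = P.r k * (2 * e - 1) := by
    intro k
    have hc : involute (P.p k) = (-1 : R) ^ (P.par k).val • P.p k := involute_of_mem Q (P.p_par k)
    have hGp : gProd b Q (g : M →ₗ[R] M) * P.p k = P.p k * E := by
      have h := prod_Tw (P.p_mem k) hc (List.ofFn fun i => b i)
      rw [List.length_ofFn, ← pow_mul, mul_comm, pow_mul,
        show ((-1 : R) ^ n) = 1 from Even.neg_one_pow hn, one_pow, one_smul, List.map_ofFn] at h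
      exact h
    have h1 : P.r k * LinearMap.det (g : M →ₗ[R] M) = top Q b (P.p k * (E * P.q k)) := by
      rw [← mul_assoc, ← hGp, mul_assoc, P.pq, mul_scalar_eq, map_smul, top_gProd, smul_eq_mul]
    rcases (show ∀ a : ZMod 2, a = 0 ∨ a = 1 by decide) (P.par k) with h | h
    · have hp := h ▸ P.p_par k
      rw [h1, top_mul_of_even Q b hp, mul_assoc, P.qp, mul_scalar_eq, map_smul, top_gProd_id, smul_eq_mul]
      have hr : e * P.r k = P.r k := by
        apply algebraMap_injective Q b
        rw [map_mul, ← P.qp k, scalar_mul_eq, ← mul_smul_comm, he.even_fix (P.p_mem k) hp]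
      linear_combination (-2 : R) * hr
    · have hp := h ▸ P.p_par k
      rw [h1, top_mul_of_odd Q b hp, map_mul (involute (Q := Q)), involute_eq_of_mem_even hEeven,
        involute_eq_of_mem_odd (h ▸ P.q_par k), mul_neg, neg_mul, mul_assoc, P.qp, mul_scalar_eq, map_neg,
        map_smul, top_gProd_id, smul_eq_mul]
      have hr : e * P.r k = 0 := by
        apply algebraMap_injective Q b
        rw [map_mul, ← P.qp k, scalar_mul_eq, ← mul_smul_comm, he.odd_fix (P.p_mem k) hp, mul_zero, map_zero]
      linear_combination (-2 : R) * hr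
  calc LinearMap.det (g : M →ₗ[R] M) = ∑ k, P.r k * LinearMap.det (g : M →ₗ[R] M) := by
        rw [← Finset.sum_mul, P.sum_r, one_mul]
    _ = ∑ k, P.r k * (2 * e - 1) := Finset.sum_congr rfl fun k _ => key k
    _ = 2 * e - 1 := by rw [← Finset.sum_mul, P.sum_r, one_mul]

/-- Minus the identity. -/
noncomputable def negOne (R : Type u) [CommRing R] (M : Type v) [AddCommGroup M] [Module R M] : M ≃ₗ[R] M :=
  LinearEquiv.neg R

@[simp] theorem negOne_apply (v : M) : negOne R M v = -v := rfl

theorem negOne_mem : negOne R M ∈ QuadGrp.O Q := fun v => Q.map_neg v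

theorem negOne_inv : (negOne R M)⁻¹ = negOne R M := by
  apply inv_eq_of_mul_eq_one_right
  ext v
  simp

include b hQ in
theorem isParity_negOne (hn : Even n) : IsParity Q (negOne R M) 1 := by
  obtain ⟨e, he⟩ := exists_isParity b hQ (negOne_mem (Q := Q))
  have hd := det_eq b hQ hn negOne_mem he
  suffices e = 1 by rwa [this] at he
  by_cases h : Subsingleton R
  · exact Subsingleton.elim _ _
  rw [not_subsingleton_iff_nontrivial] at h
  haveI := Module.Free.of_basis b
  have hdet : LinearMap.det (negOne R M : M →ₗ[R] M) = 1 := by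
    rw [show (negOne R M : M →ₗ[R] M) = (-1 : R) • (LinearMap.id : M →ₗ[R] M) by ext v; simp,
      LinearMap.det_smul, LinearMap.det_id, mul_one, Module.finrank_eq_card_basis b |>.trans (Fintype.card_fin n),
      Even.neg_one_pow hn]
  rw [hdet] at hd
  set f := 1 - e with hf
  have hf2 : f * 2 = 0 := by rw [hf]; linear_combination hd
  have hfn : ∀ v : M, f • ι Q (-v) = f • ι Q v := fun v => by
    rw [← sub_eq_zero, ← smul_sub, map_neg, show -ι Q v - ι Q v = (2 : R) • (-ι Q v) by
      rw [two_smul]; abel, smul_smul, hf2, zero_smul]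
  have hmem : f • (1 : CliffordAlgebra Q) ∈ Tw Q (negOne R M) := by
    rw [mem_Tw]; intro v
    rw [negOne_apply, map_smul, map_one, mul_smul_comm, mul_one, smul_mul_assoc, one_mul, hfn]
  have h2 := he.even_fix hmem (Submodule.smul_mem _ _ mem_even_one)
  rw [smul_smul] at h2
  have h3 : e * f = f := sub_eq_zero.mp (smul_one_eq_zero (Q := Q) b (by rw [sub_smul, h2, sub_self]))
  have : e * e = e := he.1
  rw [hf] at h3
  linear_combination h3 + this

theorem even_central_of_anticomm {z : CliffordAlgebra Q} {c : ℕ → CliffordAlgebra Q}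
    (h : ∀ v : M, ι Q v * z = c 0 * ι Q v ∧ ι Q v * c 0 = z * ι Q v) :
    ∀ x ∈ evenOdd Q 0, x * z = z * x := by
  intro x hx
  induction x, hx using even_induction with
  | algebraMap r => exact Algebra.commutes r z
  | add x y _ _ hx hy => rw [add_mul, mul_add, hx, hy]
  | ι_mul_ι_mul v w x _ hx =>
    rw [mul_assoc, hx, ← mul_assoc, mul_assoc (ι Q v), (h w).1, ← mul_assoc, (h v).2]
    simp only [mul_assoc]

include b hQ in
theorem exists_z : ∃ z ∈ evenOdd Q 0, ∀ v : M, ι Q v * z + z * ι Q v = ι Q v := by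
  classical
  set a := fun i => aT (Q := Q) (negOne R M) (dualVec b hQ i) with ha
  have hcar := isCAR_T b hQ (g := negOne R M) (negOne_mem (Q := Q))
  have hvec : ∀ v w : M, aT (negOne R M) v (ι Q w) + aT (negOne R M) w (ι Q v) = 0 := by
    intro v w
    simp only [aT_apply, negOne_apply, involute_ι, map_neg]
    noncomm_ring
  have hself : ∀ v : M, aT (negOne R M) v (ι Q v) = 0 := fun v => by
    simp only [aT_apply, negOne_apply, involute_ι, map_neg]; noncomm_ring
  have haodd : ∀ i, ∀ x ∈ evenOdd Q 0, a i x ∈ evenOdd Q 1 := by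
    intro i x hx
    rw [ha]; simp only [aT_apply]
    rw [involute_eq_of_mem_even hx]
    exact sub_mem (mul_mem_parity (ι_mem_evenOdd_one Q _) hx rfl) (mul_mem_parity hx (ι_mem_evenOdd_one Q _) rfl)
  have step : ∀ l : List (Fin n), l.Nodup → ∃ z ∈ evenOdd Q 0, ∀ i ∈ l, a i z = -ι Q (dualVec b hQ i) := by
    intro l
    induction l with
    | nil => exact fun _ => ⟨0, zero_mem _, by simp⟩
    | cons i l ih =>
      intro hl
      rw [List.nodup_cons] at hl
      obtain ⟨z, hz, hzl⟩ := ih hl.2
      set y := -ι Q (dualVec b hQ i) - a i z with hy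
      have hy1 : y ∈ evenOdd Q 1 := sub_mem (neg_mem (ι_mem_evenOdd_one Q _)) (haodd i z hz)
      refine ⟨z + ι Q (negOne R M (b i)) * y, add_mem hz (mul_mem_parity (ι_mem_evenOdd_one Q _) hy1 rfl), ?_⟩
      intro j hj
      rcases List.mem_cons.mp hj with rfl | hj
      · have h1 : a j y = 0 := by
          rw [hy, map_sub, map_neg]
          simp only [ha, hself, hcar.sq, neg_zero, sub_zero]
        have h2 := hcar.split j y
        rw [h1, map_zero, add_zero, LinearMap.mulLeft_apply] at h2
        rw [map_add, show a j (ι Q (negOne R M (b j)) * y) = y from h2, hy]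
        abel
      · have hij : j ≠ i := fun h => hl.1 (h ▸ hj)
        have h1 : a j y = 0 := by
          rw [hy, map_sub, map_neg, show a j (a i z) = -a i (a j z) from hcar.anti j i z, hzl j hj, map_neg]
          have := hvec (dualVec b hQ j) (dualVec b hQ i)
          simp only [ha]
          rw [eq_neg_of_add_eq_zero_left this]
          abel
        rw [map_add, show a j (ι Q (negOne R M (b i)) * y) = -(ι Q (negOne R M (b i)) * a j y) from hcar.comm_ab hij y,
          h1, mul_zero, neg_zero, add_zero, hzl j hj]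
  obtain ⟨z, hz, hzl⟩ := step _ (List.nodup_finRange n)
  refine ⟨z, hz, fun v => ?_⟩
  have h : aT (negOne R M) v z = -ι Q v := by
    conv_lhs => rw [← sum_dualVec b hQ v, aT_sum]
    conv_rhs => rw [← sum_dualVec b hQ v, map_sum, ← Finset.sum_neg_distrib]
    refine Finset.sum_congr rfl fun i _ => ?_
    rw [aT_smul, map_smul]
    rw [show aT (negOne R M) (dualVec b hQ i) z = -ι Q (dualVec b hQ i) from hzl i (List.mem_finRange i), smul_neg]
  rw [aT_apply, negOne_apply, map_neg, involute_eq_of_mem_even hz] at h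
  rw [← neg_inj, ← h]; noncomm_ring

theorem z_even_comm {z : CliffordAlgebra Q} (h : ∀ v : M, ι Q v * z + z * ι Q v = ι Q v) :
    ∀ x ∈ evenOdd Q 0, x * z = z * x := by
  intro x hx
  refine even_central_of_anticomm (c := fun _ => 1 - z) (fun v => ⟨?_, ?_⟩) x hx
  · rw [sub_mul, one_mul, eq_sub_iff_add_eq]; exact h v
  · rw [mul_sub, mul_one, sub_eq_iff_eq_add, add_comm]; exact (h v).symm

theorem z_odd_swap {z : CliffordAlgebra Q} (h : ∀ v : M, ι Q v * z + z * ι Q v = ι Q v) :
    ∀ x ∈ evenOdd Q 1, z * x = x * (1 - z) := by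
  intro x hx
  have hv : ∀ v : M, z * ι Q v = ι Q v * (1 - z) := fun v => by
    rw [mul_sub, mul_one, eq_sub_iff_add_eq, add_comm]; exact h v
  induction x, hx using odd_induction with
  | ι v => exact hv v
  | add x y _ _ hx hy => rw [add_mul, mul_add, hx, hy]
  | ι_mul_ι_mul v w x _ hx =>
    rw [← mul_assoc, ← z_even_comm h _ (ι_mul_ι_mem_evenOdd_zero Q v w), mul_assoc, hx, ← mul_assoc]

theorem map_isometry_mul {x p : CliffordAlgebra Q} {g : M ≃ₗ[R] M} (hg : g ∈ QuadGrp.O Q) (hp : p ∈ Tw Q g) :
    (p ∈ evenOdd Q 0 → map (QuadGrp.isometryOfMem Q g hg) x * p = p * x) ∧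
    (p ∈ evenOdd Q 1 → map (QuadGrp.isometryOfMem Q g hg) x * p = p * involute x) := by
  induction x using CliffordAlgebra.left_induction with
  | algebraMap r =>
    constructor <;> intro _
    · rw [AlgHom.commutes, Algebra.commutes]
    · rw [AlgHom.commutes, involute.commutes, Algebra.commutes]
  | add x y hx hy =>
    constructor <;> intro h
    · rw [map_add, add_mul, mul_add, hx.1 h, hy.1 h]
    · rw [map_add, add_mul, map_add, mul_add, hx.2 h, hy.2 h]
  | ι_mul x v hx =>
    constructor <;> intro h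
    · rw [map_mul, map_apply_ι, QuadGrp.isometryOfMem_apply, mul_assoc, hx.1 h, ← mul_assoc, mem_Tw.mp hp,
        involute_eq_of_mem_even h, mul_assoc]
    · rw [map_mul, map_apply_ι, QuadGrp.isometryOfMem_apply, mul_assoc, hx.2 h, ← mul_assoc, mem_Tw.mp hp,
        involute_eq_of_mem_odd h, map_mul, involute_ι]
      noncomm_ring

include b hQ in
theorem dickson_iff (hn : Even n) (hg : g ∈ QuadGrp.O Q) {e : R} (he : IsParity Q g e) :
    QuadGrp.IsDicksonTrivial Q g hg ↔ e = 1 := by
  obtain ⟨P⟩ := exists_pairs b hQ hg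
  constructor
  · intro hD
    have hfix : ∀ z ∈ evenOdd Q 0, (∀ x ∈ evenOdd Q 0, x * z = z * x) →
        map (QuadGrp.isometryOfMem Q g hg) z = z := by
      intro z hz hc
      exact hD ⟨z, hz⟩ (Subalgebra.mem_center_iff.mpr fun x => Subtype.ext (hc x x.2))
    obtain ⟨z, hz, hzv⟩ := exists_z b hQ
    set f := 1 - e with hf
    have hz2 : ∀ p ∈ Tw Q g, p ∈ evenOdd Q 1 → p * (1 - z) = p * z := by
      intro p hp h1
      have h := (map_isometry_mul (x := z) hg hp).2 h1
      rw [hfix z hz (z_even_comm hzv), involute_eq_of_mem_even hz, z_odd_swap hzv p h1] at h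
      exact h
    have hfz : f • (1 - 2 * z) = (0 : CliffordAlgebra Q) := by
      refine P.ext_right fun p hp i hi => ?_
      rw [mul_smul_comm, ← smul_mul_assoc]
      fin_cases i
      · rw [hf, sub_smul, one_smul, he.even_fix hp hi, sub_self, zero_mul]
      · rw [hf, sub_smul, one_smul, he.odd_fix hp hi, sub_zero, mul_sub, mul_one, two_mul, mul_add]
        have := hz2 p hp hi
        rw [mul_sub, mul_one] at this
        rw [← sub_sub, this, sub_self]
    have hf2 : f = 2 * (f * scal Q b z) := by
      have h := congrArg (scal Q b) hfz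
      rw [map_smul, map_sub, scal_one, map_zero, show (2 : CliffordAlgebra Q) * z = z + z from two_mul z,
        map_add, smul_eq_mul] at h
      linear_combination h
    have hffid : f * f = f := by
      have := he.1.eq
      rw [hf]; linear_combination this
    have hneg := isParity_negOne b hQ hn
    obtain ⟨P'⟩ := exists_pairs b hQ (negOne_mem (Q := Q))
    have h2q : ∀ q ∈ Tw Q (negOne R M), q ∈ evenOdd Q 0 → (2 * f) • q = 0 := by
      intro q hq hq0
      have hanti : ∀ v : M, ι Q v * q = -(q * ι Q v) := fun v => by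
        have h := mem_Tw.mp hq v
        rw [negOne_apply, map_neg, neg_mul, involute_eq_of_mem_even hq0] at h
        rw [← h, neg_neg]
      have hc : ∀ x ∈ evenOdd Q 0, x * q = q * x := fun x hx =>
        even_central_of_anticomm (c := fun _ => -q) (fun v => ⟨by rw [hanti, neg_mul], by rw [mul_neg, hanti, neg_neg]⟩) x hx
      have hswap : ∀ p ∈ evenOdd Q 1, q * p = -(p * q) := by
        intro p h1
        induction p, h1 using odd_induction with
        | ι v => rw [hanti, neg_neg]
        | add x y _ _ hx hy => rw [mul_add, add_mul, hx, hy, neg_add]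
        | ι_mul_ι_mul v w x _ hx =>
          rw [← mul_assoc, ← hc _ (ι_mul_ι_mem_evenOdd_zero Q v w), mul_assoc, hx, mul_neg, ← mul_assoc]
      refine P.ext_right fun p hp i hi => ?_
      rw [mul_smul_comm, mul_comm (2 : R), mul_smul, two_smul, smul_add, ← smul_mul_assoc]
      fin_cases i
      · rw [hf, sub_smul, one_smul, he.even_fix hp hi, sub_self, zero_mul, add_zero]
      · rw [hf, sub_smul, one_smul, he.odd_fix hp hi, sub_zero]
        have h := (map_isometry_mul (x := q) hg hp).2 hi
        rw [hfix q hq0 hc, involute_eq_of_mem_even hq0, hswap p hi] at h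
        conv_lhs => arg 1; rw [← h]
        exact neg_add_cancel _
    have hfq : f • (1 : CliffordAlgebra Q) = 0 := by
      refine P'.ext_left fun q hq i hi => ?_
      rw [smul_mul_assoc, one_mul]
      fin_cases i
      · calc f • q = (f * f) • q := by rw [hffid]
          _ = (f * scal Q b z) • ((2 * f) • q) := by
              rw [smul_smul]; congr 1; conv_lhs => arg 1; rw [hf2]
              ring
          _ = 0 := by rw [h2q q hq hi, smul_zero]
      · have := hneg.odd_fix hq hi
        rw [one_smul] at this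
        rw [this, smul_zero]
    have := smul_one_eq_zero b hfq
    rw [hf] at this
    exact (sub_eq_zero.mp this).symm
  · rintro rfl z _
    refine sub_eq_zero.mp (P.ext_left fun p hp i hi => ?_)
    fin_cases i
    · rw [sub_mul, (map_isometry_mul hg hp).1 hi, sub_eq_zero]
      have hcz : ∀ x ∈ evenOdd Q 0, x * (z : CliffordAlgebra Q) = z * x := by
        intro x hx
        exact congrArg Subtype.val (Subalgebra.mem_center_iff.mp ‹z ∈ _› ⟨x, hx⟩)
      exact hcz p hi
    · have := he.odd_fix hp hi
      rw [one_smul] at this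
      rw [this, mul_zero]

end Groth.Agent.Quad37
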