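import Groth.Agent.Quad37.Parity
import Mathlib.RingTheory.Spectrum.Prime.Topology

set_option autoImplicit false

universe u v

namespace Groth.Agent.Quad37

open CliffordAlgebra

variable {R : Type u} [CommRing R] {M : Type v} [AddCommGroup M] [Module R M] [Module.Free R M] [Module.Finite R M]

theorem subsingleton_linearEquiv [Subsingleton R] (g h : M ≃ₗ[R] M) : g = h := by
  haveI := Module.subsingleton R M
  ext x
  exact Subsingleton.elim _ _

theorem exists_parity (m : ℕ) (hM : Module.finrank R M = 2 * m) {Q : QuadraticForm R M}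
    (hQ : QuadGrp.IsRegular Q) {g : M ≃ₗ[R] M} (hg : g ∈ QuadGrp.O Q) :
    ∃ e : R, IsIdempotentElem e ∧ IsParity Q g e ∧ (LinearEquiv.det g : R) = 2 * e - 1 ∧
      (QuadGrp.IsDicksonTrivial Q g hg ↔ e = 1) := by
  by_cases h : Subsingleton R
  · haveI := h
    haveI := Module.subsingleton R (CliffordAlgebra Q)
    have z : ∀ x : CliffordAlgebra Q, x = 0 := fun x => Subsingleton.elim _ _
    refine ⟨1, IsIdempotentElem.one, ⟨IsIdempotentElem.one, fun p _ => ?_⟩, Subsingleton.elim _ _, ?_⟩
    · exact ⟨by rw [z (_ • p)]; exact zero_mem _, by rw [z (_ • p)]; exact zero_mem _⟩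
    · exact iff_of_true (fun z' _ => Subsingleton.elim _ _) rfl
  rw [not_subsingleton_iff_nontrivial] at h
  have b := Module.finBasisOfFinrankEq R M hM
  have hn : Even (2 * m) := even_two_mul m
  obtain ⟨e, he⟩ := exists_isParity b hQ hg
  refine ⟨e, he.1, he, ?_, dickson_iff b hQ hn hg he⟩
  rw [LinearEquiv.coe_det]
  exact det_eq b hQ hn hg he

theorem idem_zero_or_one_of_connected (hc : ConnectedSpace (PrimeSpectrum R)) {e : R} (he : IsIdempotentElem e) :
    e = 0 ∨ e = 1 := by
  have inj := (PrimeSpectrum.isIdempotentElemEquivClopens (R := R)).injective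
  haveI := hc
  rcases isClopen_iff.mp (PrimeSpectrum.isIdempotentElemEquivClopens ⟨e, he⟩).isClopen with h | h
  · left
    have h0 : (PrimeSpectrum.isIdempotentElemEquivClopens ⟨e, he⟩) = PrimeSpectrum.isIdempotentElemEquivClopens ⟨0, IsIdempotentElem.zero⟩ := by
      ext1
      rw [h, PrimeSpectrum.coe_isIdempotentElemEquivClopens_apply, PrimeSpectrum.basicOpen_zero]
      rfl
    exact congrArg Subtype.val (inj h0)
  · right
    have h1 : (PrimeSpectrum.isIdempotentElemEquivClopens ⟨e, he⟩) = PrimeSpectrum.isIdempotentElemEquivClopens ⟨1, IsIdempotentElem.one⟩ := by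
      ext1
      rw [h, PrimeSpectrum.coe_isIdempotentElemEquivClopens_apply, PrimeSpectrum.basicOpen_one]
      rfl
    exact congrArg Subtype.val (inj h1)

end Groth.Agent.Quad37
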