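import Groth.Agent.Quad37.AffRep
import Mathlib.AlgebraicGeometry.Fiber
import Mathlib.FieldTheory.IsAlgClosed.AlgebraicClosure
import Mathlib.RingTheory.Jacobson.Ring
import Mathlib.RingTheory.Spectrum.Prime.Topology
import Mathlib.RingTheory.TensorProduct.Finite
import Mathlib.RingTheory.FiniteType
import Mathlib.RingTheory.Ideal.Int
import Mathlib.Logic.Relation

/-! Connectedness of fibres by joining geometric points along integral families. -/

set_option autoImplicit false

universe u

open CategoryTheory AlgebraicGeometry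
open scoped TensorProduct

namespace Groth.Agent.Quad37

variable {R : Type u} [CommRing R] {G : Over (Spec (CommRingCat.of R))}

/-- Two points are linked if both specialise a point over a domain. -/
def Presentation.Linked (P : Presentation R G) (K : Type u) [Field K] [Algebra R K] (x x' : P.σ → K) : Prop :=
  ∃ (D : Type u) (_ : CommRing D) (_ : IsDomain D) (_ : Algebra R D) (_ : Algebra K D) (_ : IsScalarTower R K D)
    (z : P.σ → D) (ψ ψ' : D →ₐ[K] K), P.F D z = 0 ∧ ⇑ψ ∘ z = x ∧ ⇑ψ' ∘ z = x'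

theorem connectedSpace_of_idem {B : Type u} [CommRing B] [Nontrivial B]
    (h : ∀ e : B, IsIdempotentElem e → e = 0 ∨ e = 1) : ConnectedSpace (PrimeSpectrum B) := by
  refine connectedSpace_iff_clopen.mpr ⟨inferInstance, fun s hs => ?_⟩
  obtain ⟨⟨e, he⟩, hse⟩ := (PrimeSpectrum.isIdempotentElemEquivClopens (R := B)).surjective ⟨s, hs⟩
  have : s = ↑(PrimeSpectrum.isIdempotentElemEquivClopens ⟨e, he⟩) := by rw [hse]; rfl
  rw [this, PrimeSpectrum.coe_isIdempotentElemEquivClopens_apply]
  rcases h e he with rfl | rfl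
  · left; rw [PrimeSpectrum.basicOpen_zero]; rfl
  · right; rw [PrimeSpectrum.basicOpen_one]; rfl

/-- Finite type algebras over algebraically closed fields have a rational point at every maximal ideal. -/
theorem exists_algHom_of_isMaximal {K B : Type u} [Field K] [IsAlgClosed K] [CommRing B] [Algebra K B]
    [Algebra.FiniteType K B] (m : Ideal B) [m.IsMaximal] : ∃ χ : B →ₐ[K] K, ∀ a, χ a = 0 ↔ a ∈ m := by
  letI := Ideal.Quotient.field m
  haveI : Algebra.FiniteType K (B ⧸ m) :=
    Algebra.FiniteType.of_surjective (Ideal.Quotient.mkₐ K m) Ideal.Quotient.mk_surjective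
  haveI : Module.Finite K (B ⧸ m) := finite_of_finite_type_of_isJacobsonRing K (B ⧸ m)
  have hbij : Function.Bijective (algebraMap K (B ⧸ m)) :=
    IsAlgClosed.algebraMap_bijective_of_isIntegral
  refine ⟨((AlgEquiv.ofBijective (Algebra.ofId K (B ⧸ m)) hbij).symm : (B ⧸ m) →ₐ[K] K).comp (Ideal.Quotient.mkₐ K m),
    fun a => ?_⟩
  rw [← Ideal.Quotient.eq_zero_iff_mem]
  simp

theorem idem_zero_or_one_of_points {K B : Type u} [Field K] [IsAlgClosed K] [CommRing B] [Algebra K B]
    [Algebra.FiniteType K B] {e : B} (he : IsIdempotentElem e) (χ₁ : B →ₐ[K] K)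
    (hconst : ∀ χ : B →ₐ[K] K, χ e = χ₁ e) : e = 0 ∨ e = 1 := by
  have hzero : ∀ f : B, IsIdempotentElem f → (∀ χ : B →ₐ[K] K, χ f = 0) → f = 0 := by
    intro f hf h0
    by_contra hne
    have hnu : ¬ IsUnit (1 - f) := fun hu => hne (hu.mul_right_eq_zero.mp (by rw [sub_mul, one_mul, hf.eq, sub_self]))
    obtain ⟨m, hm, hfm⟩ := exists_max_ideal_of_mem_nonunits hnu
    obtain ⟨χ, hχ⟩ := exists_algHom_of_isMaximal (K := K) m
    have := (hχ _).mpr hfm
    rw [map_sub, map_one, h0, sub_zero] at this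
    exact one_ne_zero this
  rcases (IsIdempotentElem.iff_eq_zero_or_one (p := χ₁ e)).mp (he.map χ₁) with h0 | h0
  · left; exact hzero e he fun χ => (hconst χ).trans h0
  · right
    have := hzero (1 - e) he.one_sub fun χ => by rw [map_sub, map_one, hconst, h0, sub_self]
    exact (sub_eq_zero.mp this).symm

theorem Presentation.connectedSpace_baseChange (P : Presentation R G) (K : Type u) [Field K] [IsAlgClosed K]
    [Algebra R K] {x₁ : P.σ → K} (h₁ : P.F K x₁ = 0)
    (hlink : ∀ x, P.F K x = 0 → Relation.EqvGen (P.Linked K) x x₁) :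
    ConnectedSpace (PrimeSpectrum (K ⊗[R] P.Ring)) := by
  let χ₁ : K ⊗[R] P.Ring →ₐ[K] K :=
    Algebra.TensorProduct.lift (Algebra.ofId K K) (P.homEquiv K ⟨x₁, h₁⟩) fun _ _ => Commute.all _ _
  haveI : Nontrivial (K ⊗[R] P.Ring) := RingHom.domain_nontrivial (β := K) χ₁.toRingHom
  refine connectedSpace_of_idem (B := K ⊗[R] P.Ring) fun e he => ?_
  let pt : (K ⊗[R] P.Ring →ₐ[K] K) → (P.σ → K) := fun χ =>
    ((P.homEquiv K).symm ((χ.restrictScalars R).comp Algebra.TensorProduct.includeRight)).1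
  have hrestr : ∀ (D : Type u) [CommRing D] [Algebra R D] [Algebra K D] [IsScalarTower R K D]
      (φ φ' : K ⊗[R] P.Ring →ₐ[K] D),
      (φ.restrictScalars R).comp Algebra.TensorProduct.includeRight =
        (φ'.restrictScalars R).comp Algebra.TensorProduct.includeRight → φ = φ' :=
    fun D _ _ _ _ φ φ' h => Algebra.TensorProduct.ext (Subsingleton.elim _ _) h
  have hpt : ∀ χ χ', pt χ = pt χ' → χ = χ' := fun χ χ' h =>
    hrestr K χ χ' ((P.homEquiv K).symm.injective (Subtype.ext h))
  have key : ∀ x x', Relation.EqvGen (P.Linked K) x x' → (P.F K x = 0 ↔ P.F K x' = 0) ∧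
      ∀ χ χ', pt χ = x → pt χ' = x' → χ e = χ' e := by
    intro x x' h
    induction h with
    | rel x x' hl =>
      obtain ⟨D, _, _, _, _, _, z, ψ, ψ', hz, hψ, hψ'⟩ := hl
      refine ⟨iff_of_true ?_ ?_, fun χ χ' hχ hχ' => ?_⟩
      · rw [← hψ]; exact funext fun i => (P.F_nat D K (ψ.restrictScalars R) z i).symm.trans (by rw [hz]; exact map_zero ψ)
      · rw [← hψ']; exact funext fun i => (P.F_nat D K (ψ'.restrictScalars R) z i).symm.trans (by rw [hz]; exact map_zero ψ')
      · let Z : K ⊗[R] P.Ring →ₐ[K] D :=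
          Algebra.TensorProduct.lift (Algebra.ofId K D) (P.homEquiv D ⟨z, hz⟩) fun _ _ => Commute.all _ _
        have hc : ∀ (φ : D →ₐ[K] K), pt (φ.comp Z) = ⇑φ ∘ z := fun φ => funext fun s => by
          show φ (Z (1 ⊗ₜ[R] Ideal.Quotient.mk P.rel (MvPolynomial.X s))) = φ (z s)
          refine congrArg φ ?_
          rw [Algebra.TensorProduct.lift_tmul, map_one, one_mul]
          exact MvPolynomial.aeval_X z s
        have e1 : χ = ψ.comp Z := hpt _ _ (by rw [hc, hχ, hψ])
        have e2 : χ' = ψ'.comp Z := hpt _ _ (by rw [hc, hχ', hψ'])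
        rw [e1, e2, AlgHom.comp_apply, AlgHom.comp_apply]
        rcases (IsIdempotentElem.iff_eq_zero_or_one (p := Z e)).mp (he.map Z) with h0 | h0 <;> rw [h0] <;> simp
    | refl x =>
      refine ⟨Iff.rfl, fun χ χ' hχ hχ' => ?_⟩
      rw [hpt χ χ' (hχ.trans hχ'.symm)]
    | symm x x' _ ih => exact ⟨ih.1.symm, fun χ χ' hχ hχ' => (ih.2 χ' χ hχ' hχ).symm⟩
    | trans x x' x'' _ _ ih ih' =>
      refine ⟨ih.1.trans ih'.1, fun χ χ'' hχ hχ'' => ?_⟩
      have hx : P.F K x = 0 := hχ ▸ ((P.homEquiv K).symm _).2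
      let χ' : K ⊗[R] P.Ring →ₐ[K] K :=
        Algebra.TensorProduct.lift (Algebra.ofId K K) (P.homEquiv K ⟨x', ih.1.mp hx⟩) fun _ _ => Commute.all _ _
      have hχ' : pt χ' = x' := funext fun s => by
        show χ' (1 ⊗ₜ[R] Ideal.Quotient.mk P.rel (MvPolynomial.X s)) = x' s
        rw [Algebra.TensorProduct.lift_tmul, map_one, one_mul]
        exact MvPolynomial.aeval_X x' s
      exact (ih.2 χ χ' hχ hχ').trans (ih'.2 χ' χ'' hχ' hχ'')
  have hconst : ∀ χ : K ⊗[R] P.Ring →ₐ[K] K, χ e = χ₁ e := fun χ =>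
    (key _ _ (hlink _ ((P.homEquiv K).symm _).2)).2 χ χ₁ rfl (funext fun s => by
      show χ₁ (1 ⊗ₜ[R] Ideal.Quotient.mk P.rel (MvPolynomial.X s)) = x₁ s
      rw [Algebra.TensorProduct.lift_tmul, map_one, one_mul]
      exact MvPolynomial.aeval_X x₁ s)
  exact idem_zero_or_one_of_points he χ₁ hconst

/-- Connected fibres from connectedness of the geometric fibres. -/
theorem Presentation.connectedSpace_fiber (P : Presentation R G)
    (h : ∀ (K : Type u) [Field K] [IsAlgClosed K] [Algebra R K],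
      ∃ x₁, P.F K x₁ = 0 ∧ ∀ x, P.F K x = 0 → Relation.EqvGen (P.Linked K) x x₁)
    (s : ↥(Spec (CommRingCat.of R))) : ConnectedSpace ↥(G.hom.fiber s) := by
  let p : Ideal R := (s : PrimeSpectrum R).asIdeal
  haveI : p.IsPrime := (s : PrimeSpectrum R).isPrime
  let K := AlgebraicClosure p.ResidueField
  obtain ⟨x₁, h₁, hl⟩ := h K
  haveI : ConnectedSpace (PrimeSpectrum (K ⊗[R] P.Ring)) := P.connectedSpace_baseChange K h₁ hl
  let j : P.Ring →+* K ⊗[R] P.Ring := Algebra.TensorProduct.includeRight.toRingHom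
  have hkerR : RingHom.ker (algebraMap R K) = p := by
    ext r
    rw [RingHom.mem_ker, IsScalarTower.algebraMap_apply R p.ResidueField K,
      map_eq_zero_iff _ (algebraMap p.ResidueField K).injective, Ideal.algebraMap_residueField_eq_zero]
  have hrange : Set.range (PrimeSpectrum.comap (S := K ⊗[R] P.Ring) j) =
      PrimeSpectrum.comap (algebraMap R P.Ring) ⁻¹' {(s : PrimeSpectrum R)} := by
    ext q
    constructor
    · rintro ⟨q', rfl⟩
      refine PrimeSpectrum.ext ?_
      show Ideal.comap (algebraMap R P.Ring) (Ideal.comap j q'.asIdeal) = p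
      ext r
      show (Algebra.TensorProduct.includeRight : P.Ring →ₐ[R] K ⊗[R] P.Ring) (algebraMap R P.Ring r) ∈ q'.asIdeal ↔ r ∈ p
      rw [AlgHom.commutes, IsScalarTower.algebraMap_apply R K (K ⊗[R] P.Ring), ← SetLike.ext_iff.mp hkerR r, RingHom.mem_ker]
      constructor
      · intro hm
        by_contra hne
        exact q'.isPrime.ne_top (Ideal.eq_top_of_isUnit_mem _ hm ((isUnit_iff_ne_zero.mpr hne).map _))
      · intro h0
        rw [h0, map_zero]
        exact zero_mem _
    · intro hq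
      let L := q.asIdeal.ResidueField
      have hL : RingHom.ker (algebraMap R L) = p := by
        ext r
        rw [RingHom.mem_ker, IsScalarTower.algebraMap_apply R P.Ring L, Ideal.algebraMap_residueField_eq_zero]
        exact SetLike.ext_iff.mp (congrArg PrimeSpectrum.asIdeal hq) r
      let fL : p.ResidueField →+* L := Ideal.ResidueField.lift p (algebraMap R L) (le_of_eq hL.symm) fun r hr => by
        refine isUnit_iff_ne_zero.mpr fun h0 => hr ?_
        rw [← hL]; exact h0
      letI : Algebra p.ResidueField L := fL.toAlgebra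
      haveI : IsScalarTower R p.ResidueField L := IsScalarTower.of_algebraMap_eq fun r =>
        (Ideal.ResidueField.lift_algebraMap _ _ _ _ _).symm
      let Ω := AlgebraicClosure L
      let ι : K →ₐ[p.ResidueField] Ω := IsAlgClosed.lift
      let jR : P.Ring →ₐ[R] Ω := (IsScalarTower.toAlgHom R L Ω).comp (IsScalarTower.toAlgHom R P.Ring L)
      let Φ : K ⊗[R] P.Ring →ₐ[R] Ω :=
        Algebra.TensorProduct.lift (ι.restrictScalars R) jR fun _ _ => Commute.all _ _
      refine ⟨⟨RingHom.ker Φ.toRingHom, RingHom.ker_isPrime _⟩, PrimeSpectrum.ext ?_⟩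
      show Ideal.comap j (RingHom.ker Φ.toRingHom) = q.asIdeal
      ext a
      rw [Ideal.mem_comap, RingHom.mem_ker]
      show Φ (1 ⊗ₜ[R] a) = 0 ↔ _
      rw [Algebra.TensorProduct.lift_tmul, map_one, one_mul]
      show algebraMap L Ω (algebraMap P.Ring L a) = 0 ↔ _
      rw [map_eq_zero_iff _ (algebraMap L Ω).injective, Ideal.algebraMap_residueField_eq_zero]
  have hconn : _root_.IsConnected (PrimeSpectrum.comap (algebraMap R P.Ring) ⁻¹' {(s : PrimeSpectrum R)}) := by
    rw [← hrange]
    exact isConnected_range (α := PrimeSpectrum (K ⊗[R] P.Ring)) (PrimeSpectrum.continuous_comap _)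
  haveI := isIso_uS P.toHom P.toHom_nat
  have hpre : G.hom ⁻¹' {s} = (uS P.toHom) '' ((Spec.map (CommRingCat.ofHom (algebraMap R P.Ring))) ⁻¹' {s}) := by
    ext x
    constructor
    · intro hx
      refine ⟨inv (uS P.toHom) x, ?_, ?_⟩
      · show (Spec.map (CommRingCat.ofHom (algebraMap R P.Ring))) (inv (uS P.toHom) x) = s
        rw [← Scheme.Hom.comp_apply, ← hom_eq P.toHom P.toHom_nat]
        exact hx
      · rw [← Scheme.Hom.comp_apply, IsIso.inv_hom_id]; rfl
    · rintro ⟨y, hy, rfl⟩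
      show G.hom (uS P.toHom y) = s
      rw [← Scheme.Hom.comp_apply, uS_w]
      exact hy
  have hc : _root_.IsConnected (G.hom ⁻¹' {s}) := by
    rw [hpre]
    exact IsConnected.image hconn _ (uS P.toHom).continuous.continuousOn
  haveI : ConnectedSpace (G.hom ⁻¹' {s} : Set G.left) := Subtype.connectedSpace hc
  exact (G.hom.fiberHomeo s).symm.surjective.connectedSpace (G.hom.fiberHomeo s).symm.continuous

end Groth.Agent.Quad37
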