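import Groth.Agent.Quad37.Car
import Mathlib.LinearAlgebra.CliffordAlgebra.Contraction
import Mathlib.LinearAlgebra.CliffordAlgebra.Grading
import Mathlib.LinearAlgebra.CliffordAlgebra.Star
import Mathlib.LinearAlgebra.ExteriorAlgebra.Basic
import Mathlib.LinearAlgebra.QuadraticForm.Basis
import Mathlib.Tactic.NoncommRing

set_option autoImplicit false

universe u v

namespace Groth.Agent.Quad37

open CliffordAlgebra

variable {R : Type u} [CommRing R] {M : Type v} [AddCommGroup M] [Module R M] {n : ℕ}
  (Q : QuadraticForm R M)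

/-- Elements that are sums of products of at most `k` vectors. -/
def degLE : ℕ → Submodule R (CliffordAlgebra Q)
  | 0 => 1
  | k + 1 => degLE k ⊔ LinearMap.range (ι Q) * degLE k

theorem degLE_mono {k l : ℕ} (h : k ≤ l) : degLE Q k ≤ degLE Q l := by
  induction h with
  | refl => exact le_rfl
  | step _ ih => exact ih.trans le_sup_left

theorem ι_mul_mem_degLE {k : ℕ} (v : M) {x : CliffordAlgebra Q} (hx : x ∈ degLE Q k) :
    ι Q v * x ∈ degLE Q (k + 1) :=
  Submodule.mem_sup_right (Submodule.mul_mem_mul ⟨v, rfl⟩ hx)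

theorem one_mem_degLE (k : ℕ) : (1 : CliffordAlgebra Q) ∈ degLE Q k :=
  degLE_mono Q (Nat.zero_le k) (Submodule.one_le.mp le_rfl)

theorem algebraMap_mem_degLE (k : ℕ) (r : R) : algebraMap R (CliffordAlgebra Q) r ∈ degLE Q k := by
  rw [Algebra.algebraMap_eq_smul_one]
  exact Submodule.smul_mem _ _ (one_mem_degLE Q k)

theorem prod_mem_degLE : ∀ l : List M, (l.map (ι Q)).prod ∈ degLE Q l.length
  | [] => one_mem_degLE Q 0
  | v :: l => by simpa using ι_mul_mem_degLE Q v (prod_mem_degLE l)

theorem exists_mem_degLE (x : CliffordAlgebra Q) : ∃ k, x ∈ degLE Q k := by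
  induction x using CliffordAlgebra.left_induction with
  | algebraMap r => exact ⟨0, algebraMap_mem_degLE Q 0 r⟩
  | add x y hx hy =>
    obtain ⟨k, hk⟩ := hx
    obtain ⟨l, hl⟩ := hy
    exact ⟨max k l, add_mem (degLE_mono Q (le_max_left _ _) hk) (degLE_mono Q (le_max_right _ _) hl)⟩
  | ι_mul x v hx =>
    obtain ⟨k, hk⟩ := hx
    exact ⟨k + 1, ι_mul_mem_degLE Q v hk⟩

theorem contract_degLE (d : Module.Dual R M) : ∀ (k : ℕ) (x : CliffordAlgebra Q), x ∈ degLE Q k →
    (k = 0 → contractLeft d x = 0) ∧ contractLeft d x ∈ degLE Q (k - 1)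
  | 0, x, hx => by
    have : contractLeft d x = 0 := by
      rw [degLE] at hx
      obtain ⟨r, rfl⟩ := Submodule.mem_one.mp hx
      simp
    exact ⟨fun _ => this, this ▸ zero_mem _⟩
  | k + 1, x, hx => by
    refine ⟨fun h => absurd h (by omega), ?_⟩
    rw [Nat.add_sub_cancel]
    have hle : degLE Q (k + 1) ≤ (degLE Q k).comap (contractLeft d) := by
      refine sup_le (fun y hy => ?_) (Submodule.mul_le.mpr ?_)
      · exact degLE_mono Q (Nat.sub_le k 1) (contract_degLE d k y hy).2
      · rintro _ ⟨v, rfl⟩ y hy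
        rw [Submodule.mem_comap, contractLeft_ι_mul]
        refine sub_mem (Submodule.smul_mem _ _ hy) ?_
        obtain ⟨h0, h1⟩ := contract_degLE d k y hy
        rcases Nat.eq_zero_or_pos k with hk | hk
        · rw [h0 hk, mul_zero]; exact zero_mem _
        · have := ι_mul_mem_degLE Q v h1
          rwa [Nat.sub_add_cancel hk] at this
    exact hle hx

/-- `ι v * x - involute x * ι v` is the contraction of `x` by the polar of `v`. -/
theorem supercomm_eq (v : M) (x : CliffordAlgebra Q) :
    ι Q v * x - involute x * ι Q v = contractLeft (Q.polarBilin v) x := by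
  induction x using CliffordAlgebra.left_induction with
  | algebraMap r => rw [involute.commutes, contractLeft_algebraMap, Algebra.commutes, sub_self]
  | add x y hx hy => rw [map_add, map_add, ← hx, ← hy]; noncomm_ring
  | ι_mul x w hx =>
    rw [map_mul, involute_ι, contractLeft_ι_mul, ← hx, Algebra.smul_def,
      QuadraticMap.polarBilin_apply_apply, ← ι_mul_ι_add_swap]
    noncomm_ring

theorem involute_of_mem {x : CliffordAlgebra Q} {i : ZMod 2} (hx : x ∈ evenOdd Q i) :
    involute x = (-1 : R) ^ i.val • x := by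
  fin_cases i
  · rw [involute_eq_of_mem_even hx]
    show x = (-1 : R) ^ 0 • x
    rw [pow_zero, one_smul]
  · rw [involute_eq_of_mem_odd hx]
    show -x = (-1 : R) ^ 1 • x
    rw [pow_one, neg_one_smul]

end Groth.Agent.Quad37
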