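import Groth.Agent.Quad37.OddBasis
import Mathlib.RingTheory.Localization.AtPrime.Basic
import Mathlib.RingTheory.Localization.Ideal
import Mathlib.LinearAlgebra.Matrix.Trace

/-! First order deformations of isometries in coordinates. -/

set_option autoImplicit false

universe u v

namespace Groth.Agent.Quad37

open Matrix

variable {A : Type u} [CommRing A] {n : ℕ}

theorem qf_compCoeffs (a : Sym2 (Fin n) → A) (G : Matrix (Fin n) (Fin n) A) :
    qf (compCoeffs a G) = (qf a).comp (Matrix.toLin' G) := by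
  conv_rhs => rw [eq_qf_comp (Pi.basisFun A (Fin n)) ((qf a).comp (Matrix.toLin' G))]
  exact QuadraticMap.ext fun x => rfl

theorem compCoeffs_comp (a : Sym2 (Fin n) → A) (G H : Matrix (Fin n) (Fin n) A) :
    compCoeffs (compCoeffs a G) H = compCoeffs a (G * H) := by
  simp only [compCoeffs]
  rw [show qf (QuadGrp.coeffs (Pi.basisFun A (Fin n)) (LinearEquiv.refl A A) ((qf a).comp (Matrix.toLin' G))) =
    (qf a).comp (Matrix.toLin' G) from qf_compCoeffs a G, Matrix.toLin'_mul]
  rfl

theorem compCoeffs_one (a : Sym2 (Fin n) → A) : compCoeffs a (1 : Matrix (Fin n) (Fin n) A) = a := by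
  rw [compCoeffs, Matrix.toLin'_one]
  exact coeffs_qf a

/-- The polar matrix from the coefficients. -/
def Pm (a : Sym2 (Fin n) → A) : Matrix (Fin n) (Fin n) A :=
  Matrix.of fun i j => if i = j then 2 * a s(i, i) else a s(i, j)

theorem Pm_apply (a : Sym2 (Fin n) → A) (i j : Fin n) :
    Pm a i j = if i = j then 2 * a s(i, i) else a s(i, j) := rfl

theorem Pm_map {B : Type v} [CommRing B] (φ : A →+* B) (a : Sym2 (Fin n) → A) :
    (Pm a).map φ = Pm fun s => φ (a s) := by
  ext i j
  simp only [Pm, Matrix.map_apply, Matrix.of_apply]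
  split_ifs <;> simp [map_ofNat]

theorem polar_qf_basis (a : Sym2 (Fin n) → A) (i j : Fin n) :
    QuadraticMap.polar (qf a) (Pi.single i 1) (Pi.single j 1) = Pm a i j := by
  rw [Pm_apply]
  split_ifs with h
  · subst h; rw [QuadraticMap.polar_self, qf_single, nsmul_eq_mul, Nat.cast_ofNat]
  · exact qf_polar_single a h

theorem polar_qf_single (a : Sym2 (Fin n) → A) (i : Fin n) (y : Fin n → A) :
    QuadraticMap.polar (qf a) (Pi.single i 1) y = ∑ j, y j * Pm a i j := by
  classical
  conv_lhs => rw [← (Pi.basisFun A (Fin n)).sum_repr y]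
  rw [← QuadraticMap.polarBilin_apply_apply, map_sum]
  refine Finset.sum_congr rfl fun j _ => ?_
  rw [map_smul, QuadraticMap.polarBilin_apply_apply, Pi.basisFun_apply, polar_qf_basis, Pi.basisFun_repr, smul_eq_mul]

theorem toMatrix₂_coeffs {M : Type v} [AddCommGroup M] [Module A M] (b : Module.Basis (Fin n) A M)
    (Q : QuadraticForm A M) :
    LinearMap.toMatrix₂ b b Q.polarBilin = Pm (QuadGrp.coeffs b (LinearEquiv.refl A A) Q) := by
  ext i j
  rw [LinearMap.toMatrix₂_apply, QuadraticMap.polarBilin_apply_apply, Pm_apply]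
  split_ifs with h
  · subst h; rw [QuadraticMap.polar_self, QuadGrp.coeffs_mk, if_pos rfl, nsmul_eq_mul, Nat.cast_ofNat]; rfl
  · rw [QuadGrp.coeffs_mk, if_neg h]; rfl

/-- The first order variation `dq` at `a` in the direction `W`. -/
def dq (a : Sym2 (Fin n) → A) : Matrix (Fin n) (Fin n) A →ₗ[A] (Sym2 (Fin n) → A) where
  toFun W := Sym2.lift ⟨fun i j => if i = j then (Pm a * W) i i else (Pm a * W) i j + (Pm a * W) j i, fun i j => by
    by_cases h : i = j
    · subst h; rfl
    · dsimp only; rw [if_neg h, if_neg (Ne.symm h), add_comm]⟩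
  map_add' W V := by
    funext s
    induction s using Sym2.ind with
    | h i j =>
      simp only [Sym2.lift_mk, Pi.add_apply, Matrix.mul_add, Matrix.add_apply]
      split_ifs <;> abel
  map_smul' r W := by
    funext s
    induction s using Sym2.ind with
    | h i j =>
      simp only [Sym2.lift_mk, Pi.smul_apply, Matrix.mul_smul, Matrix.smul_apply, RingHom.id_apply, smul_add]
      split_ifs
      · rfl
      · simp only [smul_eq_mul]; ring

theorem dq_mk (a : Sym2 (Fin n) → A) (W : Matrix (Fin n) (Fin n) A) (i j : Fin n) :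
    dq a W s(i, j) = if i = j then (Pm a * W) i i else (Pm a * W) i j + (Pm a * W) j i := rfl

theorem dq_map {B : Type v} [CommRing B] (φ : A →+* B) (a : Sym2 (Fin n) → A) (W : Matrix (Fin n) (Fin n) A)
    (s : Sym2 (Fin n)) : φ (dq a W s) = dq (fun t => φ (a t)) (W.map φ) s := by
  induction s using Sym2.ind with
  | h i j =>
    rw [dq_mk, dq_mk, ← Pm_map, ← Matrix.map_mul]
    simp only [Matrix.map_apply]
    split_ifs <;> simp

section SquareZero

variable {I : Ideal A} (hI : I ^ 2 = ⊥)

include hI in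
theorem mul_eq_zero_of_mem {x y : A} (hx : x ∈ I) (hy : y ∈ I) : x * y = 0 := by
  have : x * y ∈ I ^ 2 := by rw [pow_two]; exact Ideal.mul_mem_mul hx hy
  rwa [hI, Ideal.mem_bot] at this

include hI in
theorem qf_eq_zero_of_mem (a : Sym2 (Fin n) → A) {w : Fin n → A} (hw : ∀ k, w k ∈ I) : qf a w = 0 := by
  rw [qf_apply]
  exact Finset.sum_eq_zero fun s _ => by rw [mul_eq_zero_of_mem hI (hw _) (hw _), mul_zero]

include hI in
theorem polar_eq_zero_of_mem (a : Sym2 (Fin n) → A) {w v : Fin n → A} (hw : ∀ k, w k ∈ I) (hv : ∀ k, v k ∈ I) :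
    QuadraticMap.polar (qf a) w v = 0 := by
  simp only [QuadraticMap.polar, qf_eq_zero_of_mem hI a hw, qf_eq_zero_of_mem hI a hv,
    qf_eq_zero_of_mem hI a (w := w + v) fun k => by rw [Pi.add_apply]; exact add_mem (hw k) (hv k), sub_zero]

include hI in
theorem Pm_mul_congr {a a' : Sym2 (Fin n) → A} (ha : ∀ s, a' s - a s ∈ I) {W : Matrix (Fin n) (Fin n) A}
    (hW : ∀ i j, W i j ∈ I) : Pm a' * W = Pm a * W := by
  ext i j
  rw [Matrix.mul_apply, Matrix.mul_apply]
  refine Finset.sum_congr rfl fun k _ => sub_eq_zero.mp ?_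
  rw [← sub_mul]
  refine mul_eq_zero_of_mem hI ?_ (hW k j)
  simp only [Pm_apply]
  split_ifs
  · rw [← mul_sub]; exact Ideal.mul_mem_left _ _ (ha _)
  · exact ha _

include hI in
theorem compCoeffs_one_add {a a' : Sym2 (Fin n) → A} (ha : ∀ s, a' s - a s ∈ I) {W : Matrix (Fin n) (Fin n) A}
    (hW : ∀ i j, W i j ∈ I) : compCoeffs a' (1 + W) = a' + dq a W := by
  classical
  funext s
  have hcol : ∀ i, Matrix.toLin' (1 + W) (Pi.single i 1) = Pi.single i 1 + fun k => W k i := fun i => by
    funext k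
    simp [Matrix.one_apply, Pi.single_apply, add_mulVec]
  have hp : ∀ i j, QuadraticMap.polar (qf a') (Pi.single i 1) (fun k => W k j) = (Pm a * W) i j := fun i j => by
    rw [polar_qf_single, ← Pm_mul_congr hI ha hW, Matrix.mul_apply]
    exact Finset.sum_congr rfl fun k _ => mul_comm _ _
  induction s using Sym2.ind with
  | h i j =>
    rw [Pi.add_apply, dq_mk, compCoeffs, QuadGrp.coeffs_mk]
    simp only [Pi.basisFun_apply, LinearEquiv.refl_apply]
    split_ifs with hij
    · subst hij
      rw [QuadraticMap.comp_apply, hcol, QuadraticMap.map_add (qf a'), qf_single, hp,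
        qf_eq_zero_of_mem hI a' fun k => hW k i, add_zero]
    · have hlin : QuadraticMap.polar ((qf a').comp (Matrix.toLin' (1 + W))) (Pi.single i 1) (Pi.single j 1) =
          QuadraticMap.polar (qf a') (Matrix.toLin' (1 + W) (Pi.single i 1)) (Matrix.toLin' (1 + W) (Pi.single j 1)) := by
        simp only [QuadraticMap.polar, QuadraticMap.comp_apply, map_add]
      rw [hlin, hcol, hcol, QuadraticMap.polar_add_left, QuadraticMap.polar_add_right, QuadraticMap.polar_add_right,
        qf_polar_single a' hij, hp, QuadraticMap.polar_comm _ (fun k => W k i) (Pi.single j 1), hp,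
        polar_eq_zero_of_mem hI a' (fun k => hW k i) (fun k => hW k j), add_zero]
      ring

include hI in
theorem prod_one_add {ι : Type*} (s : Finset ι) {f : ι → A} (hf : ∀ i, f i ∈ I) :
    ∏ i ∈ s, (1 + f i) = 1 + ∑ i ∈ s, f i := by
  classical
  induction s using Finset.induction with
  | empty => simp
  | insert i s hi ih =>
    rw [Finset.prod_insert hi, Finset.sum_insert hi, ih]
    linear_combination mul_eq_zero_of_mem hI (hf i) (Ideal.sum_mem I (fun j _ => hf j) : ∑ j ∈ s, f j ∈ I)

include hI in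
theorem det_one_add {W : Matrix (Fin n) (Fin n) A} (hW : ∀ i j, W i j ∈ I) : (1 + W).det = 1 + W.trace := by
  classical
  rw [Matrix.det_apply', Finset.sum_eq_single (1 : Equiv.Perm (Fin n))]
  · simp only [Equiv.Perm.sign_one, Units.val_one, Int.cast_one, one_mul, Equiv.Perm.one_apply, Matrix.add_apply,
      Matrix.one_apply_eq]
    exact prod_one_add hI _ fun i => hW i i
  · intro σ _ hσ
    obtain ⟨i, hi⟩ : ∃ i, σ i ≠ i := by
      by_contra hc
      exact hσ (Equiv.ext fun i => not_not.mp fun h => hc ⟨i, h⟩)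
    have hi' : σ (σ i) ≠ σ i := fun h => hi (σ.injective h)
    rw [← Finset.mul_prod_erase _ _ (Finset.mem_univ i),
      ← Finset.mul_prod_erase _ _ (Finset.mem_erase.mpr ⟨hi, Finset.mem_univ (σ i)⟩)]
    simp only [Matrix.add_apply, Matrix.one_apply_ne hi, Matrix.one_apply_ne hi', zero_add]
    rw [← mul_assoc (W (σ i) i), mul_eq_zero_of_mem hI (hW _ _) (hW _ _), zero_mul, mul_zero]
  · exact fun h => absurd (Finset.mem_univ _) h

/-- Lifting when the polar matrix is invertible. -/
theorem exists_dq_eq {a : Sym2 (Fin n) → A} (hP : IsUnit (Pm a).det) {c : Sym2 (Fin n) → A}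
    (hc : ∀ s, c s ∈ I) : ∃ W : Matrix (Fin n) (Fin n) A, (∀ i j, W i j ∈ I) ∧ dq a W = c := by
  let L : Matrix (Fin n) (Fin n) A := Matrix.of fun i j => if i ≤ j then c s(i, j) else 0
  refine ⟨(Pm a)⁻¹ * L, fun i j => ?_, funext fun s => ?_⟩
  · rw [Matrix.mul_apply]
    refine Ideal.sum_mem _ fun k _ => Ideal.mul_mem_left _ _ ?_
    simp only [L, Matrix.of_apply]
    split_ifs
    · exact hc _
    · exact zero_mem I
  induction s using Sym2.ind with
  | h i j =>
    rw [dq_mk, ← Matrix.mul_assoc, Matrix.mul_nonsing_inv _ hP, Matrix.one_mul]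
    simp only [L, Matrix.of_apply, le_refl, if_true]
    rcases lt_trichotomy i j with h | h | h
    · rw [if_neg h.ne, if_pos h.le, if_neg (not_le.mpr h), add_zero]
    · subst h; rw [if_pos rfl]
    · rw [if_neg h.ne', if_neg (not_le.mpr h), if_pos h.le, zero_add, Sym2.eq_swap]

include hI in
theorem exists_lift_orth {a : Sym2 (Fin n) → A} (hP : IsUnit (Pm a).det) {X : Matrix (Fin n) (Fin n) A}
    (hX : ∀ s, compCoeffs a X s - a s ∈ I) :
    ∃ W : Matrix (Fin n) (Fin n) A, (∀ i j, W i j ∈ I) ∧ compCoeffs a (X * (1 + W)) = a := by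
  obtain ⟨W, hW, hd⟩ := exists_dq_eq (I := I) hP (c := a - compCoeffs a X) fun s => by
    rw [Pi.sub_apply, ← neg_sub]; exact neg_mem (hX s)
  exact ⟨W, hW, by rw [← compCoeffs_comp, compCoeffs_one_add hI hX hW, hd, add_sub_cancel]⟩

end SquareZero

end Groth.Agent.Quad37
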