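import Groth.Agent.Quad37.Parity
import Mathlib.RingTheory.LocalRing.Basic
import Mathlib.RingTheory.LocalRing.MaximalIdeal.Basic
import Mathlib.LinearAlgebra.Reflection

set_option autoImplicit false

universe u v

namespace Groth.Agent.Quad37

open CliffordAlgebra

variable {R : Type u} [CommRing R] {M : Type v} [AddCommGroup M] [Module R M] {n : ℕ}
  {Q : QuadraticForm R M} (b : Module.Basis (Fin n) R M) (hQ : QuadGrp.IsRegular Q) {g : M ≃ₗ[R] M}

include b in
theorem nontrivial_clifford [Nontrivial R] : Nontrivial (CliffordAlgebra Q) :=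
  (algebraMap_injective Q b).nontrivial

theorem exists_isUnit_of_sum_eq_one [IsLocalRing R] {ι' : Type*} (s : Finset ι') (r : ι' → R)
    (h : ∑ k ∈ s, r k = 1) : ∃ k ∈ s, IsUnit (r k) := by
  by_contra hc
  simp only [not_exists, not_and] at hc
  have : (1 : R) ∈ IsLocalRing.maximalIdeal R := by
    rw [← h]; exact Submodule.sum_mem _ fun k hk => (IsLocalRing.mem_maximalIdeal _).mpr (hc k hk)
  exact (IsLocalRing.mem_maximalIdeal _).mp this isUnit_one

include b hQ in
theorem exists_unit_Tw [IsLocalRing R] (hg : g ∈ QuadGrp.O Q) :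
    ∃ u : (CliffordAlgebra Q)ˣ, ∃ i : ZMod 2, (u : CliffordAlgebra Q) ∈ Tw Q g ∧
      (u : CliffordAlgebra Q) ∈ evenOdd Q i := by
  obtain ⟨P⟩ := exists_pairs b hQ hg
  obtain ⟨k, -, hk⟩ := exists_isUnit_of_sum_eq_one Finset.univ P.r P.sum_r
  obtain ⟨r, hr⟩ := hk
  refine ⟨⟨P.p k, (↑r⁻¹ : R) • P.q k, ?_, ?_⟩, P.par k, P.p_mem k, P.p_par k⟩
  · rw [mul_smul_comm, P.pq, ← hr, ← scalar_mul_eq, ← map_mul, Units.inv_mul, map_one]
  · rw [smul_mul_assoc, P.qp, ← hr, ← scalar_mul_eq, ← map_mul, Units.inv_mul, map_one]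

theorem IsParity.even_of_eq_one [Nontrivial R] {u : (CliffordAlgebra Q)ˣ} (b : Module.Basis (Fin n) R M) {i : ZMod 2}
    (he : IsParity Q g 1) (hu : (u : CliffordAlgebra Q) ∈ Tw Q g) (hi : (u : CliffordAlgebra Q) ∈ evenOdd Q i) :
    i = 0 := by
  rcases (show ∀ a : ZMod 2, a = 0 ∨ a = 1 by decide) i with h | h
  · exact h
  · haveI := nontrivial_clifford (Q := Q) b
    have := he.odd_fix hu (h ▸ hi)
    rw [one_smul] at this
    exact absurd this u.ne_zero

theorem IsParity.odd_of_eq_zero [Nontrivial R] {u : (CliffordAlgebra Q)ˣ} (b : Module.Basis (Fin n) R M) {i : ZMod 2}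
    (he : IsParity Q g 0) (hu : (u : CliffordAlgebra Q) ∈ Tw Q g) (hi : (u : CliffordAlgebra Q) ∈ evenOdd Q i) :
    i = 1 := by
  rcases (show ∀ a : ZMod 2, a = 0 ∨ a = 1 by decide) i with h | h
  · haveI := nontrivial_clifford (Q := Q) b
    have := he.even_fix hu (h ▸ hi)
    rw [zero_smul] at this
    exact absurd this.symm u.ne_zero
  · exact h

theorem idem_zero_or_one_of_local [IsLocalRing R] {e : R} (he : IsIdempotentElem e) : e = 0 ∨ e = 1 := by
  rcases IsLocalRing.isUnit_or_isUnit_one_sub_self e with h | h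
  · exact Or.inr ((IsIdempotentElem.iff_eq_one_of_isUnit h).mp he)
  · refine Or.inl ?_
    have := (IsIdempotentElem.iff_eq_one_of_isUnit h).mp he.one_sub
    linear_combination -this

theorem conj_of_even {u : (CliffordAlgebra Q)ˣ} (hu : (u : CliffordAlgebra Q) ∈ Tw Q g)
    (h0 : (u : CliffordAlgebra Q) ∈ evenOdd Q 0) (v : M) :
    (u : CliffordAlgebra Q) * ι Q v * ↑u⁻¹ = ι Q (g v) := by
  have h := mem_Tw.mp hu v
  rw [involute_eq_of_mem_even h0] at h
  rw [← h, mul_assoc, Units.mul_inv, mul_one]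

theorem conj_of_odd {u : (CliffordAlgebra Q)ˣ} (hu : (u : CliffordAlgebra Q) ∈ Tw Q g)
    (h1 : (u : CliffordAlgebra Q) ∈ evenOdd Q 1) (v : M) :
    (u : CliffordAlgebra Q) * ι Q v * ↑u⁻¹ = -ι Q (g v) := by
  have h := mem_Tw.mp hu v
  rw [involute_eq_of_mem_odd h1, neg_mul] at h
  rw [← neg_neg ((u : CliffordAlgebra Q) * ι Q v), ← h, neg_mul, mul_assoc, Units.mul_inv, mul_one]

include b hQ in
theorem exists_even_unit_negOne [IsLocalRing R] (hn : Even n) :
    ∃ w : (CliffordAlgebra Q)ˣ, (w : CliffordAlgebra Q) ∈ evenOdd Q 0 ∧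
      (w : CliffordAlgebra Q) ∈ Tw Q (negOne R M) := by
  obtain ⟨w, i, hw, hi⟩ := exists_unit_Tw b hQ (negOne_mem (Q := Q))
  have := (isParity_negOne b hQ hn).even_of_eq_one b hw hi
  exact ⟨w, this ▸ hi, hw⟩

include b hQ in
/-- Over a local ring and in even rank every isometry is a conjugation. -/
theorem exists_conj_local [IsLocalRing R] (hn : Even n) (hg : g ∈ QuadGrp.O Q) :
    ∃ u : (CliffordAlgebra Q)ˣ, ∀ v, (u : CliffordAlgebra Q) * ι Q v * ↑u⁻¹ = ι Q (g v) := by
  obtain ⟨u, i, hu, hi⟩ := exists_unit_Tw b hQ hg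
  rcases (show ∀ a : ZMod 2, a = 0 ∨ a = 1 by decide) i with h | h
  · exact ⟨u, conj_of_even hu (h ▸ hi)⟩
  · obtain ⟨w, hw0, hw⟩ := exists_even_unit_negOne b hQ hn
    refine ⟨u * w, fun v => ?_⟩
    have hwv := conj_of_even hw hw0 v
    rw [negOne_apply, map_neg] at hwv
    rw [Units.val_mul, mul_inv_rev, Units.val_mul,
      show ((u : CliffordAlgebra Q) * w) * ι Q v * (↑w⁻¹ * ↑u⁻¹) = u * ((w : CliffordAlgebra Q) * ι Q v * ↑w⁻¹) * ↑u⁻¹ by
        simp only [mul_assoc], hwv, mul_neg, neg_mul, conj_of_odd hu (h ▸ hi), neg_neg]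

/-- The reflection in a vector of unit square. -/
noncomputable def refl (Q : QuadraticForm R M) (v : M) (c : Rˣ) (hc : Q v = c) : M ≃ₗ[R] M :=
  Module.reflection (x := v) (f := (↑c⁻¹ : R) • Q.polarBilin v) (by
    rw [LinearMap.smul_apply, QuadraticMap.polarBilin_apply_apply, QuadraticMap.polar_self, hc, smul_eq_mul,
      show (↑c⁻¹ : R) * ((2 : ℕ) • (c : R)) = 2 * ((↑c⁻¹ : R) * c) by rw [nsmul_eq_mul]; push_cast; ring,
      Units.inv_mul, mul_one])

theorem refl_apply (v : M) (c : Rˣ) (hc : Q v = c) (x : M) :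
    refl Q v c hc x = x - ((↑c⁻¹ : R) * QuadraticMap.polar Q v x) • v := by
  simp [refl, Module.reflection_apply]

theorem refl_mem (v : M) (c : Rˣ) (hc : Q v = c) : refl Q v c hc ∈ QuadGrp.O Q := by
  intro x
  set a := (↑c⁻¹ : R) * QuadraticMap.polar Q v x with ha
  rw [refl_apply, sub_eq_add_neg, ← neg_smul]
  have h := QuadraticMap.map_smul Q (-a) v
  have hp : QuadraticMap.polar Q x ((-a) • v) = -a * QuadraticMap.polar Q v x := by
    rw [QuadraticMap.polar_smul_right, QuadraticMap.polar_comm, smul_eq_mul]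
  rw [QuadraticMap.map_add Q, hp, h, hc, smul_eq_mul, ha]
  linear_combination ((↑c⁻¹ : R) * (QuadraticMap.polar Q v x) ^ 2) * (Units.inv_mul c)

theorem ι_mem_Tw_refl (v : M) (c : Rˣ) (hc : Q v = c) : ι Q v ∈ Tw Q (refl Q v c hc) := by
  rw [mem_Tw]
  intro x
  have e : ι Q x * ι Q v = algebraMap R _ (QuadraticMap.polar Q v x) - ι Q v * ι Q x := by
    refine eq_sub_of_add_eq ?_
    rw [ι_mul_ι_add_swap, QuadraticMap.polar_comm]
  rw [refl_apply, map_sub, map_smul, sub_mul, smul_mul_assoc, ι_sq_scalar, involute_ι, e, hc, Algebra.smul_def,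
    ← map_mul (algebraMap R (CliffordAlgebra Q)), show (↑c⁻¹ : R) * QuadraticMap.polar Q v x * c = QuadraticMap.polar Q v x by
      rw [mul_right_comm, Units.inv_mul, one_mul]]
  noncomm_ring

/-- A vector with unit square gives a unit. -/
noncomputable def ιUnit (v : M) (c : Rˣ) (hc : Q v = c) : (CliffordAlgebra Q)ˣ where
  val := ι Q v
  inv := (↑c⁻¹ : R) • ι Q v
  val_inv := by rw [mul_smul_comm, ι_sq_scalar, hc, Algebra.smul_def, ← map_mul, Units.inv_mul, map_one]
  inv_val := by rw [smul_mul_assoc, ι_sq_scalar, hc, Algebra.smul_def, ← map_mul, Units.inv_mul, map_one]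

include b hQ in
theorem exists_isUnit_value [IsLocalRing R] (i : Fin n) : ∃ v : M, IsUnit (Q v) := by
  have h := polar_dualVec b hQ i (b i)
  rw [b.coord_apply, b.repr_self, Finsupp.single_eq_same, QuadraticMap.polar] at h
  by_contra hc
  simp only [not_exists] at hc
  have hm : ∀ v, Q v ∈ IsLocalRing.maximalIdeal R := fun v => (IsLocalRing.mem_maximalIdeal _).mpr (hc v)
  have : (1 : R) ∈ IsLocalRing.maximalIdeal R := by
    rw [← h]; exact sub_mem (sub_mem (hm _) (hm _)) (hm _)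
  exact (IsLocalRing.mem_maximalIdeal _).mp this isUnit_one

end Groth.Agent.Quad37
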