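import Groth.Agent.Quad37.OrthScheme
import Groth.Agent.Quad37.CliffMap
import Groth.Agent.Quad37.Local
import Groth.Agent.SpFP87.Reduced
import Mathlib.RingTheory.Flat.TorsionFree
import Mathlib.Data.ZMod.Basic

/-! The parity idempotent of points of `O` and the reducedness of `SO'` in even rank. -/

set_option autoImplicit false

universe u

open CategoryTheory AlgebraicGeometry

namespace Groth.Agent.Quad37

open Matrix CliffordAlgebra
open scoped TensorProduct

section Par

variable {R : Type u} [CommRing R] {M : Type u} [AddCommGroup M] [Module R M] [Module.Free R M] {n : ℕ}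
  (b : Module.Basis (Fin n) R M) (Q : QuadraticForm R M)

/-- The automorphism with given coordinates. -/
noncomputable def pAut (A : Type u) [CommRing A] [Algebra R A] (x : Coord n → A) (hx : orthF b Q A x = 0) :
    (A ⊗[R] M) ≃ₗ[A] (A ⊗[R] M) :=
  ((orthEquiv b Q A).symm ⟨x, hx⟩).1

variable {A : Type u} [CommRing A] [Algebra R A] {x : Coord n → A} (hx : orthF b Q A x = 0)

theorem pAut_mem : pAut b Q A x hx ∈ QuadGrp.O (QuadGrp.baseChangeForm A Q) :=
  (mem_orth_iff Q _).mp ((orthEquiv b Q A).symm ⟨x, hx⟩).2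

theorem pAut_apply (j : Fin n) :
    pAut b Q A x hx (Algebra.TensorProduct.basis A b j) =
      ∑ i, matX x i j • Algebra.TensorProduct.basis A b i :=
  Matrix.toLin_self _ _ _ _

theorem pAut_natural {T : Type u} [CommRing T] [Algebra R T] (ψ : A →ₐ[R] T) (hx' : orthF b Q T (ψ ∘ x) = 0)
    (v : A ⊗[R] M) : pAut b Q T (ψ ∘ x) hx' (bcVec ψ v) = bcVec ψ (pAut b Q A x hx v) := by
  rw [← (Algebra.TensorProduct.basis A b).sum_repr v]
  simp only [map_sum, LinearMap.map_smulₛₗ, LinearEquiv.map_smul]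
  refine Finset.sum_congr rfl fun j _ => ?_
  rw [pAut_apply, bcVec_basis, pAut_apply, map_sum]
  congr 1
  refine Finset.sum_congr rfl fun i _ => ?_
  rw [LinearMap.map_smulₛₗ, bcVec_basis]
  rfl

theorem orthF_comp {T : Type u} [CommRing T] [Algebra R T] (ψ : A →ₐ[R] T) (h : orthF b Q A x = 0) :
    orthF b Q T (ψ ∘ x) = 0 := by
  funext i
  rw [← orthF_nat, h]
  exact map_zero ψ

variable (hQ : QuadGrp.IsRegular Q)

/-- The parity idempotent of a point. -/
noncomputable def par : A :=
  (exists_isParity (Algebra.TensorProduct.basis A b) (isRegular_baseChange b Q A hQ) (pAut_mem b Q hx)).choose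

theorem par_spec : IsParity (QuadGrp.baseChangeForm A Q) (pAut b Q A x hx) (par b Q hx hQ) :=
  (exists_isParity (Algebra.TensorProduct.basis A b) (isRegular_baseChange b Q A hQ) (pAut_mem b Q hx)).choose_spec

theorem par_eq {e : A} (he : IsParity (QuadGrp.baseChangeForm A Q) (pAut b Q A x hx) e) : par b Q hx hQ = e :=
  (par_spec b Q hx hQ).unique (Algebra.TensorProduct.basis A b) (isRegular_baseChange b Q A hQ) (pAut_mem b Q hx) he

theorem par_natural {T : Type u} [CommRing T] [Algebra R T] (ψ : A →ₐ[R] T) (hx' : orthF b Q T (ψ ∘ x) = 0) :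
    par b Q hx' hQ = ψ (par b Q hx hQ) :=
  par_eq b Q hx' hQ
    ((par_spec b Q hx hQ).map (bcVec ψ) (baseChangeForm_bcVec Q ψ) _ _ (bcVec_basis b ψ)
      (isRegular_baseChange b Q A hQ) (isRegular_baseChange b Q T hQ) (pAut_mem b Q hx)
      (pAut_natural b Q hx ψ hx'))

theorem det_matX (hn : Even n) : (matX x).det = 2 * par b Q hx hQ - 1 := by
  rw [← det_eq (Algebra.TensorProduct.basis A b) (isRegular_baseChange b Q A hQ) hn (pAut_mem b Q hx)
    (par_spec b Q hx hQ), ← LinearMap.det_toMatrix (Algebra.TensorProduct.basis A b)]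
  congr 1
  exact (LinearMap.toMatrix_toLin _ _ (matX x)).symm

end Par

section SOrth

variable {R : Type u} [CommRing R] {M : Type u} [AddCommGroup M] [Module R M] [Module.Free R M] {n : ℕ}
  (b : Module.Basis (Fin n) R M) (Q : QuadraticForm R M) {G : Over (Spec (CommRingCat.of R))} [GrpObj G]
  (D : QuadGrp.SOrth'Rep Q G) (hQ : QuadGrp.IsRegular Q) (hn : Even n)

/-- The coordinate ring of `SO'`. -/
abbrev sRing : Type u := (sorthPresentation b Q D).Ring

/-- The universal point. -/
noncomputable def uPt : Coord n → sRing b Q D :=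
  (((sorthPresentation b Q D).homEquiv (sRing b Q D)).symm (AlgHom.id R _)).1

theorem uPt_orthF : orthF b Q (sRing b Q D) (uPt b Q D) = 0 :=
  ((sorthF_eq_zero_iff b Q _ _).mp (((sorthPresentation b Q D).homEquiv (sRing b Q D)).symm (AlgHom.id R _)).2).1

/-- The parity idempotent on `SO'`. -/
noncomputable def sPar : sRing b Q D := par b Q (uPt_orthF b Q D) hQ

theorem sPar_idem : IsIdempotentElem (sPar b Q D hQ) := (par_spec b Q (uPt_orthF b Q D) hQ).1

include hn in
theorem two_mul_one_sub_sPar : 2 * (1 - sPar b Q D hQ) = 0 := by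
  have h1 : (matX (uPt b Q D)).det = 1 := ((sorthF_eq_zero_iff b Q _ _).mp
    (((sorthPresentation b Q D).homEquiv (sRing b Q D)).symm (AlgHom.id R _)).2).2
  rw [det_matX b Q (uPt_orthF b Q D) hQ hn] at h1
  show 2 * (1 - par b Q (uPt_orthF b Q D) hQ) = 0
  linear_combination -h1

include hn in
/-- Lifting of points with parity `c` (`c = 0` in characteristic two, or `c = 1`). -/
theorem exists_lift_par {B : Type u} [CommRing B] [Algebra R B] {I : Ideal B} (hI : I ^ 2 = ⊥) {c : B}
    (hc : IsIdempotentElem c) (hdet : 2 * c - 1 = 1) (f : sRing b Q D →ₐ[R] B ⧸ I)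
    (hf : f (sPar b Q D hQ) = Ideal.Quotient.mk I c) :
    ∃ h : sRing b Q D →ₐ[R] B, (Ideal.Quotient.mkₐ R I).comp h = f ∧ h (sPar b Q D hQ) = c := by
  choose y hy using fun s => Ideal.Quotient.mk_surjective (f (uPt b Q D s))
  have hzero : orthF b Q (B ⧸ I) (f ∘ uPt b Q D) = 0 := orthF_comp b Q f (uPt_orthF b Q D)
  have hy' : ∀ i, orthF b Q B y i ∈ I := fun i => by
    rw [← Ideal.Quotient.eq_zero_iff_mem]
    refine (orthF_nat b Q (Ideal.Quotient.mkₐ R I) y i).trans ?_
    rw [show (Ideal.Quotient.mkₐ R I ∘ y) = f ∘ uPt b Q D from funext hy, hzero]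
    rfl
  obtain ⟨W, hW, hW'⟩ := exists_lift_orth hI (isUnit_Pm_cf b Q B (isUnit_Pm_of_regular b Q hQ)) (X := matX y)
    fun s => hy' (Sum.inl s)
  obtain ⟨x, hx, h0, -⟩ := exists_lift_coord b Q B hI y hy' hW hW'
  have hmk : Ideal.Quotient.mkₐ R I ∘ x = f ∘ uPt b Q D := funext fun s =>
    (Ideal.Quotient.eq.mpr (hx s)).trans (hy s)
  have hx' : orthF b Q (B ⧸ I) (Ideal.Quotient.mkₐ R I ∘ x) = 0 := by rw [hmk]; exact hzero
  have hp : Ideal.Quotient.mk I (par b Q h0 hQ) = Ideal.Quotient.mk I c := by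
    rw [← hf, sPar, ← par_natural b Q (uPt_orthF b Q D) hQ f hzero, ← Ideal.Quotient.mkₐ_eq_mk R,
      ← par_natural b Q h0 hQ (Ideal.Quotient.mkₐ R I) hx']
    exact par_eq b Q hx' hQ (by
      have := par_spec b Q hzero hQ
      simp only [hmk]
      exact this)
  have hpc : par b Q h0 hQ = c := by
    have hi := (par_spec b Q h0 hQ).1
    set p := par b Q h0 hQ
    have hd : p - c ∈ I := Ideal.Quotient.eq.mp hp
    have h2 := mul_eq_zero_of_mem hI hd hd
    linear_combination hi.eq - hc.eq - h2 - (p - c) * hdet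
  have hdx : (matX x).det = 1 := by rw [det_matX b Q h0 hQ hn, hpc, hdet]
  let P := sorthPresentation b Q D
  let h : sRing b Q D →ₐ[R] B := P.homEquiv B ⟨x, (sorthF_eq_zero_iff b Q B x).mpr ⟨h0, hdx⟩⟩
  have hh : h ∘ uPt b Q D = x :=
    congrArg Subtype.val ((P.homEquiv B).symm_apply_apply ⟨x, (sorthF_eq_zero_iff b Q B x).mpr ⟨h0, hdx⟩⟩)
  refine ⟨h, ?_, ?_⟩
  · apply (P.homEquiv _).symm.injective
    exact Subtype.ext (funext fun s => (congrArg (Ideal.Quotient.mk I) (congrFun hh s)).trans (congrFun hmk s))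
  · have h3 := par_natural b Q (uPt_orthF b Q D) hQ h (orthF_comp b Q h (uPt_orthF b Q D))
    rw [sPar, ← h3, ← hpc]
    exact par_eq b Q _ hQ (by simp only [hh]; exact par_spec b Q h0 hQ)

instance : Algebra.FinitePresentation R (sRing b Q D) := inferInstance

include hn in
/-- The component where the parity is `1` is smooth. -/
theorem smooth_parOne : Algebra.Smooth R (sRing b Q D ⧸ Ideal.span {1 - sPar b Q D hQ}) := by
  haveI : Algebra.FinitePresentation R (sRing b Q D ⧸ Ideal.span {1 - sPar b Q D hQ}) :=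
    Algebra.FinitePresentation.quotient (Submodule.fg_span_singleton _)
  refine { formallySmooth := Algebra.FormallySmooth.of_comp_surjective fun B _ _ I hI f => ?_ }
  have hf : (f.comp (Ideal.Quotient.mkₐ R _)) (sPar b Q D hQ) = Ideal.Quotient.mk I 1 := by
    have : f (Ideal.Quotient.mk _ (1 - sPar b Q D hQ)) = 0 := by
      rw [Ideal.Quotient.eq_zero_iff_mem.mpr (Ideal.mem_span_singleton_self _), map_zero]
    rw [map_sub, map_sub, map_one, map_one, sub_eq_zero] at this
    rw [AlgHom.comp_apply, Ideal.Quotient.mkₐ_eq_mk, ← this, map_one]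
  obtain ⟨h, h1, h2⟩ := exists_lift_par b Q D hQ hn hI IsIdempotentElem.one (by norm_num) _ hf
  refine ⟨Ideal.Quotient.liftₐ _ h fun a ha => ?_, ?_⟩
  · obtain ⟨c, rfl⟩ := Ideal.mem_span_singleton'.mp ha
    rw [map_mul, map_sub, map_one, h2, sub_self, mul_zero]
  · apply Ideal.Quotient.algHom_ext
    refine AlgHom.ext fun a => ?_
    exact DFunLike.congr_fun h1 a

theorem isReduced_of_char_two_lifting [_root_.IsReduced (R ⧸ Ideal.span {(2 : R)})] (C : Type u) [CommRing C]
    [Algebra R C] [Algebra.FinitePresentation R C] (h2 : (2 : C) = 0)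
    (hlift : ∀ (B : Type u) [CommRing B] [Algebra R B], (2 : B) = 0 → ∀ I : Ideal B, I ^ 2 = ⊥ →
      ∀ f : C →ₐ[R] B ⧸ I, ∃ h : C →ₐ[R] B, (Ideal.Quotient.mkₐ R I).comp h = f) : _root_.IsReduced C := by
  letI : Algebra (R ⧸ Ideal.span {(2 : R)}) C := RingHom.toAlgebra (Ideal.Quotient.lift _ (algebraMap R C)
    fun a ha => by
      obtain ⟨c, rfl⟩ := Ideal.mem_span_singleton'.mp ha
      rw [map_mul, map_ofNat, h2, mul_zero])
  haveI : IsScalarTower R (R ⧸ Ideal.span {(2 : R)}) C := IsScalarTower.of_algebraMap_eq fun r => rfl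
  haveI : Algebra.Smooth (R ⧸ Ideal.span {(2 : R)}) C := by
    refine { formallySmooth := Algebra.FormallySmooth.of_comp_surjective fun B _ _ I hI f => ?_,
             finitePresentation :=
               Algebra.FinitePresentation.of_restrict_scalars_finitePresentation R (R ⧸ Ideal.span {(2 : R)}) C }
    letI : Algebra R B := Algebra.compHom B (algebraMap R (R ⧸ Ideal.span {(2 : R)}))
    haveI : IsScalarTower R (R ⧸ Ideal.span {(2 : R)}) B := IsScalarTower.of_algebraMap_eq fun r => rfl
    have h2B : (2 : B) = 0 := by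
      rw [← map_ofNat (algebraMap R B) 2, IsScalarTower.algebraMap_apply R (R ⧸ Ideal.span {(2 : R)}) B,
        show algebraMap R (R ⧸ Ideal.span {(2 : R)}) 2 = 0 from
          Ideal.Quotient.eq_zero_iff_mem.mpr (Ideal.mem_span_singleton_self _), map_zero]
    obtain ⟨h, h1⟩ := hlift B h2B I hI (f.restrictScalars R)
    refine ⟨{ h.toRingHom with commutes' := fun r => ?_ }, AlgHom.ext fun z => DFunLike.congr_fun h1 z⟩
    obtain ⟨r, rfl⟩ := Ideal.Quotient.mk_surjective r
    exact h.commutes r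
  exact SpFP87.isReduced_of_smooth_ring (R ⧸ Ideal.span {(2 : R)}) C

include hn in
/-- In characteristic two the component where the parity is `0` is smooth over `R/2`. -/
theorem isReduced_parZero [_root_.IsReduced (R ⧸ Ideal.span {(2 : R)})] :
    _root_.IsReduced (sRing b Q D ⧸ Ideal.span {sPar b Q D hQ}) := by
  haveI : Algebra.FinitePresentation R (sRing b Q D ⧸ Ideal.span {sPar b Q D hQ}) :=
    Algebra.FinitePresentation.quotient (Submodule.fg_span_singleton _)
  refine isReduced_of_char_two_lifting (R := R) (sRing b Q D ⧸ Ideal.span {sPar b Q D hQ}) ?_ ?_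
  · show Ideal.Quotient.mk _ (2 : sRing b Q D) = 0
    rw [Ideal.Quotient.eq_zero_iff_mem, Ideal.mem_span_singleton']
    exact ⟨2, by linear_combination -two_mul_one_sub_sPar b Q D hQ hn⟩
  · intro B _ _ h2B I hI f
    have hf : (f.comp (Ideal.Quotient.mkₐ R _)) (sPar b Q D hQ) = Ideal.Quotient.mk I 0 := by
      rw [AlgHom.comp_apply, Ideal.Quotient.mkₐ_eq_mk,
        Ideal.Quotient.eq_zero_iff_mem.mpr (Ideal.mem_span_singleton_self _), map_zero, map_zero]
    obtain ⟨h, h1, h2⟩ := exists_lift_par b Q D hQ hn hI IsIdempotentElem.zero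
      (by linear_combination -h2B) _ hf
    refine ⟨Ideal.Quotient.liftₐ _ h fun a ha => ?_, ?_⟩
    · obtain ⟨c, rfl⟩ := Ideal.mem_span_singleton'.mp ha
      rw [map_mul, h2, mul_zero]
    · apply Ideal.Quotient.algHom_ext
      exact AlgHom.ext fun a => DFunLike.congr_fun h1 a

include b hQ D hn in
theorem isReduced_sorth' [_root_.IsReduced R] [_root_.IsReduced (R ⧸ Ideal.span {(2 : R)})] :
    AlgebraicGeometry.IsReduced G.left := by
  haveI : _root_.IsReduced (sRing b Q D) := by
    haveI := smooth_parOne b Q D hQ hn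
    haveI h0 := isReduced_parZero b Q D hQ hn
    haveI h1 := SpFP87.isReduced_of_smooth_ring R (sRing b Q D ⧸ Ideal.span {1 - sPar b Q D hQ})
    refine ⟨fun a ha => ?_⟩
    have ha1 : IsNilpotent (Ideal.Quotient.mk (Ideal.span {1 - sPar b Q D hQ}) a) := ha.map (Ideal.Quotient.mk _)
    have ha0 : IsNilpotent (Ideal.Quotient.mk (Ideal.span {sPar b Q D hQ}) a) := ha.map (Ideal.Quotient.mk _)
    obtain ⟨c, hc⟩ := Ideal.mem_span_singleton'.mp (Ideal.Quotient.eq_zero_iff_mem.mp ha1.eq_zero)
    obtain ⟨d, hd⟩ := Ideal.mem_span_singleton'.mp (Ideal.Quotient.eq_zero_iff_mem.mp ha0.eq_zero)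
    have he := (sPar_idem b Q D hQ).eq
    linear_combination -(sPar b Q D hQ) * hc - (1 - sPar b Q D hQ) * hd - (c + d) * he
  exact Quad37.isReduced (sorthPresentation b Q D).toHom (sorthPresentation b Q D).toHom_nat

end SOrth

end Groth.Agent.Quad37
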