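import Groth.Agent.Quad37.GPinScheme
import Groth.Agent.Quad37.OrthParity

/-! Lifting points of `GPin` in even rank. -/

set_option autoImplicit false

universe u v

open CategoryTheory AlgebraicGeometry

namespace Groth.Agent.Quad37

open CliffordAlgebra Matrix
open scoped TensorProduct

section General

variable {A : Type u} [CommRing A] {N : Type v} [AddCommGroup N] [Module A N] {q : QuadraticForm A N}

theorem involute_of_idem {p : CliffordAlgebra q} {e : A} (h0 : e • p ∈ evenOdd q 0) (h1 : (1 - e) • p ∈ evenOdd q 1) :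
    involute p = (2 * e - 1) • p := by
  have hp : p = e • p + (1 - e) • p := by rw [← add_smul, add_sub_cancel, one_smul]
  conv_lhs => rw [hp]
  rw [map_add, involute_eq_of_mem_even h0, involute_eq_of_mem_odd h1, ← neg_smul, ← add_smul]
  congr 1
  ring

theorem sign_sq {e : A} (he : IsIdempotentElem e) : (2 * e - 1) * (2 * e - 1) = 1 := by
  linear_combination 4 * he.eq

/-- Scaling by a sign. -/
noncomputable def signEquiv {e : A} (he : IsIdempotentElem e) (N : Type v) [AddCommGroup N] [Module A N] :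
    N ≃ₗ[A] N :=
  LinearEquiv.smulOfUnit ⟨2 * e - 1, 2 * e - 1, sign_sq he, sign_sq he⟩

theorem signEquiv_apply {e : A} (he : IsIdempotentElem e) (x : N) : signEquiv he N x = (2 * e - 1) • x := rfl

end General

variable {R : Type u} [CommRing R] {M : Type u} [AddCommGroup M] [Module R M] [Module.Free R M] {n : ℕ}
  (b : Module.Basis (Fin n) R M) (Q : QuadraticForm R M)

theorem polar_bcVec {S T : Type u} [CommRing S] [Algebra R S] [CommRing T] [Algebra R T] (ψ : S →ₐ[R] T)
    (v w : S ⊗[R] M) :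
    QuadraticMap.polar (QuadGrp.baseChangeForm T Q) (bcVec ψ v) (bcVec ψ w) =
      ψ (QuadraticMap.polar (QuadGrp.baseChangeForm S Q) v w) := by
  simp only [QuadraticMap.polar, ← map_add, baseChangeForm_bcVec, map_sub]

/-- Lifting points of `O` along square-zero ideals. -/
theorem exists_lift_orth_point (hP : IsUnit (Pm (QuadGrp.coeffs b (LinearEquiv.refl R R) Q)).det)
    (A : Type u) [CommRing A] [Algebra R A] {I : Ideal A} (hI : I ^ 2 = ⊥) (z : Coord n → A ⧸ I)
    (hz : orthF b Q (A ⧸ I) z = 0) :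
    ∃ x : Coord n → A, orthF b Q A x = 0 ∧ Ideal.Quotient.mkₐ R I ∘ x = z := by
  choose y hy using fun s => Ideal.Quotient.mk_surjective (z s)
  have hy' : ∀ i, orthF b Q A y i ∈ I := fun i => by
    rw [← Ideal.Quotient.eq_zero_iff_mem]
    refine (orthF_nat b Q (Ideal.Quotient.mkₐ R I) y i).trans ?_
    rw [show (Ideal.Quotient.mkₐ R I ∘ y) = z from funext hy, hz]
    rfl
  obtain ⟨W, hW, hW'⟩ := exists_lift_orth hI (isUnit_Pm_cf b Q A hP) (X := matX y) fun s => hy' (Sum.inl s)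
  obtain ⟨x, hx, h0, -⟩ := exists_lift_coord b Q A hI y hy' hW hW'
  exact ⟨x, h0, funext fun s => (Ideal.Quotient.eq.mpr (hx s)).trans (hy s)⟩

theorem cliffAlg_surjective {A B : Type u} [CommRing A] [Algebra R A] [CommRing B] [Algebra R B] (b : Module.Basis (Fin n) R M)
    (ψ : A →ₐ[R] B) (hψ : Function.Surjective ψ) : Function.Surjective (cliffAlg Q ψ) :=
  cliffMap_surjective (bcVec ψ) _ (Algebra.TensorProduct.basis A b) (Algebra.TensorProduct.basis B b)
    (bcVec_basis b ψ) hψ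

theorem isUnit_of_cliffAlg {A : Type u} [CommRing A] [Algebra R A] (b : Module.Basis (Fin n) R M) {I : Ideal A}
    (hI : I ^ 2 = ⊥) {z : CliffordAlgebra (QuadGrp.baseChangeForm A Q)}
    (hz : IsUnit (cliffAlg Q (Ideal.Quotient.mkₐ R I) z)) : IsUnit z :=
  isUnit_of_cliffMap (bcVec (Ideal.Quotient.mkₐ R I)) _ (Algebra.TensorProduct.basis A b)
    (Algebra.TensorProduct.basis (A ⧸ I) b) (bcVec_basis b _) (Ideal.Quotient.mkₐ_surjective R I)
    (by rw [show RingHom.ker ((Ideal.Quotient.mkₐ R I : A →ₐ[R] A ⧸ I) : A →+* A ⧸ I) = I from Ideal.mk_ker, hI]) hz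

include b in
/-- Points of `GPin` lift along square-zero ideals, even rank. -/
theorem exists_lift_gpin_even (hQ : QuadGrp.IsRegular Q) (A : Type u) [CommRing A] [Algebra R A] (I : Ideal A)
    (hI : I ^ 2 = ⊥) (w : ↥(QuadGrp.gpin Q (A ⧸ I))) :
    ∃ u : ↥(QuadGrp.gpin Q A), cliffAlg Q (Ideal.Quotient.mkₐ R I) (u.1 : CliffordAlgebra _) = w.1 := by
  set π := Ideal.Quotient.mkₐ R I with hπ
  set q := QuadGrp.baseChangeForm A Q
  set q' := QuadGrp.baseChangeForm (A ⧸ I) Q
  set bA := Algebra.TensorProduct.basis A b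
  set bB := Algebra.TensorProduct.basis (A ⧸ I) b
  have hqA := isRegular_baseChange b Q A hQ
  have hqB := isRegular_baseChange b Q (A ⧸ I) hQ
  obtain ⟨g, hgO, hg⟩ := exists_conj bB w.2.1
  obtain ⟨he, h0, h1⟩ := gIdem_spec Q (A ⧸ I) w
  set s := signEquiv he ((A ⧸ I) ⊗[R] M)
  set gt := g.trans s with hgt
  have hgtO : gt ∈ QuadGrp.O q' := fun v => by
    rw [hgt, LinearEquiv.trans_apply, signEquiv_apply, QuadraticMap.map_smul, hgO v, sign_sq he, one_smul]
  have hwT : (w.1 : CliffordAlgebra q') ∈ Tw q' gt := by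
    rw [mem_Tw]
    intro v
    rw [involute_of_idem h0 h1, hgt, LinearEquiv.trans_apply, signEquiv_apply, map_smul, smul_mul_assoc, smul_mul_assoc,
      ← hg v, mul_assoc, Units.inv_mul, mul_one]
  obtain ⟨x, hx, hxz⟩ := exists_lift_orth_point b Q (isUnit_Pm_of_regular b Q hQ) A hI
    (orthEquiv b Q (A ⧸ I) ⟨gt, (mem_orth_iff Q _).mpr hgtO⟩).1 (orthEquiv b Q (A ⧸ I) _).2
  set g' := pAut b Q A x hx with hg'
  have hg'O : g' ∈ QuadGrp.O q := pAut_mem b Q hx
  have hx' : orthF b Q (A ⧸ I) (π ∘ x) = 0 := orthF_comp b Q π hx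
  have hgeq : pAut b Q (A ⧸ I) (π ∘ x) hx' = gt := by
    have : (⟨π ∘ x, hx'⟩ : {z : Coord n → A ⧸ I // orthF b Q (A ⧸ I) z = 0}) =
        orthEquiv b Q (A ⧸ I) ⟨gt, (mem_orth_iff Q _).mpr hgtO⟩ := Subtype.ext hxz
    rw [pAut, this, Equiv.symm_apply_apply]
  have hnat : ∀ v, gt (bcVec π v) = bcVec π (g' v) := fun v => by
    rw [← hgeq]; exact pAut_natural b Q hx π hx' v
  have hdual : ∀ i, bcVec π (dualVec bA hqA i) = dualVec bB hqB i := fun i => by
    refine hqB.1 (bB.ext fun j => ?_)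
    rw [QuadraticMap.polarBilin_apply_apply, QuadraticMap.polarBilin_apply_apply, polar_dualVec, ← bcVec_basis b π j,
      polar_bcVec, polar_dualVec, bcVec_basis, bA.coord_apply, bB.coord_apply, bA.repr_self, bB.repr_self,
      Finsupp.single_apply, Finsupp.single_apply]
    split_ifs <;> simp
  let F : CliffordAlgebra q →+ CliffordAlgebra q' := (cliffAlg Q π).toAddMonoidHom
  have hFa : ∀ i z, F (aT g' (dualVec bA hqA i) z) = aT gt (dualVec bB hqB i) (F z) := fun i z => by
    show cliffAlg Q π (aT g' (dualVec bA hqA i) z) = aT gt (dualVec bB hqB i) (cliffAlg Q π z)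
    rw [aT_apply, aT_apply, map_sub, map_mul, map_mul, cliffAlg_ι, cliffAlg_ι, ← hnat, hdual]
    congr 2
    exact cliffMap_involute _ _ z
  have hFb : ∀ i z, F (LinearMap.mulLeft A (ι q (g' (bA i))) z) =
      LinearMap.mulLeft (A ⧸ I) (ι q' (gt (bB i))) (F z) := fun i z => by
    show cliffAlg Q π (ι q (g' (bA i)) * z) = ι q' (gt (bB i)) * cliffAlg Q π z
    rw [map_mul, cliffAlg_ι, ← hnat, bcVec_basis]
  obtain ⟨z0, hz0⟩ := cliffAlg_surjective Q b π (Ideal.Quotient.mkₐ_surjective R I) (w.1 : CliffordAlgebra q')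
  have hcA := isCAR_T bA hqA hg'O
  have hcB := isCAR_T bB hqB hgtO
  set p := projK (fun i => aT g' (dualVec bA hqA i)) (fun i => LinearMap.mulLeft A (ι q (g' (bA i)))) z0 with hp
  have hFp : cliffAlg Q π p = w.1 := by
    have h := projL_natural F hFa hFb (List.finRange n) z0
    refine h.trans ?_
    rw [show F z0 = (w.1 : CliffordAlgebra q') from hz0]
    exact hcB.projK_of_ker fun i => by rw [aT_apply, mem_Tw.mp hwT, sub_self]
  have hpT : p ∈ Tw q g' := (mem_Tw_iff_dual bA hqA g').mpr fun i => hcA.a_projK i z0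
  obtain ⟨u, hu⟩ := isUnit_of_cliffAlg Q b hI (z := p) (by rw [hFp]; exact w.1.isUnit)
  obtain ⟨e', he'⟩ := exists_isParity bA hqA hg'O
  obtain ⟨he0, he1⟩ := he'.2 p hpT
  have hconj : ∀ v, (u : CliffordAlgebra q) * ι q v * ↑u⁻¹ = ι q ((g'.trans (signEquiv he'.1 _)) v) := fun v => by
    have h := mem_Tw.mp hpT v
    rw [involute_of_idem he0 he1, smul_mul_assoc, ← hu] at h
    rw [LinearEquiv.trans_apply, signEquiv_apply, map_smul]
    calc (u : CliffordAlgebra q) * ι q v * ↑u⁻¹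
        = ((2 * e' - 1) * (2 * e' - 1)) • ((u : CliffordAlgebra q) * ι q v * ↑u⁻¹) := by rw [sign_sq he'.1, one_smul]
      _ = (2 * e' - 1) • (((2 * e' - 1) • ((u : CliffordAlgebra q) * ι q v)) * ↑u⁻¹) := by
        rw [smul_mul_assoc, smul_smul]
      _ = (2 * e' - 1) • ι q (g' v) := by rw [← h, mul_assoc, Units.mul_inv, mul_one]
  refine ⟨⟨u, mem_GPin'_of_conj hconj, ⟨e', he'.1, ?_, ?_⟩⟩, ?_⟩
  · rw [hu]; exact he0
  · rw [hu]; exact he1
  · show cliffAlg Q π (u : CliffordAlgebra q) = _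
    rw [hu, hFp]

end Groth.Agent.Quad37
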