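import Groth.Agent.Quad37.GPinLift
import Groth.Agent.Quad37.OddConj

/-! Lifting points of `GPin` and `Pin` in odd rank. -/

set_option autoImplicit false

universe u v

open CategoryTheory AlgebraicGeometry

namespace Groth.Agent.Quad37

open CliffordAlgebra Matrix
open scoped TensorProduct

section Odd

variable {R : Type u} [CommRing R] {M : Type u} [AddCommGroup M] [Module R M] [Module.Free R M] {m : ℕ}
  (b : Module.Basis (Fin (2 * m + 1)) R M) (Q : QuadraticForm R M)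
  (hQ : QuadGrp.IsSemiregular b (LinearEquiv.refl R R) Q)

include hQ in
theorem isSemiregular_baseChange (A : Type u) [CommRing A] [Algebra R A] :
    QuadGrp.IsSemiregular (Algebra.TensorProduct.basis A b) (LinearEquiv.refl A A) (QuadGrp.baseChangeForm A Q) := by
  rw [QuadGrp.IsSemiregular, halfDisc_baseChangeForm]
  exact hQ.map _

theorem cliffAlg_mem {A B : Type u} [CommRing A] [Algebra R A] [CommRing B] [Algebra R B] (ψ : A →ₐ[R] B)
    {z : CliffordAlgebra (QuadGrp.baseChangeForm A Q)} {i : ZMod 2} (hz : z ∈ evenOdd _ i) :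
    cliffAlg Q ψ z ∈ evenOdd (QuadGrp.baseChangeForm B Q) i := cliffMap_mem _ _ hz

/-- The commutation defect with an isometry, in coordinates. -/
noncomputable def twT (A : Type u) [CommRing A] [Algebra R A] (g : (A ⊗[R] M) ≃ₗ[A] (A ⊗[R] M)) :
    (Finset (Fin (2 * m + 1)) → A) →ₗ[A] (Fin (2 * m + 1) × Finset (Fin (2 * m + 1)) → A) :=
  LinearMap.pi fun p => ((cB b Q A).coord p.2).comp
    ((LinearMap.mulLeft A (ι (QuadGrp.baseChangeForm A Q) (g (Algebra.TensorProduct.basis A b p.1))) -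
      LinearMap.mulRight A (ι (QuadGrp.baseChangeForm A Q) (Algebra.TensorProduct.basis A b p.1))).comp
        (cB b Q A).equivFun.symm.toLinearMap)

theorem twT_apply (A : Type u) [CommRing A] [Algebra R A] (g : (A ⊗[R] M) ≃ₗ[A] (A ⊗[R] M))
    (z : CliffordAlgebra (QuadGrp.baseChangeForm A Q)) (p : Fin (2 * m + 1) × Finset (Fin (2 * m + 1))) :
    twT b Q A g ((cB b Q A).equivFun z) p =
      (cB b Q A).repr (ι _ (g (Algebra.TensorProduct.basis A b p.1)) * z -
        z * ι _ (Algebra.TensorProduct.basis A b p.1)) p.2 := by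
  simp [twT, -cbasis_apply]

theorem twT_eq_zero (A : Type u) [CommRing A] [Algebra R A] (g : (A ⊗[R] M) ≃ₗ[A] (A ⊗[R] M))
    (z : CliffordAlgebra (QuadGrp.baseChangeForm A Q)) (h : twT b Q A g ((cB b Q A).equivFun z) = 0)
    (v : A ⊗[R] M) : ι _ (g v) * z = z * ι _ v := by
  have hi : ∀ i, ι _ (g (Algebra.TensorProduct.basis A b i)) * z = z * ι _ (Algebra.TensorProduct.basis A b i) :=
    fun i => sub_eq_zero.mp <| (cB b Q A).ext_elem fun T => by
      rw [← twT_apply b Q A g z (i, T), h]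
      simp
  rw [← (Algebra.TensorProduct.basis A b).sum_repr v, map_sum, map_sum, map_sum, Finset.sum_mul, Finset.mul_sum]
  exact Finset.sum_congr rfl fun i _ => by rw [map_smul, map_smul, map_smul, smul_mul_assoc, mul_smul_comm, hi]

theorem det_pAut {A : Type u} [CommRing A] [Algebra R A] {x : Coord (2 * m + 1) → A}
    (hx : orthF b Q A x = 0) :
    LinearMap.det (pAut b Q A x hx : (A ⊗[R] M) →ₗ[A] (A ⊗[R] M)) = (matX x).det := by
  rw [← LinearMap.det_toMatrix (Algebra.TensorProduct.basis A b)]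
  exact congrArg Matrix.det (LinearMap.toMatrix_toLin _ _ (matX x))

include hQ in
/-- Lifting points of `SO'` along square-zero ideals. -/
theorem exists_lift_sorth_point (A : Type u) [CommRing A] [Algebra R A] {I : Ideal A} (hI : I ^ 2 = ⊥)
    (z : Coord (2 * m + 1) → A ⧸ I) (hz : orthF b Q (A ⧸ I) z = 0) (hd : (matX z).det = 1) :
    ∃ x : Coord (2 * m + 1) → A, orthF b Q A x = 0 ∧ (matX x).det = 1 ∧ Ideal.Quotient.mkₐ R I ∘ x = z := by
  choose y hy using fun s => Ideal.Quotient.mk_surjective (z s)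
  have hyz : Ideal.Quotient.mkₐ R I ∘ y = z := funext hy
  have hy' : ∀ i, orthF b Q A y i ∈ I := fun i => by
    rw [← Ideal.Quotient.eq_zero_iff_mem]
    refine (orthF_nat b Q (Ideal.Quotient.mkₐ R I) y i).trans ?_
    rw [hyz, hz]
    rfl
  have hyd : (matX y).det - 1 ∈ I := by
    rw [← Ideal.Quotient.eq, RingHom.map_det, map_one]
    refine Eq.trans ?_ hd
    rw [← hyz]
    rfl
  obtain ⟨W, hW, hW', hdet⟩ := exists_lift_sorth (even_two_mul m) hI (isUnit_halfDisc_cf b Q A hQ) (X := matX y)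
    (fun s => hy' (Sum.inl s)) hyd
  obtain ⟨x, hx, h0, hX⟩ := exists_lift_coord b Q A hI y hy' hW hW'
  exact ⟨x, h0, by rw [hX, hdet], funext fun s => (Ideal.Quotient.eq.mpr (hx s)).trans (hy s)⟩

include hQ in
/-- Over a local ring an approximate intertwiner can be corrected. -/
theorem exists_intertwiner_local (L : Type u) [CommRing L] [Algebra R L] [IsLocalRing L] (J : Ideal L)
    {x : Coord (2 * m + 1) → L} (hx : orthF b Q L x = 0) (hd : (matX x).det = 1)
    (z0 : CliffordAlgebra (QuadGrp.baseChangeForm L Q))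
    (hz0 : ∀ v : L ⊗[R] M,
      cliffAlg Q (Ideal.Quotient.mkₐ R J) (ι _ (pAut b Q L x hx v) * z0) =
        cliffAlg Q (Ideal.Quotient.mkₐ R J) (z0 * ι _ v)) :
    ∃ p, (∀ v, ι _ (pAut b Q L x hx v) * p = p * ι _ v) ∧
      cliffAlg Q (Ideal.Quotient.mkₐ R J) p = cliffAlg Q (Ideal.Quotient.mkₐ R J) z0 := by
  revert z0
  set bL := Algebra.TensorProduct.basis L b
  let q := QuadGrp.baseChangeForm L Q
  set π := Ideal.Quotient.mkₐ R J
  set g := pAut b Q L x hx
  intro z0 hz0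
  obtain ⟨D⟩ := exists_oddSplit bL q (isSemiregular_baseChange b Q hQ L)
  obtain ⟨u, hu0, hu⟩ := D.exists_conj (pAut_mem b Q hx)
  have hug : ∀ v, ι q (g v) * (u : CliffordAlgebra q) = u * ι q v := fun v => by
    have h := hu v
    rw [det_pAut b Q hx, hd, one_smul] at h
    rw [← h, mul_assoc, Units.inv_mul, mul_one]
  set c := (↑u⁻¹ : CliffordAlgebra q) * z0 with hc
  have huc : ∀ v, (cliffAlg Q π) (ι q v * c) = (cliffAlg Q π) (c * ι q v) := fun v => by
    have h1 : ι q v * (↑u⁻¹ : CliffordAlgebra q) = ↑u⁻¹ * ι q (g v) := by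
      calc ι q v * (↑u⁻¹ : CliffordAlgebra q) = ↑u⁻¹ * ((u : CliffordAlgebra q) * ι q v) * ↑u⁻¹ := by
            rw [← mul_assoc, Units.inv_mul, one_mul]
        _ = ↑u⁻¹ * ι q (g v) := by rw [← hug, mul_assoc, mul_assoc, Units.mul_inv, mul_one]
    rw [hc, ← mul_assoc, h1, mul_assoc, map_mul, hz0, ← map_mul, mul_assoc]
  have hqT := isSemiregular_baseChange b Q hQ (L ⧸ J)
  set bT := Algebra.TensorProduct.basis (L ⧸ J) b
  set qT := QuadGrp.baseChangeForm (L ⧸ J) Q
  obtain ⟨c0, h0, c1, h1, hsum'⟩ := exists_parts c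
  have hsum := hsum'.symm
  have hvT : ∀ {z}, (∀ v, (cliffAlg Q π) (ι q v * z) = (cliffAlg Q π) (z * ι q v)) → ∀ v : (L ⧸ J) ⊗[R] M, ι qT v * (cliffAlg Q π) z = (cliffAlg Q π) z * ι qT v := by
    intro z hz v
    refine comm_of_basis bT qT (z := (cliffAlg Q π) z) (fun i => ?_) v
    rw [← bcVec_basis b π i, ← cliffAlg_ι, ← map_mul, ← map_mul, hz]
  have hparts : ∀ v, (cliffAlg Q π) (ι q v * c0) = (cliffAlg Q π) (c0 * ι q v) ∧ (cliffAlg Q π) (ι q v * c1) = (cliffAlg Q π) (c1 * ι q v) := fun v => by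
    have hv := ι_mem_evenOdd_one q v
    have e : (cliffAlg Q π) (ι q v * c1 - c1 * ι q v) + (cliffAlg Q π) (ι q v * c0 - c0 * ι q v) = 0 := by
      rw [← map_add, show ι q v * c1 - c1 * ι q v + (ι q v * c0 - c0 * ι q v) = ι q v * (c0 + c1) - (c0 + c1) * ι q v by
        noncomm_ring, ← hsum, map_sub, huc, sub_self]
    have h2 := parts_zero
      (cliffAlg_mem Q π (sub_mem (mul_mem_parity hv h1 rfl) (mul_mem_parity h1 hv rfl)))
      (cliffAlg_mem Q π (sub_mem (mul_mem_parity hv h0 rfl) (mul_mem_parity h0 hv rfl))) e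
    exact ⟨sub_eq_zero.mp ((map_sub (cliffAlg Q π) _ _).symm.trans h2.2), sub_eq_zero.mp ((map_sub (cliffAlg Q π) _ _).symm.trans h2.1)⟩
  have he0 := even_central_scalar bT hqT (cliffAlg_mem Q π h0) (hvT fun v => (hparts v).1)
  have hFζ : ∀ v, ι qT v * (cliffAlg Q π) D.ζ = (cliffAlg Q π) D.ζ * ι qT v := hvT fun v => by rw [D.ζ_comm]
  have hc1 := hvT fun v => (hparts v).2
  have he1 := even_central_scalar bT hqT (z := (cliffAlg Q π) c1 * (cliffAlg Q π) D.ζ)
    (mul_mem_parity (cliffAlg_mem Q π h1) (cliffAlg_mem Q π D.ζ_mem) rfl)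
    (fun v => by rw [← mul_assoc, hc1, mul_assoc, hFζ, ← mul_assoc])
  obtain ⟨s, hs⟩ := Ideal.Quotient.mk_surjective ((cbasis qT bT).repr ((cliffAlg Q π) c0) ∅)
  obtain ⟨t, ht⟩ := Ideal.Quotient.mk_surjective ((cbasis qT bT).repr ((cliffAlg Q π) c1 * (cliffAlg Q π) D.ζ) ∅)
  obtain ⟨r, hr⟩ := D.ζ2_isUnit
  set c' := algebraMap L (CliffordAlgebra q) s + (t * (↑r⁻¹ : L)) • D.ζ with hc'
  have hc'v : ∀ v, ι q v * c' = c' * ι q v := fun v => by
    rw [hc', mul_add, add_mul, mul_smul_comm, smul_mul_assoc, D.ζ_comm, ← Algebra.commutes]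
  refine ⟨(u : CliffordAlgebra q) * c', fun v => by rw [← mul_assoc, hug, mul_assoc, hc'v, ← mul_assoc], ?_⟩
  have hz : z0 = (u : CliffordAlgebra q) * c := by rw [hc, ← mul_assoc, Units.mul_inv, one_mul]
  rw [hz, map_mul, map_mul]
  congr 1
  have e1 : (cliffAlg Q π) ((t * (↑r⁻¹ : L)) • D.ζ) = (cliffAlg Q π) c1 := by
    have h : (cliffAlg Q π) c1 * ((cliffAlg Q π) D.ζ * (cliffAlg Q π) D.ζ) = (π t) • (cliffAlg Q π) D.ζ := by
      rw [← mul_assoc, he1, ← ht, scalar_mul_eq]; rfl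
    rw [← map_mul, D.ζ_sq, cliffAlg_algebraMap, mul_scalar_eq, ← hr] at h
    rw [cliffAlg_smul, map_mul π, mul_comm, mul_smul, ← h, smul_smul, ← map_mul, Units.inv_mul, map_one, one_smul]
  rw [hc', hsum, map_add, map_add, e1, cliffAlg_algebraMap, he0, ← hs]
  rfl

include hQ in
/-- Points of `GPin` lift along square-zero ideals, odd rank. -/
theorem exists_lift_gpin_odd (A : Type u) [CommRing A] [Algebra R A] (I : Ideal A) (hI : I ^ 2 = ⊥)
    (w : ↥(QuadGrp.gpin Q (A ⧸ I))) :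
    ∃ u : ↥(QuadGrp.gpin Q A), cliffAlg Q (Ideal.Quotient.mkₐ R I) (u.1 : CliffordAlgebra _) = w.1 := by
  set π := Ideal.Quotient.mkₐ R I with hπ
  set q := QuadGrp.baseChangeForm A Q
  set q' := QuadGrp.baseChangeForm (A ⧸ I) Q
  set bA := Algebra.TensorProduct.basis A b
  set bB := Algebra.TensorProduct.basis (A ⧸ I) b
  obtain ⟨g, hgO, hg⟩ := exists_conj bB w.2.1
  have hdg : LinearMap.det (g : ((A ⧸ I) ⊗[R] M) →ₗ[A ⧸ I] _) = 1 :=
    det_conj_of_odd bB (odd_two_mul_add_one m) hg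
  set zg := orthEquiv b Q (A ⧸ I) ⟨g, (mem_orth_iff Q _).mpr hgO⟩ with hzg
  have hgeq : pAut b Q (A ⧸ I) zg.1 zg.2 = g := congrArg Subtype.val ((orthEquiv b Q (A ⧸ I)).symm_apply_apply _)
  have hdz : (matX zg.1).det = 1 := by rw [← det_pAut b Q zg.2, hgeq, hdg]
  obtain ⟨x, hx, hd, hxz⟩ := exists_lift_sorth_point b Q hQ A hI zg.1 zg.2 hdz
  set g' := pAut b Q A x hx
  have hx' : orthF b Q (A ⧸ I) (π ∘ x) = 0 := orthF_comp b Q π hx
  have hgeq' : pAut b Q (A ⧸ I) (π ∘ x) hx' = g := by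
    rw [← hgeq]
    have : (⟨π ∘ x, hx'⟩ : {z : Coord (2 * m + 1) → A ⧸ I // orthF b Q (A ⧸ I) z = 0}) = zg := Subtype.ext hxz
    rw [pAut, pAut, this]
  have hnat : ∀ v, g (bcVec π v) = bcVec π (g' v) := fun v => by
    rw [← hgeq']; exact pAut_natural b Q hx π hx' v
  obtain ⟨z0, hz0⟩ := cliffAlg_surjective Q b π (Ideal.Quotient.mkₐ_surjective R I) (w.1 : CliffordAlgebra q')
  have hwint : ∀ v, cliffAlg Q π (ι q (g' v) * z0) = cliffAlg Q π (z0 * ι q v) := fun v => by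
    rw [map_mul, map_mul, cliffAlg_ι, cliffAlg_ι, ← hnat, hz0, ← hg, mul_assoc, Units.inv_mul, mul_one]
  obtain ⟨c, hc, hcT⟩ := exists_of_local I (twT b Q A g') (- twT b Q A g' ((cB b Q A).equivFun z0)) fun mx hm => by
    haveI := hm
    let L := Localization.AtPrime mx
    let ψ : A →ₐ[R] L := IsScalarTower.toAlgHom R A L
    have hxL : orthF b Q L (ψ ∘ x) = 0 := orthF_comp b Q ψ hx
    have hdL : (matX (ψ ∘ x)).det = 1 := by
      rw [show matX (ψ ∘ x) = (matX x).map ψ.toRingHom from rfl, ← RingHom.mapMatrix_apply, ← RingHom.map_det, hd,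
        map_one]
    set J := I.map (algebraMap A L)
    let χ : (A ⧸ I) →ₐ[R] L ⧸ J := Ideal.Quotient.liftₐ I ((Ideal.Quotient.mkₐ R J).comp ψ) fun a ha => by
      exact Ideal.Quotient.eq_zero_iff_mem.mpr (Ideal.mem_map_of_mem _ ha)
    have hsq : ∀ z, cliffAlg Q (Ideal.Quotient.mkₐ R J) (cliffAlg Q ψ z) = cliffAlg Q χ (cliffAlg Q π z) := fun z =>
      (cB b Q (L ⧸ J)).ext_elem fun T => by
        rw [cliffAlg_cB_repr, cliffAlg_cB_repr, cliffAlg_cB_repr, cliffAlg_cB_repr]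
        rfl
    have hz0L : ∀ v : L ⊗[R] M, cliffAlg Q (Ideal.Quotient.mkₐ R J) (ι _ (pAut b Q L (ψ ∘ x) hxL v) * cliffAlg Q ψ z0) =
        cliffAlg Q (Ideal.Quotient.mkₐ R J) (cliffAlg Q ψ z0 * ι _ v) := by
      intro v
      rw [← (Algebra.TensorProduct.basis L b).sum_repr v]
      simp only [map_sum, map_smul, smul_mul_assoc, mul_smul_comm, Finset.sum_mul, Finset.mul_sum, cliffAlg_smul]
      refine Finset.sum_congr rfl fun i _ => ?_
      rw [← bcVec_basis b ψ i, pAut_natural b Q hx ψ hxL, ← cliffAlg_ι, ← cliffAlg_ι, ← map_mul (cliffAlg Q ψ),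
        ← map_mul (cliffAlg Q ψ), hsq, hsq, hwint]
    obtain ⟨p, hp, hpz⟩ := exists_intertwiner_local b Q hQ L J hxL hdL _ hz0L
    refine exists_denom I _ _ mx (twT b Q L (pAut b Q L (ψ ∘ x) hxL)) (fun w i => ?_)
      ((cB b Q L).equivFun (p - cliffAlg Q ψ z0)) (fun T => ?_) fun i => ?_
    · have hw : (fun s => algebraMap A L (w s)) = (cB b Q L).equivFun (cliffAlg Q ψ ((cB b Q A).equivFun.symm w)) :=
        funext fun T => by
          rw [Module.Basis.equivFun_apply, cliffAlg_cB_repr]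
          exact (congrArg (algebraMap A L) (congrFun ((cB b Q A).equivFun.apply_symm_apply w) T)).symm
      conv_rhs => rw [← (cB b Q A).equivFun.apply_symm_apply w, twT_apply]
      rw [hw, twT_apply, ← bcVec_basis b ψ i.1, pAut_natural b Q hx ψ hxL, ← cliffAlg_ι, ← cliffAlg_ι, ← map_mul,
        ← map_mul, ← map_sub, cliffAlg_cB_repr]
      rfl
    · rw [Module.Basis.equivFun_apply, ← Ideal.Quotient.eq_zero_iff_mem, ← Ideal.Quotient.mkₐ_eq_mk R,
        ← cliffAlg_cB_repr, map_sub, hpz, sub_self]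
      simp
    · rw [map_sub, map_sub, Pi.sub_apply,
        show twT b Q L (pAut b Q L (ψ ∘ x) hxL) ((cB b Q L).equivFun p) i = 0 by
          rw [twT_apply, hp, sub_self]; simp,
        twT_apply, ← bcVec_basis b ψ i.1, pAut_natural b Q hx ψ hxL, ← cliffAlg_ι, ← cliffAlg_ι, ← map_mul,
        ← map_mul, ← map_sub, cliffAlg_cB_repr, zero_sub, Pi.neg_apply, map_neg, twT_apply]
      rfl
  set p := z0 + (cB b Q A).equivFun.symm c with hp
  have hpT : ∀ v, ι q (g' v) * p = p * ι q v := twT_eq_zero b Q A g' p (by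
    rw [hp, map_add, LinearEquiv.apply_symm_apply, map_add, hcT, add_neg_cancel])
  have hpw : cliffAlg Q π p = w.1 := by
    rw [hp, map_add, hz0, show cliffAlg Q π ((cB b Q A).equivFun.symm c) = 0 from (cB b Q (A ⧸ I)).ext_elem fun T => by
      rw [cliffAlg_cB_repr, show (cB b Q A).repr ((cB b Q A).equivFun.symm c) T = c T from
        congrFun ((cB b Q A).equivFun.apply_symm_apply c) T]
      exact (Ideal.Quotient.eq_zero_iff_mem.mpr (hc T)).trans (by simp), add_zero]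
  obtain ⟨hew, hw0, hw1⟩ := gIdem_spec Q (A ⧸ I) w
  obtain ⟨a, ha⟩ := Ideal.Quotient.mk_surjective (gIdem Q (A ⧸ I) w)
  set e := 3 * (a * a) - 2 * (a * a * a) with he_def
  have haI : a * a - a ∈ I := by
    rw [← Ideal.Quotient.eq, map_mul, ha]; exact hew
  have he : IsIdempotentElem e := by
    show e * e = e
    rw [he_def]
    linear_combination (4 * (a * a - a) - 3) * mul_eq_zero_of_mem hI haI haI
  have hπe : π e = gIdem Q (A ⧸ I) w := by
    show Ideal.Quotient.mk I e = _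
    rw [he_def, map_sub, map_mul, map_mul, map_mul, map_mul, map_mul, map_ofNat, map_ofNat, ha, hew.eq, hew.eq]
    ring
  obtain ⟨p0, h0, p1, h1, hsum'⟩ := exists_parts p
  have hsum := hsum'.symm
  have hpp : ∀ v, ι q (g' v) * p0 = p0 * ι q v ∧ ι q (g' v) * p1 = p1 * ι q v := fun v => by
    have hv := ι_mem_evenOdd_one q v
    have hv' := ι_mem_evenOdd_one q (g' v)
    have e' : (ι q (g' v) * p1 - p1 * ι q v) + (ι q (g' v) * p0 - p0 * ι q v) = 0 := by
      rw [show ι q (g' v) * p1 - p1 * ι q v + (ι q (g' v) * p0 - p0 * ι q v) =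
        ι q (g' v) * (p0 + p1) - (p0 + p1) * ι q v by noncomm_ring, ← hsum, hpT, sub_self]
    have h2 := parts_zero (sub_mem (mul_mem_parity hv' h1 rfl) (mul_mem_parity h1 hv rfl))
      (sub_mem (mul_mem_parity hv' h0 rfl) (mul_mem_parity h0 hv rfl)) e'
    exact ⟨sub_eq_zero.mp h2.2, sub_eq_zero.mp h2.1⟩
  set p' := e • p0 + (1 - e) • p1 with hp'
  have hp'T : ∀ v, ι q (g' v) * p' = p' * ι q v := fun v => by
    rw [hp', mul_add, add_mul, mul_smul_comm, mul_smul_comm, smul_mul_assoc, smul_mul_assoc, (hpp v).1, (hpp v).2]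
  have hp'w : cliffAlg Q π p' = w.1 := by
    set P0 := cliffAlg Q π p0
    set P1 := cliffAlg Q π p1
    have hP0 : P0 ∈ evenOdd q' 0 := cliffMap_mem _ _ h0
    have hP1 : P1 ∈ evenOdd q' 1 := cliffMap_mem _ _ h1
    have hW : (w.1 : CliffordAlgebra q') = P0 + P1 := by rw [← hpw, hsum, map_add]
    rw [hW, smul_add] at hw0 hw1
    set E := gIdem Q (A ⧸ I) w
    have z1 : E • P1 = 0 := eq_zero_of_even_odd
      (by simpa using sub_mem hw0 (Submodule.smul_mem _ E hP0)) (Submodule.smul_mem _ _ hP1)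
    have z2 : (1 - E) • P0 = 0 := eq_zero_of_even_odd (Submodule.smul_mem _ _ hP0)
      (by simpa using sub_mem hw1 (Submodule.smul_mem _ (1 - E) hP1))
    rw [hp', map_add, cliffAlg_smul, cliffAlg_smul, map_sub π 1 e, map_one, hπe, hW]
    calc E • P0 + (1 - E) • P1 = (E • P0 + (1 - E) • P0) + (E • P1 + (1 - E) • P1) := by rw [z1, z2, add_zero, zero_add]
      _ = P0 + P1 := by rw [← add_smul, ← add_smul, add_sub_cancel, one_smul, one_smul]
  obtain ⟨u, hu⟩ := isUnit_of_cliffAlg Q b hI (z := p') (by rw [hp'w]; exact w.1.isUnit)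
  have hconj : ∀ v, (u : CliffordAlgebra q) * ι q v * ↑u⁻¹ = ι q (g' v) := fun v => by
    rw [hu, ← hp'T, ← hu, mul_assoc, Units.mul_inv, mul_one]
  refine ⟨⟨u, mem_GPin'_of_conj hconj, ⟨e, he, ?_, ?_⟩⟩, ?_⟩
  · rw [hu, hp', smul_add, smul_smul, smul_smul, he.eq, he.mul_one_sub_self, zero_smul, add_zero]
    exact Submodule.smul_mem _ _ h0
  · rw [hu, hp', smul_add, smul_smul, smul_smul, he.one_sub.eq, he.one_sub_mul_self, zero_smul, zero_add]
    exact Submodule.smul_mem _ _ h1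
  · show cliffAlg Q π (u : CliffordAlgebra q) = _
    rw [hu, hp'w]

end Odd

end Groth.Agent.Quad37
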