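import Groth.Agent.Quad37.AffRep
import Groth.Agent.Quad37.CliffCoord

/-! The Clifford group schemes in coordinates. -/

set_option autoImplicit false

universe u

open CategoryTheory AlgebraicGeometry

attribute [local instance] CategoryTheory.Hom.monoid

namespace Groth.Agent.Quad37

open CliffordAlgebra
open scoped TensorProduct

variable {R : Type u} [CommRing R] {M : Type u} [AddCommGroup M] [Module R M] [Module.Free R M] {n : ℕ}
  (b : Module.Basis (Fin n) R M) (Q : QuadraticForm R M)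

/-- The coordinate index type of `GPin`: an element, its inverse and the parity idempotent. -/
abbrev GCoord (n : ℕ) : Type := (Finset (Fin n) ⊕ Finset (Fin n)) ⊕ Unit

/-- The index of equations of `GPin`. -/
abbrev GEq (n : ℕ) : Type :=
  (Finset (Fin n) ⊕ Finset (Fin n)) ⊕ ((Fin n × Finset (Fin n)) ⊕ (Fin n × Finset (Fin n))) ⊕
    (Finset (Fin n) ⊕ Unit)

variable (A : Type u) [CommRing A] [Algebra R A]

/-- The monomial basis of the base changed Clifford algebra. -/
noncomputable def cB : Module.Basis (Finset (Fin n)) A (CliffordAlgebra (QuadGrp.baseChangeForm A Q)) :=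
  cbasis _ (Algebra.TensorProduct.basis A b)

/-- The element with given coordinates. -/
noncomputable def elU (x : GCoord n → A) : CliffordAlgebra (QuadGrp.baseChangeForm A Q) :=
  (cB b Q A).equivFun.symm fun T => x (Sum.inl (Sum.inl T))

/-- The inverse with given coordinates. -/
noncomputable def elV (x : GCoord n → A) : CliffordAlgebra (QuadGrp.baseChangeForm A Q) :=
  (cB b Q A).equivFun.symm fun T => x (Sum.inl (Sum.inr T))

/-- The idempotent. -/
def elE {A : Type u} (x : GCoord n → A) : A := x (Sum.inr ())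

theorem repr_elU (x : GCoord n → A) (T : Finset (Fin n)) :
    (cB b Q A).repr (elU b Q A x) T = x (Sum.inl (Sum.inl T)) :=
  congrFun ((cB b Q A).equivFun.apply_symm_apply _) T

theorem repr_elV (x : GCoord n → A) (T : Finset (Fin n)) :
    (cB b Q A).repr (elV b Q A x) T = x (Sum.inl (Sum.inr T)) :=
  congrFun ((cB b Q A).equivFun.apply_symm_apply _) T

variable {A} {B : Type u} [CommRing B] [Algebra R B] (ψ : A →ₐ[R] B)

theorem cliffAlg_ι (v : A ⊗[R] M) :
    cliffAlg Q ψ (ι _ v) = ι (QuadGrp.baseChangeForm B Q) (bcVec ψ v) := cliffMap_ι _ _ v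

theorem cliffAlg_algebraMap (a : A) :
    cliffAlg Q ψ (algebraMap A _ a) = algebraMap B _ (ψ a) := cliffMap_algebraMap _ _ a

theorem cliffAlg_smul (a : A) (z : CliffordAlgebra (QuadGrp.baseChangeForm A Q)) :
    cliffAlg Q ψ (a • z) = ψ a • cliffAlg Q ψ z := cliffMap_smul _ _ a z

theorem cliffAlg_star (z : CliffordAlgebra (QuadGrp.baseChangeForm A Q)) :
    cliffAlg Q ψ (star z) = star (cliffAlg Q ψ z) := cliffMap_star _ _ z

theorem cliffAlg_cB_repr (z : CliffordAlgebra (QuadGrp.baseChangeForm A Q)) (T : Finset (Fin n)) :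
    (cB b Q B).repr (cliffAlg Q ψ z) T = ψ ((cB b Q A).repr z T) := cliffAlg_repr Q b ψ z T

theorem cliffAlg_basis (i : Fin n) :
    cliffAlg Q ψ (ι _ (Algebra.TensorProduct.basis A b i)) = ι _ (Algebra.TensorProduct.basis B b i) := by
  rw [cliffAlg_ι, bcVec_basis]

theorem cliffAlg_elU (x : GCoord n → A) : cliffAlg Q ψ (elU b Q A x) = elU b Q B (ψ ∘ x) :=
  (cB b Q B).ext_elem fun T => by rw [cliffAlg_cB_repr, repr_elU, repr_elU]; rfl

theorem cliffAlg_elV (x : GCoord n → A) : cliffAlg Q ψ (elV b Q A x) = elV b Q B (ψ ∘ x) :=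
  (cB b Q B).ext_elem fun T => by rw [cliffAlg_cB_repr, repr_elV, repr_elV]; rfl

variable (A)

/-- The equations of `GPin`. -/
noncomputable def gpinF (x : GCoord n → A) : GEq n → A :=
  Sum.elim
    (Sum.elim (fun T => (cB b Q A).repr (elU b Q A x * elV b Q A x - 1) T)
      (fun T => (cB b Q A).repr (elV b Q A x * elU b Q A x - 1) T))
    (Sum.elim
      (Sum.elim
        (fun p => if p.2.card = 1 then 0 else
          (cB b Q A).repr (elU b Q A x * ι _ (Algebra.TensorProduct.basis A b p.1) * elV b Q A x) p.2)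
        (fun p => if p.2.card = 1 then 0 else
          (cB b Q A).repr (elV b Q A x * ι _ (Algebra.TensorProduct.basis A b p.1) * elU b Q A x) p.2))
      (Sum.elim
        (fun T => if (T.card : ZMod 2) = 0 then (1 - elE x) * x (Sum.inl (Sum.inl T))
          else elE x * x (Sum.inl (Sum.inl T)))
        (fun _ => elE x * elE x - elE x)))

theorem gpinF_nat {A B : Type u} [CommRing A] [Algebra R A] [CommRing B] [Algebra R B] (ψ : A →ₐ[R] B)
    (x : GCoord n → A) (i : GEq n) : ψ (gpinF b Q A x i) = gpinF b Q B (ψ ∘ x) i := by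
  have hE : elE (ψ ∘ x) = ψ (elE x) := rfl
  rcases i with (T | T) | (p | p) | (T | _) <;>
    simp only [gpinF, Sum.elim_inl, Sum.elim_inr, apply_ite ψ, map_zero, hE]
  · rw [← cliffAlg_cB_repr, map_sub, map_mul, map_one, cliffAlg_elU, cliffAlg_elV]
  · rw [← cliffAlg_cB_repr, map_sub, map_mul, map_one, cliffAlg_elU, cliffAlg_elV]
  · rw [← cliffAlg_cB_repr, map_mul (cliffAlg Q ψ), map_mul (cliffAlg Q ψ), cliffAlg_elU, cliffAlg_elV, cliffAlg_basis]
  · rw [← cliffAlg_cB_repr, map_mul (cliffAlg Q ψ), map_mul (cliffAlg Q ψ), cliffAlg_elU, cliffAlg_elV, cliffAlg_basis]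
  · simp only [map_mul, map_sub, map_one, Function.comp_apply]
  · simp only [map_mul, map_sub]

/-- The conditions cut out by the equations. -/
structure GCond (x : GCoord n → A) : Prop where
  uv : elU b Q A x * elV b Q A x = 1
  vu : elV b Q A x * elU b Q A x = 1
  conj : ∀ v : A ⊗[R] M, elU b Q A x * ι _ v * elV b Q A x ∈ LinearMap.range (ι (QuadGrp.baseChangeForm A Q))
  conj' : ∀ v : A ⊗[R] M, elV b Q A x * ι _ v * elU b Q A x ∈ LinearMap.range (ι (QuadGrp.baseChangeForm A Q))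
  idem : IsIdempotentElem (elE x)
  even : elE x • elU b Q A x ∈ evenOdd _ 0
  odd : (1 - elE x) • elU b Q A x ∈ evenOdd _ 1

theorem mem_range_of_basis {y z : CliffordAlgebra (QuadGrp.baseChangeForm A Q)}
    (h : ∀ i, y * ι _ (Algebra.TensorProduct.basis A b i) * z ∈ LinearMap.range (ι (QuadGrp.baseChangeForm A Q)))
    (v : A ⊗[R] M) : y * ι _ v * z ∈ LinearMap.range (ι (QuadGrp.baseChangeForm A Q)) := by
  rw [← (Algebra.TensorProduct.basis A b).sum_repr v, map_sum, Finset.mul_sum, Finset.sum_mul]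
  refine sum_mem fun i _ => ?_
  rw [map_smul, mul_smul_comm, smul_mul_assoc]
  exact Submodule.smul_mem _ _ (h i)

theorem gpinF_eq_zero_iff (x : GCoord n → A) : gpinF b Q A x = 0 ↔ GCond b Q A x := by
  constructor
  · intro h
    have hpar : ∀ T : Finset (Fin n), (if (T.card : ZMod 2) = 0 then (1 - elE x) * x (Sum.inl (Sum.inl T))
        else elE x * x (Sum.inl (Sum.inl T))) = 0 := fun T => congrFun h (Sum.inr (Sum.inr (Sum.inl T)))
    have hidem : elE x * elE x - elE x = 0 := congrFun h (Sum.inr (Sum.inr (Sum.inr ())))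
    refine ⟨?_, ?_, mem_range_of_basis b Q A fun i => ?_, mem_range_of_basis b Q A fun i => ?_,
      sub_eq_zero.mp hidem, ?_, ?_⟩
    · refine sub_eq_zero.mp ((cB b Q A).ext_elem fun T => ?_)
      rw [show (cB b Q A).repr (elU b Q A x * elV b Q A x - 1) T = 0 from congrFun h (Sum.inl (Sum.inl T))]
      simp
    · refine sub_eq_zero.mp ((cB b Q A).ext_elem fun T => ?_)
      rw [show (cB b Q A).repr (elV b Q A x * elU b Q A x - 1) T = 0 from congrFun h (Sum.inl (Sum.inr T))]
      simp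
    · refine (mem_range_ι_iff (Algebra.TensorProduct.basis A b) _).mpr fun T hT => ?_
      have := congrFun h (Sum.inr (Sum.inl (Sum.inl (i, T))))
      simp only [gpinF, Sum.elim_inl, Sum.elim_inr, if_neg hT, Pi.zero_apply] at this
      exact this
    · refine (mem_range_ι_iff (Algebra.TensorProduct.basis A b) _).mpr fun T hT => ?_
      have := congrFun h (Sum.inr (Sum.inl (Sum.inr (i, T))))
      simp only [gpinF, Sum.elim_inl, Sum.elim_inr, if_neg hT, Pi.zero_apply] at this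
      exact this
    · refine (mem_evenOdd_iff (Algebra.TensorProduct.basis A b) _ _).mpr fun T hT => ?_
      rw [map_smul, Finsupp.smul_apply, smul_eq_mul]
      rw [show (cbasis _ (Algebra.TensorProduct.basis A b)).repr (elU b Q A x) T = x (Sum.inl (Sum.inl T)) from
        repr_elU b Q A x T]
      have := hpar T
      rwa [if_neg hT] at this
    · refine (mem_evenOdd_iff (Algebra.TensorProduct.basis A b) _ _).mpr fun T hT => ?_
      rw [map_smul, Finsupp.smul_apply, smul_eq_mul]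
      rw [show (cbasis _ (Algebra.TensorProduct.basis A b)).repr (elU b Q A x) T = x (Sum.inl (Sum.inl T)) from
        repr_elU b Q A x T]
      have := hpar T
      rwa [if_pos ((show ∀ a : ZMod 2, a ≠ 1 → a = 0 by decide) _ hT)] at this
  · intro h
    funext i
    rcases i with (T | T) | (p | p) | (T | _) <;> simp only [gpinF, Sum.elim_inl, Sum.elim_inr, Pi.zero_apply]
    · rw [h.uv, sub_self]; simp
    · rw [h.vu, sub_self]; simp
    · split_ifs with hp
      · rfl
      · exact (mem_range_ι_iff (Algebra.TensorProduct.basis A b) _).mp (h.conj _) _ hp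
    · split_ifs with hp
      · rfl
      · exact (mem_range_ι_iff (Algebra.TensorProduct.basis A b) _).mp (h.conj' _) _ hp
    · rw [show x (Sum.inl (Sum.inl T)) = (cbasis _ (Algebra.TensorProduct.basis A b)).repr (elU b Q A x) T from
        (repr_elU b Q A x T).symm]
      split_ifs with hp
      · have := (mem_evenOdd_iff (Algebra.TensorProduct.basis A b) _ _).mp h.odd T (by rw [hp]; decide)
        rwa [map_smul, Finsupp.smul_apply, smul_eq_mul] at this
      · have := (mem_evenOdd_iff (Algebra.TensorProduct.basis A b) _ _).mp h.even T hp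
        rwa [map_smul, Finsupp.smul_apply, smul_eq_mul] at this
    · exact sub_eq_zero.mpr h.idem

/-- The unit with given coordinates. -/
noncomputable def unitOf (x : GCoord n → A) (h : GCond b Q A x) : (CliffordAlgebra (QuadGrp.baseChangeForm A Q))ˣ :=
  ⟨elU b Q A x, elV b Q A x, h.uv, h.vu⟩

theorem unitOf_mem (x : GCoord n → A) (h : GCond b Q A x) : unitOf b Q A x h ∈ QuadGrp.gpin Q A := by
  refine ⟨(QuadGrp.mem_GPin' _ _).mpr ?_, ⟨elE x, h.idem, h.even, h.odd⟩⟩
  ext z
  rw [smul_range_eq]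
  constructor
  · rintro ⟨v, rfl⟩; exact h.conj v
  · rintro ⟨v, rfl⟩
    obtain ⟨w, hw⟩ := h.conj' v
    refine ⟨w, ?_⟩
    show elU b Q A x * ι _ w * elV b Q A x = _
    rw [hw, show elU b Q A x * (elV b Q A x * ι _ v * elU b Q A x) * elV b Q A x =
      (elU b Q A x * elV b Q A x) * ι _ v * (elU b Q A x * elV b Q A x) by simp only [mul_assoc], h.uv, one_mul,
      mul_one]

/-- Coordinates of an element, an inverse and an idempotent. -/
noncomputable def gCoordOf (u v : CliffordAlgebra (QuadGrp.baseChangeForm A Q)) (e : A) : GCoord n → A :=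
  Sum.elim (Sum.elim ((cB b Q A).equivFun u) ((cB b Q A).equivFun v)) (fun _ => e)

theorem elU_gCoordOf (u v : CliffordAlgebra (QuadGrp.baseChangeForm A Q)) (e : A) :
    elU b Q A (gCoordOf b Q A u v e) = u := (cB b Q A).equivFun.symm_apply_apply u

theorem elV_gCoordOf (u v : CliffordAlgebra (QuadGrp.baseChangeForm A Q)) (e : A) :
    elV b Q A (gCoordOf b Q A u v e) = v := (cB b Q A).equivFun.symm_apply_apply v

theorem gCoordOf_el (x : GCoord n → A) : gCoordOf b Q A (elU b Q A x) (elV b Q A x) (elE x) = x := by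
  funext s
  rcases s with (T | T) | _
  · exact repr_elU b Q A x T
  · exact repr_elV b Q A x T
  · rfl

/-- The parity idempotent of a unit is unique. -/
theorem idem_unique {A : Type u} [CommRing A] {N : Type u} [AddCommGroup N] [Module A N] {q : QuadraticForm A N}
    (c : Module.Basis (Fin n) A N) (u : (CliffordAlgebra q)ˣ) {e e' : A}
    (h0 : e • (u : CliffordAlgebra q) ∈ evenOdd q 0) (h1 : (1 - e) • (u : CliffordAlgebra q) ∈ evenOdd q 1)
    (h0' : e' • (u : CliffordAlgebra q) ∈ evenOdd q 0) (h1' : (1 - e') • (u : CliffordAlgebra q) ∈ evenOdd q 1) :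
    e = e' := by
  have key : ∀ a a' : A, a • (u : CliffordAlgebra q) ∈ evenOdd q 0 → (1 - a') • (u : CliffordAlgebra q) ∈ evenOdd q 1 →
      a * (1 - a') = 0 := fun a a' ha ha' => by
    have h : (a * (1 - a')) • (u : CliffordAlgebra q) = 0 :=
      eq_zero_of_even_odd (by rw [mul_comm, mul_smul]; exact Submodule.smul_mem _ _ ha)
        (by rw [mul_smul]; exact Submodule.smul_mem _ _ ha')
    have h2 := congrArg (fun y => y * (↑u⁻¹ : CliffordAlgebra q)) h
    simp only [smul_mul_assoc, Units.mul_inv, zero_mul] at h2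
    exact smul_one_eq_zero c h2
  linear_combination key e e' h0 h1' - key e' e h0' h1

theorem gCond_of_mem (u : (CliffordAlgebra (QuadGrp.baseChangeForm A Q))ˣ) (hu : u ∈ QuadGrp.gpin Q A) {e : A}
    (he : IsIdempotentElem e) (h0 : e • (u : CliffordAlgebra (QuadGrp.baseChangeForm A Q)) ∈ evenOdd _ 0)
    (h1 : (1 - e) • (u : CliffordAlgebra (QuadGrp.baseChangeForm A Q)) ∈ evenOdd _ 1) :
    GCond b Q A (gCoordOf b Q A u (↑u⁻¹ : CliffordAlgebra (QuadGrp.baseChangeForm A Q)) e) := by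
  obtain ⟨g, -, hg⟩ := exists_conj (Algebra.TensorProduct.basis A b) hu.1
  obtain ⟨g', -, hg'⟩ := exists_conj (Algebra.TensorProduct.basis A b) ((QuadGrp.GPin' _).inv_mem hu.1)
  refine ⟨?_, ?_, fun v => ?_, fun v => ?_, he, ?_, ?_⟩ <;> simp only [elU_gCoordOf, elV_gCoordOf]
  · exact u.mul_inv
  · exact u.inv_mul
  · exact ⟨g v, (hg v).symm⟩
  · refine ⟨g' v, ?_⟩
    rw [← hg' v, inv_inv]
  · exact h0
  · exact h1

/-- The parity idempotent of a point of `GPin`. -/
noncomputable def gIdem (u : ↥(QuadGrp.gpin Q A)) : A := u.2.2.choose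

theorem gIdem_spec (u : ↥(QuadGrp.gpin Q A)) :
    IsIdempotentElem (gIdem Q A u) ∧ gIdem Q A u • (u.1 : CliffordAlgebra (QuadGrp.baseChangeForm A Q)) ∈ evenOdd _ 0 ∧
      (1 - gIdem Q A u) • (u.1 : CliffordAlgebra (QuadGrp.baseChangeForm A Q)) ∈ evenOdd _ 1 := u.2.2.choose_spec

/-- Points of `GPin` in coordinates. -/
noncomputable def gpinEquiv : ↥(QuadGrp.gpin Q A) ≃ {x : GCoord n → A // gpinF b Q A x = 0} where
  toFun u := ⟨gCoordOf b Q A u.1 (↑(u.1)⁻¹ : CliffordAlgebra (QuadGrp.baseChangeForm A Q)) (gIdem Q A u),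
    (gpinF_eq_zero_iff b Q A _).mpr
      (gCond_of_mem b Q A u.1 u.2 (gIdem_spec Q A u).1 (gIdem_spec Q A u).2.1 (gIdem_spec Q A u).2.2)⟩
  invFun x := ⟨unitOf b Q A x.1 ((gpinF_eq_zero_iff b Q A _).mp x.2), unitOf_mem b Q A x.1 _⟩
  left_inv u := Subtype.ext <| Units.ext <|
    elU_gCoordOf b Q A u.1 (↑(u.1)⁻¹ : CliffordAlgebra (QuadGrp.baseChangeForm A Q)) (gIdem Q A u)
  right_inv x := by
    refine Subtype.ext ?_
    have hc := (gpinF_eq_zero_iff b Q A _).mp x.2
    conv_rhs => rw [← gCoordOf_el b Q A x.1]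
    refine congrArg (gCoordOf b Q A (elU b Q A x.1) (elV b Q A x.1)) ?_
    have hs := gIdem_spec Q A ⟨unitOf b Q A x.1 hc, unitOf_mem b Q A x.1 hc⟩
    exact idem_unique (Algebra.TensorProduct.basis A b) (unitOf b Q A x.1 hc) hs.2.1 hs.2.2 hc.even hc.odd

theorem gpinEquiv_val (u : ↥(QuadGrp.gpin Q A)) : (gpinEquiv b Q A u).1 =
    gCoordOf b Q A u.1 (↑(u.1)⁻¹ : CliffordAlgebra (QuadGrp.baseChangeForm A Q)) (gIdem Q A u) := rfl

theorem gpinEquiv_natural {A B : Type u} [CommRing A] [Algebra R A] [CommRing B] [Algebra R B] (ψ : A →ₐ[R] B)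
    (u : ↥(QuadGrp.gpin Q A)) (u' : ↥(QuadGrp.gpin Q B))
    (h : (u'.1 : CliffordAlgebra (QuadGrp.baseChangeForm B Q)) = cliffAlg Q ψ u.1) :
    (gpinEquiv b Q B u').1 = ψ ∘ (gpinEquiv b Q A u).1 := by
  have hv : (↑(u'.1)⁻¹ : CliffordAlgebra (QuadGrp.baseChangeForm B Q)) = cliffAlg Q ψ (↑(u.1)⁻¹ : CliffordAlgebra _) :=
    Units.inv_eq_of_mul_eq_one_left (by rw [h, ← map_mul, Units.inv_mul, map_one])
  have he : gIdem Q B u' = ψ (gIdem Q A u) := by
    obtain ⟨-, h0, h1⟩ := gIdem_spec Q A u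
    refine idem_unique (Algebra.TensorProduct.basis B b) u'.1 (gIdem_spec Q B u').2.1 (gIdem_spec Q B u').2.2 ?_ ?_
    · rw [h, ← cliffAlg_smul]
      exact cliffMap_mem _ _ h0
    · rw [h, show (1 : B) - ψ (gIdem Q A u) = ψ (1 - gIdem Q A u) by rw [map_sub, map_one], ← cliffAlg_smul]
      exact cliffMap_mem _ _ h1
  rw [gpinEquiv_val, gpinEquiv_val]
  funext s
  rcases s with (T | T) | _
  · simp only [gCoordOf, Sum.elim_inl, Function.comp_apply, Module.Basis.equivFun_apply]
    rw [h, cliffAlg_cB_repr]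
  · simp only [gCoordOf, Sum.elim_inl, Sum.elim_inr, Function.comp_apply, Module.Basis.equivFun_apply]
    rw [hv, cliffAlg_cB_repr]
  · simp only [gCoordOf, Sum.elim_inr, Function.comp_apply]
    exact he

theorem elU_gpinEquiv (u : ↥(QuadGrp.gpin Q A)) : elU b Q A (gpinEquiv b Q A u).1 = u.1 := by
  rw [gpinEquiv_val, elU_gCoordOf]

theorem gpinEquiv_symm_val (x : {x : GCoord n → A // gpinF b Q A x = 0}) :
    ((((gpinEquiv b Q A).symm x).1 : (CliffordAlgebra (QuadGrp.baseChangeForm A Q))ˣ) :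
      CliffordAlgebra (QuadGrp.baseChangeForm A Q)) = elU b Q A x.1 := by
  rw [← elU_gpinEquiv b Q A, Equiv.apply_symm_apply]

/-- The equations of `Pin`. -/
noncomputable def pinF (x : GCoord n → A) : GEq n ⊕ Finset (Fin n) → A :=
  Sum.elim (gpinF b Q A x) (fun T => (cB b Q A).repr (star (elU b Q A x) * elU b Q A x - 1) T)

theorem pinF_eq_zero_iff (x : GCoord n → A) :
    pinF b Q A x = 0 ↔ gpinF b Q A x = 0 ∧ star (elU b Q A x) * elU b Q A x = 1 := by
  constructor
  · intro h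
    refine ⟨funext fun i => congrFun h (Sum.inl i), sub_eq_zero.mp ((cB b Q A).ext_elem fun T => ?_)⟩
    rw [show (cB b Q A).repr (star (elU b Q A x) * elU b Q A x - 1) T = 0 from congrFun h (Sum.inr T)]
    simp
  · rintro ⟨h, h1⟩
    funext i
    rcases i with i | T
    · exact congrFun h i
    · show (cB b Q A).repr (star (elU b Q A x) * elU b Q A x - 1) T = 0
      rw [h1, sub_self]; simp

/-- Points of `Pin` in coordinates. -/
noncomputable def pinEquiv : ↥(QuadGrp.pin Q A) ≃ {x : GCoord n → A // pinF b Q A x = 0} where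
  toFun u := ⟨(gpinEquiv b Q A ⟨u.1, u.2.1⟩).1, (pinF_eq_zero_iff b Q A _).mpr
    ⟨(gpinEquiv b Q A ⟨u.1, u.2.1⟩).2, by rw [elU_gpinEquiv]; exact (QuadGrp.mem_normOne _ _).mp u.2.2⟩⟩
  invFun x := ⟨((gpinEquiv b Q A).symm ⟨x.1, ((pinF_eq_zero_iff b Q A _).mp x.2).1⟩).1,
    ((gpinEquiv b Q A).symm ⟨x.1, ((pinF_eq_zero_iff b Q A _).mp x.2).1⟩).2,
    (QuadGrp.mem_normOne _ _).mpr (by rw [gpinEquiv_symm_val]; exact ((pinF_eq_zero_iff b Q A _).mp x.2).2)⟩
  left_inv u := Subtype.ext <| congrArg (fun z : ↥(QuadGrp.gpin Q A) => z.1)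
    ((gpinEquiv b Q A).symm_apply_apply ⟨u.1, u.2.1⟩)
  right_inv x := Subtype.ext <| congrArg (fun z : {x : GCoord n → A // gpinF b Q A x = 0} => z.1)
    ((gpinEquiv b Q A).apply_symm_apply ⟨x.1, ((pinF_eq_zero_iff b Q A _).mp x.2).1⟩)

variable {G : Over (Spec (CommRingCat.of R))} [GrpObj G]

/-- The presentation of the Clifford group scheme. -/
noncomputable def gpinPresentation (D : QuadGrp.GPinRep Q G) : Presentation R G where
  σ := GCoord n
  ι := GEq n
  F := fun A _ _ => gpinF b Q A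
  F_nat := fun _ _ _ _ _ _ ψ x i => gpinF_nat b Q ψ x i
  e := fun A _ _ => (D.pts A).toEquiv.trans (gpinEquiv b Q A)
  e_nat := fun A B _ _ _ _ ψ y => gpinEquiv_natural b Q ψ _ _
    (D.natural A B ψ (cliffAlg Q ψ) (cliffAlg_ι Q ψ) (cliffAlg_algebraMap Q ψ) y)

/-- The presentation of the pin group scheme. -/
noncomputable def pinPresentation (D : QuadGrp.PinRep Q G) : Presentation R G where
  σ := GCoord n
  ι := GEq n ⊕ Finset (Fin n)
  F := fun A _ _ => pinF b Q A
  F_nat := fun A B _ _ _ _ ψ x i => by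
    rcases i with i | T
    · exact gpinF_nat b Q ψ x i
    · show ψ ((cB b Q A).repr _ T) = (cB b Q B).repr _ T
      rw [← cliffAlg_cB_repr, map_sub, map_mul, map_one, cliffAlg_star, cliffAlg_elU]
  e := fun A _ _ => (D.pts A).toEquiv.trans (pinEquiv b Q A)
  e_nat := fun A B _ _ _ _ ψ y => gpinEquiv_natural b Q ψ ⟨_, (D.pts A y).2.1⟩
    ⟨_, (D.pts B (QuadGrp.specOverMap R ψ ≫ y)).2.1⟩
    (D.natural A B ψ (cliffAlg Q ψ) (cliffAlg_ι Q ψ) (cliffAlg_algebraMap Q ψ) y)

include b in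
/-- Smoothness of `GPin` from lifting of points. -/
theorem smooth_gpin (D : QuadGrp.GPinRep Q G)
    (hlift : ∀ (A : Type u) [CommRing A] [Algebra R A] (I : Ideal A), I ^ 2 = ⊥ → ∀ w : ↥(QuadGrp.gpin Q (A ⧸ I)),
      ∃ u : ↥(QuadGrp.gpin Q A), cliffAlg Q (Ideal.Quotient.mkₐ R I) (u.1 : CliffordAlgebra _) = w.1) :
    AlgebraicGeometry.Smooth G.hom := by
  refine (gpinPresentation b Q D).smooth fun A _ _ I hI (y : GCoord n → A) (hy : ∀ i, gpinF b Q A y i ∈ I) => ?_
  have hz : gpinF b Q (A ⧸ I) (Ideal.Quotient.mkₐ R I ∘ y) = 0 := funext fun i => by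
    rw [← gpinF_nat]; exact Ideal.Quotient.eq_zero_iff_mem.mpr (hy i)
  obtain ⟨u, hu⟩ := hlift A I hI ((gpinEquiv b Q _).symm ⟨_, hz⟩)
  refine ⟨(gpinEquiv b Q A u).1, fun s => ?_, (gpinEquiv b Q A u).2⟩
  have h := gpinEquiv_natural b Q (Ideal.Quotient.mkₐ R I) u ((gpinEquiv b Q _).symm ⟨_, hz⟩) hu.symm
  rw [Equiv.apply_symm_apply] at h
  exact Ideal.Quotient.eq.mp (congrFun h s).symm

include b in
/-- Smoothness of `Pin` from lifting of points. -/
theorem smooth_pin (D : QuadGrp.PinRep Q G)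
    (hlift : ∀ (A : Type u) [CommRing A] [Algebra R A] (I : Ideal A), I ^ 2 = ⊥ → ∀ w : ↥(QuadGrp.pin Q (A ⧸ I)),
      ∃ u : ↥(QuadGrp.pin Q A), cliffAlg Q (Ideal.Quotient.mkₐ R I) (u.1 : CliffordAlgebra _) = w.1) :
    AlgebraicGeometry.Smooth G.hom := by
  refine (pinPresentation b Q D).smooth fun A _ _ I hI (y : GCoord n → A) (hy : ∀ i, pinF b Q A y i ∈ I) => ?_
  have hz : pinF b Q (A ⧸ I) (Ideal.Quotient.mkₐ R I ∘ y) = 0 := funext fun i => by
    have hnat := (pinPresentation b Q D).F_nat A (A ⧸ I) (Ideal.Quotient.mkₐ R I) y i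
    refine hnat.symm.trans ?_
    exact Ideal.Quotient.eq_zero_iff_mem.mpr (hy i)
  obtain ⟨u, hu⟩ := hlift A I hI ((pinEquiv b Q _).symm ⟨_, hz⟩)
  refine ⟨(pinEquiv b Q A u).1, fun s => ?_, (pinEquiv b Q A u).2⟩
  have h := gpinEquiv_natural b Q (Ideal.Quotient.mkₐ R I) ⟨u.1, u.2.1⟩
    ⟨_, ((pinEquiv b Q _).symm ⟨_, hz⟩).2.1⟩ hu.symm
  have h2 : (pinEquiv b Q (A ⧸ I) ((pinEquiv b Q _).symm ⟨_, hz⟩)).1 = Ideal.Quotient.mkₐ R I ∘ y := by
    rw [Equiv.apply_symm_apply]
  exact Ideal.Quotient.eq.mp ((congrFun h s).symm.trans (congrFun h2 s))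

end Groth.Agent.Quad37
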