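import Groth.Agent.Quad37.Local
import Mathlib.RingTheory.LocalRing.Module
import Mathlib.LinearAlgebra.Dimension.Finrank

set_option autoImplicit false

universe u v

namespace Groth.Agent.Quad37

open CliffordAlgebra

section Exists

variable {R : Type u} [CommRing R]

theorem isUnit_sub_of_mem [IsLocalRing R] {x : R} (hx : x ∈ IsLocalRing.maximalIdeal R) : IsUnit (x - 1) := by
  by_contra h
  have := sub_mem hx ((IsLocalRing.mem_maximalIdeal _).mpr h)
  rw [sub_sub_cancel] at this
  exact (IsLocalRing.mem_maximalIdeal _).mp this isUnit_one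

/-- A plane inside a regular form over a local ring. -/
theorem exists_plane [IsLocalRing R] {M : Type v} [AddCommGroup M] [Module R M] {n : ℕ}
    (b : Module.Basis (Fin n) R M) (hn : 2 ≤ n) {Q : QuadraticForm R M} (hQ : QuadGrp.IsRegular Q) :
    ∃ e f : M, QuadraticMap.polar Q e f = 1 ∧ IsUnit (4 * (Q e * Q f) - 1) := by
  set m := IsLocalRing.maximalIdeal R with hm
  set i : Fin n := ⟨0, by omega⟩
  set j : Fin n := ⟨1, by omega⟩
  have hij : i ≠ j := by simp [i, j]
  set e := b i with he
  set f := dualVec b hQ i with hf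
  have hef : QuadraticMap.polar Q e f = 1 := by
    rw [QuadraticMap.polar_comm, he, hf, polar_dualVec]; simp
  by_cases h : IsUnit (4 * (Q e * Q f) - 1)
  · exact ⟨e, f, hef, h⟩
  have hfu : IsUnit (2 * Q f) := by
    by_contra h2
    refine h (isUnit_sub_of_mem ?_)
    rw [show 4 * (Q e * Q f) = (2 * Q e) * (2 * Q f) by ring]
    exact Ideal.mul_mem_left _ _ ((IsLocalRing.mem_maximalIdeal _).mpr h2)
  have h2u : IsUnit (2 : R) := isUnit_of_mul_isUnit_left hfu
  by_cases hw : ∃ w : M, QuadraticMap.polar Q e w = 0 ∧ IsUnit (4 * (Q e * (Q (f + w))) - 1)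
  · obtain ⟨w, hw0, hwu⟩ := hw
    exact ⟨e, f + w, by rw [QuadraticMap.polar_add_right, hef, hw0, add_zero], hwu⟩
  exfalso
  simp only [not_exists, not_and] at hw
  have h1 : 4 * (Q e * Q f) - 1 ∈ m := (IsLocalRing.mem_maximalIdeal _).mpr h
  have ha : IsUnit (4 * Q e) := by
    by_contra ha
    refine h (isUnit_sub_of_mem ?_)
    rw [← mul_assoc]
    exact Ideal.mul_mem_right _ _ ((IsLocalRing.mem_maximalIdeal _).mpr ha)
  have hsum : ∀ w, QuadraticMap.polar Q e w = 0 → Q w + QuadraticMap.polar Q f w ∈ m := by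
    intro w hw0
    have h2 : 4 * (Q e * Q (f + w)) - 1 ∈ m := (IsLocalRing.mem_maximalIdeal _).mpr (hw w hw0)
    have h3 := sub_mem h2 h1
    rw [QuadraticMap.map_add Q,
      show 4 * (Q e * (Q f + Q w + QuadraticMap.polar Q f w)) - 1 - (4 * (Q e * Q f) - 1) =
        4 * Q e * (Q w + QuadraticMap.polar Q f w) by ring] at h3
    exact (Ideal.unit_mul_mem_iff_mem _ ha).mp h3
  have hboth : ∀ w, QuadraticMap.polar Q e w = 0 → Q w ∈ m ∧ QuadraticMap.polar Q f w ∈ m := by
    intro w hw0
    have h3 := hsum w hw0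
    have h4 := hsum (-w) (by rw [QuadraticMap.polar_neg_right, hw0, neg_zero])
    rw [Q.map_neg, QuadraticMap.polar_neg_right] at h4
    have h5 : Q w ∈ m := by
      have := add_mem h3 h4
      rw [show Q w + QuadraticMap.polar Q f w + (Q w + -QuadraticMap.polar Q f w) = 2 * Q w by ring] at this
      exact (Ideal.unit_mul_mem_iff_mem _ h2u).mp this
    exact ⟨h5, by simpa using sub_mem h3 h5⟩
  set x := b j
  set t := QuadraticMap.polar Q e x with ht
  set w := x - t • f
  have hproj : ∀ y, QuadraticMap.polar Q e (y - QuadraticMap.polar Q e y • f) = 0 := fun y => by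
    rw [QuadraticMap.polar_sub_right, QuadraticMap.polar_smul_right, hef, smul_eq_mul, mul_one, sub_self]
  have hker : ∀ y, QuadraticMap.polar Q w y ∈ m := by
    intro y
    set y' := y - QuadraticMap.polar Q e y • f with hy'
    have a1 : QuadraticMap.polar Q e w = 0 := hproj x
    have a2 := hproj y
    have b1 : QuadraticMap.polar Q w y' ∈ m := by
      rw [QuadraticMap.polar]
      exact sub_mem (sub_mem (hboth _ (by rw [QuadraticMap.polar_add_right, a1, a2, add_zero])).1 (hboth _ a1).1)
        (hboth _ a2).1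
    rw [show y = y' + QuadraticMap.polar Q e y • f by rw [hy', sub_add_cancel], QuadraticMap.polar_add_right,
      QuadraticMap.polar_smul_right, QuadraticMap.polar_comm _ w f]
    exact add_mem b1 (Ideal.mul_mem_left _ _ (hboth _ a1).2)
  have hpair : ∀ k, b.coord k w ∈ m := fun k => by
    rw [← polar_dualVec b hQ, QuadraticMap.polar_comm]; exact hker _
  have hi := hpair i
  have hj := hpair j
  simp only [w, x, map_sub, map_smul, b.coord_apply, b.repr_self, Finsupp.sub_apply, Finsupp.smul_apply,
    Finsupp.single_eq_same,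
    Finsupp.single_eq_of_ne hij, smul_eq_mul, zero_sub, neg_mem_iff] at hi hj
  have hfi : IsUnit (b.repr f i) := by
    rw [show b.repr f i = QuadraticMap.polar Q f f by rw [hf, polar_dualVec]; rfl, QuadraticMap.polar_self,
      nsmul_eq_mul]
    exact_mod_cast hfu
  rw [mul_comm] at hi
  have ht : t ∈ m := (Ideal.unit_mul_mem_iff_mem _ hfi).mp hi
  have := add_mem hj (Ideal.mul_mem_right (b.repr f j) _ ht)
  rw [sub_add_cancel] at this
  exact (IsLocalRing.mem_maximalIdeal _).mp this isUnit_one

/-- Orthogonal planes. -/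
structure PlaneFam {M : Type v} [AddCommGroup M] [Module R M] (Q : QuadraticForm R M) (m : ℕ) where
  e : Fin m → M
  f : Fin m → M
  ef : ∀ k, QuadraticMap.polar Q (e k) (f k) = 1
  unit : ∀ k, IsUnit (4 * (Q (e k) * Q (f k)) - 1)
  orth : ∀ k l, k ≠ l → QuadraticMap.polar Q (e k) (e l) = 0 ∧ QuadraticMap.polar Q (e k) (f l) = 0 ∧
    QuadraticMap.polar Q (f k) (f l) = 0

/-- A regular form of even rank over a local ring is an orthogonal sum of planes. -/
theorem exists_planeFam [IsLocalRing R] : ∀ (m : ℕ) {M : Type v} [AddCommGroup M] [Module R M],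
    Module.Basis (Fin (2 * m)) R M → ∀ Q : QuadraticForm R M, QuadGrp.IsRegular Q →
      ∃ P : PlaneFam Q m, Submodule.span R (Set.range P.e ∪ Set.range P.f) = ⊤
  | 0, M, _, _, b, Q, _ => by
    refine ⟨⟨Fin.elim0, Fin.elim0, fun k => k.elim0, fun k => k.elim0, fun k => k.elim0⟩, ?_⟩
    haveI : IsEmpty (Fin (2 * 0)) := ⟨fun k => absurd k.isLt (by omega)⟩
    haveI : Subsingleton M := b.repr.toEquiv.subsingleton
    exact Subsingleton.elim _ _
  | m + 1, M, _, _, b, Q, hQ => by
    classical
    haveI := Module.Free.of_basis b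
    haveI := Module.Finite.of_basis b
    obtain ⟨e, f, hef, d, hd⟩ := exists_plane b (by omega) hQ
    let B := fun x y => QuadraticMap.polar Q x y
    -- coordinates in the plane
    let α : M →ₗ[R] R := (↑d⁻¹ : R) • ((2 * Q f) • Q.polarBilin e - Q.polarBilin f)
    let β : M →ₗ[R] R := (↑d⁻¹ : R) • ((2 * Q e) • Q.polarBilin f - Q.polarBilin e)
    let π : M →ₗ[R] M := LinearMap.id - α.smulRight e - β.smulRight f
    have hee : QuadraticMap.polar Q e e = 2 * Q e := by rw [QuadraticMap.polar_self, nsmul_eq_mul, Nat.cast_ofNat]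
    have hff : QuadraticMap.polar Q f f = 2 * Q f := by rw [QuadraticMap.polar_self, nsmul_eq_mul, Nat.cast_ofNat]
    have hfe : QuadraticMap.polar Q f e = 1 := by rw [QuadraticMap.polar_comm, hef]
    have hd1 := d.inv_mul
    have hπ : ∀ x, π x = x - α x • e - β x • f := fun x => rfl
    have hαx : ∀ x, α x = (↑d⁻¹ : R) * (2 * Q f * QuadraticMap.polar Q e x - QuadraticMap.polar Q f x) :=
      fun x => rfl
    have hβx : ∀ x, β x = (↑d⁻¹ : R) * (2 * Q e * QuadraticMap.polar Q f x - QuadraticMap.polar Q e x) :=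
      fun x => rfl
    have hπe : ∀ x, QuadraticMap.polar Q e (π x) = 0 := fun x => by
      rw [hπ, QuadraticMap.polar_sub_right, QuadraticMap.polar_sub_right, QuadraticMap.polar_smul_right,
        QuadraticMap.polar_smul_right, hee, hef, hαx, hβx, smul_eq_mul, smul_eq_mul]
      linear_combination (-QuadraticMap.polar Q e x) * hd1 + (↑d⁻¹ : R) * QuadraticMap.polar Q e x * hd
    have hπf : ∀ x, QuadraticMap.polar Q f (π x) = 0 := fun x => by
      rw [hπ, QuadraticMap.polar_sub_right, QuadraticMap.polar_sub_right, QuadraticMap.polar_smul_right,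
        QuadraticMap.polar_smul_right, hff, hfe, hαx, hβx, smul_eq_mul, smul_eq_mul]
      linear_combination (-QuadraticMap.polar Q f x) * hd1 + (↑d⁻¹ : R) * QuadraticMap.polar Q f x * hd
    let N : Submodule R M := LinearMap.ker (Q.polarBilin e) ⊓ LinearMap.ker (Q.polarBilin f)
    have hNmem : ∀ y : M, y ∈ N ↔ QuadraticMap.polar Q e y = 0 ∧ QuadraticMap.polar Q f y = 0 := fun y => Iff.rfl
    let πN : M →ₗ[R] N := π.codRestrict N fun x => ⟨hπe x, hπf x⟩
    have hfix : ∀ y : N, πN y = y := fun y => Subtype.ext (by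
      show π y = _
      rw [hπ, hαx, hβx, ((hNmem _).mp y.2).1, ((hNmem _).mp y.2).2]
      simp)
    let Φ : M ≃ₗ[R] (R × R) × N :=
      LinearEquiv.ofLinear ((α.prod β).prod πN)
        (((LinearMap.id.smulRight e).coprod (LinearMap.id.smulRight f)).coprod N.subtype)
        (by
          refine LinearMap.ext fun p => ?_
          obtain ⟨⟨r, s⟩, y⟩ := p
          have h1 := ((hNmem _).mp y.2)
          have hα : α (r • e + s • f + (y : M)) = r := by
            rw [hαx, QuadraticMap.polar_add_right, QuadraticMap.polar_add_right, QuadraticMap.polar_smul_right,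
              QuadraticMap.polar_smul_right, QuadraticMap.polar_add_right, QuadraticMap.polar_add_right,
              QuadraticMap.polar_smul_right, QuadraticMap.polar_smul_right, hee, hef, hfe, hff, h1.1, h1.2]
            simp only [smul_eq_mul]
            linear_combination r * hd1 - (↑d⁻¹ : R) * r * hd
          have hβ : β (r • e + s • f + (y : M)) = s := by
            rw [hβx, QuadraticMap.polar_add_right, QuadraticMap.polar_add_right, QuadraticMap.polar_smul_right,
              QuadraticMap.polar_smul_right, QuadraticMap.polar_add_right, QuadraticMap.polar_add_right,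
              QuadraticMap.polar_smul_right, QuadraticMap.polar_smul_right, hee, hef, hfe, hff, h1.1, h1.2]
            simp only [smul_eq_mul]
            linear_combination s * hd1 - (↑d⁻¹ : R) * s * hd
          refine Prod.ext (Prod.ext hα hβ) (Subtype.ext ?_)
          show π (r • e + s • f + (y : M)) = _
          rw [hπ, hα, hβ]
          show _ = (y : M)
          abel)
        (by
          refine LinearMap.ext fun x => ?_
          show α x • e + β x • f + π x = x
          rw [hπ]; abel)
    haveI : Module.Projective R N := Module.Projective.of_split N.subtype πN (LinearMap.ext hfix)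
    haveI : Module.Finite R N := Module.Finite.of_surjective πN fun y => ⟨y, hfix y⟩
    haveI : Module.Free R N := Module.free_of_flat_of_isLocalRing
    have hrank : Module.finrank R N = 2 * m := by
      have h1 := Φ.finrank_eq
      rw [Module.finrank_eq_card_basis b, Fintype.card_fin, Module.finrank_prod, Module.finrank_prod,
        Module.finrank_self] at h1
      omega
    have hreg : QuadGrp.IsRegular (Q.comp N.subtype) := by
      have hp : ∀ x y : N, (Q.comp N.subtype).polarBilin x y = Q.polarBilin (x : M) y := fun x y => by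
        simp [QuadraticMap.polar]
      constructor
      · intro y z hyz
        refine Subtype.ext (hQ.1 (LinearMap.ext fun x => ?_))
        have hx : x = α x • e + β x • f + (πN x : M) := by
          show x = α x • e + β x • f + π x
          rw [hπ]; abel
        have h2 := LinearMap.congr_fun hyz (πN x)
        rw [hp, hp] at h2
        rw [hx, map_add, map_add, map_add, map_add, h2]
        simp only [map_smul, QuadraticMap.polarBilin_apply_apply]
        rw [QuadraticMap.polar_comm _ (y : M) e, QuadraticMap.polar_comm _ (y : M) f,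
          QuadraticMap.polar_comm _ (z : M) e, QuadraticMap.polar_comm _ (z : M) f,
          ((hNmem _).mp y.2).1, ((hNmem _).mp y.2).2, ((hNmem _).mp z.2).1, ((hNmem _).mp z.2).2]
      · intro φ
        obtain ⟨y, hy⟩ := hQ.2 (φ.comp πN)
        have hye : QuadraticMap.polar Q e y = 0 := by
          rw [QuadraticMap.polar_comm]
          refine (LinearMap.congr_fun hy e).trans ?_
          rw [LinearMap.comp_apply, show πN e = 0 from Subtype.ext ?_, map_zero]
          show π e = 0
          rw [hπ, hαx, hβx, hee, hfe,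
            show (↑d⁻¹ : R) * (2 * Q f * (2 * Q e) - 1) = 1 by linear_combination hd1 - (↑d⁻¹ : R) * hd,
            show 2 * Q e * 1 - 2 * Q e = (0 : R) by ring, mul_zero, one_smul, zero_smul, sub_self, sub_zero]
        have hyf : QuadraticMap.polar Q f y = 0 := by
          rw [QuadraticMap.polar_comm]
          refine (LinearMap.congr_fun hy f).trans ?_
          rw [LinearMap.comp_apply, show πN f = 0 from Subtype.ext ?_, map_zero]
          show π f = 0
          rw [hπ, hαx, hβx, hef, hff,
            show (↑d⁻¹ : R) * (2 * Q e * (2 * Q f) - 1) = 1 by linear_combination hd1 - (↑d⁻¹ : R) * hd,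
            show 2 * Q f * 1 - 2 * Q f = (0 : R) by ring, mul_zero, one_smul, zero_smul, sub_zero, sub_self]
        refine ⟨⟨y, hye, hyf⟩, LinearMap.ext fun z => ?_⟩
        rw [hp]
        exact (LinearMap.congr_fun hy z).trans (by rw [LinearMap.comp_apply, hfix])
    obtain ⟨P, hP⟩ := exists_planeFam m (Module.finBasisOfFinrankEq R N hrank) (Q.comp N.subtype) hreg
    have hpol : ∀ x y : N, QuadraticMap.polar (Q.comp N.subtype) x y = QuadraticMap.polar Q (x : M) y :=
      fun x y => by simp [QuadraticMap.polar]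
    refine ⟨⟨Fin.cons e fun k => (P.e k : M), Fin.cons f fun k => (P.f k : M), ?_, ?_, ?_⟩, ?_⟩
    · intro k
      refine Fin.cases ?_ (fun k => ?_) k
      · exact hef
      · simpa [hpol] using P.ef k
    · intro k
      refine Fin.cases ?_ (fun k => ?_) k
      · exact ⟨d, hd⟩
      · simpa using P.unit k
    · intro k l
      refine Fin.cases ?_ (fun k => ?_) k <;> refine Fin.cases ?_ (fun l => ?_) l <;> intro hkl
      · exact absurd rfl hkl
      · simp only [Fin.cons_zero, Fin.cons_succ]
        exact ⟨(hNmem _).mp (P.e l).2 |>.1, (hNmem _).mp (P.f l).2 |>.1, (hNmem _).mp (P.f l).2 |>.2⟩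
      · simp only [Fin.cons_zero, Fin.cons_succ]
        exact ⟨by rw [QuadraticMap.polar_comm]; exact (hNmem _).mp (P.e k).2 |>.1,
          by rw [QuadraticMap.polar_comm]; exact (hNmem _).mp (P.e k).2 |>.2,
          by rw [QuadraticMap.polar_comm]; exact (hNmem _).mp (P.f k).2 |>.2⟩
      · simpa [hpol] using P.orth k l (fun h => hkl (congrArg _ h))
    · rw [eq_top_iff]
      intro x _
      have hN : (πN x : M) ∈ Submodule.span R ((Set.range fun k => (P.e k : M)) ∪ Set.range fun k => (P.f k : M)) := by
        have := Submodule.mem_map_of_mem (f := N.subtype) (hP ▸ Submodule.mem_top : πN x ∈ Submodule.span R _)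
        rw [Submodule.map_span, Set.image_union, ← Set.range_comp, ← Set.range_comp] at this
        exact this
      have hx : x = α x • e + β x • f + (πN x : M) := by
        show x = α x • e + β x • f + π x
        rw [hπ]; abel
      rw [hx]
      refine add_mem (add_mem (Submodule.smul_mem _ _ (Submodule.subset_span (Or.inl ⟨0, by simp⟩)))
        (Submodule.smul_mem _ _ (Submodule.subset_span (Or.inr ⟨0, by simp⟩)))) ?_
      refine Submodule.span_mono ?_ hN
      exact Set.union_subset_union (fun _ ⟨k, hk⟩ => ⟨k.succ, by simpa using hk⟩) (fun _ ⟨k, hk⟩ => ⟨k.succ, by simpa using hk⟩)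

end Exists

section W

variable {R : Type u} [CommRing R] {M : Type v} [AddCommGroup M] [Module R M] {Q : QuadraticForm R M} {m : ℕ}

/-- The element `1 - 2 e f` of a plane. -/
noncomputable def wElt (Q : QuadraticForm R M) (e f : M) : CliffordAlgebra Q := 1 - (2 : R) • (ι Q e * ι Q f)

theorem swap_of_ef {e f : M} (h : QuadraticMap.polar Q e f = 1) : ι Q f * ι Q e = 1 - ι Q e * ι Q f := by
  refine eq_sub_of_add_eq ?_
  rw [ι_mul_ι_add_swap, QuadraticMap.polar_comm, h, map_one]

theorem wElt_mem (e f : M) : wElt Q e f ∈ evenOdd Q 0 :=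
  sub_mem mem_even_one (Submodule.smul_mem _ _ (ι_mul_ι_mem_evenOdd_zero Q e f))

theorem wElt_anti_e {e f : M} (h : QuadraticMap.polar Q e f = 1) :
    ι Q e * wElt Q e f = -(wElt Q e f * ι Q e) := by
  rw [wElt, mul_sub, sub_mul, mul_smul_comm, smul_mul_assoc, mul_assoc (ι Q e) (ι Q f), swap_of_ef h, mul_one,
    one_mul, mul_sub, mul_one, ← mul_assoc (ι Q e) (ι Q e), smul_sub, two_smul, two_smul]
  abel

theorem wElt_anti_f {e f : M} (h : QuadraticMap.polar Q e f = 1) :
    ι Q f * wElt Q e f = -(wElt Q e f * ι Q f) := by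
  rw [wElt, mul_sub, sub_mul, mul_smul_comm, smul_mul_assoc, ← mul_assoc (ι Q f) (ι Q e), swap_of_ef h, mul_one,
    one_mul, sub_mul, one_mul, smul_sub, two_smul, two_smul]
  abel

theorem ι_comm_pair {v e f : M} (he : QuadraticMap.polar Q v e = 0) (hf : QuadraticMap.polar Q v f = 0) :
    ι Q v * (ι Q e * ι Q f) = ι Q e * ι Q f * ι Q v := by
  rw [← mul_assoc, ι_mul_ι_comm, he, map_zero, zero_sub, neg_mul, mul_assoc, ι_mul_ι_comm v f, hf, map_zero,
    zero_sub, mul_neg, neg_neg, mul_assoc]

theorem wElt_comm {v e f : M} (he : QuadraticMap.polar Q v e = 0) (hf : QuadraticMap.polar Q v f = 0) :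
    ι Q v * wElt Q e f = wElt Q e f * ι Q v := by
  rw [wElt, mul_sub, sub_mul, mul_smul_comm, smul_mul_assoc, ι_comm_pair he hf, mul_one, one_mul]

theorem star_wElt {e f : M} (h : QuadraticMap.polar Q e f = 1) : star (wElt Q e f) = -wElt Q e f := by
  rw [wElt, star_sub, star_one, CliffordAlgebra.star_smul, star_mul, CliffordAlgebra.star_ι, CliffordAlgebra.star_ι,
    neg_mul_neg, swap_of_ef h, smul_sub, two_smul, two_smul]
  abel

theorem wElt_sq {e f : M} (h : QuadraticMap.polar Q e f = 1) :
    wElt Q e f * wElt Q e f = algebraMap R _ (1 - 4 * (Q e * Q f)) := by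
  have h2 : (ι Q e * ι Q f) * (ι Q e * ι Q f) = ι Q e * ι Q f - (Q e * Q f) • 1 := by
    rw [mul_assoc, ← mul_assoc (ι Q f) (ι Q e), swap_of_ef h, sub_mul, one_mul, mul_sub, mul_assoc (ι Q e) (ι Q f),
      ι_sq_scalar, mul_scalar_eq, mul_smul_comm, ι_sq_scalar, Algebra.algebraMap_eq_smul_one, smul_smul, mul_comm]
  rw [wElt, mul_sub, sub_mul, sub_mul, one_mul, one_mul, mul_one, smul_mul_assoc, mul_smul_comm, h2,
    Algebra.algebraMap_eq_smul_one]
  module

variable (P : PlaneFam Q m)

/-- The product of the elements of a list of planes. -/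
noncomputable def wList (l : List (Fin m)) : CliffordAlgebra Q := (l.map fun k => wElt Q (P.e k) (P.f k)).prod

theorem PlaneFam.orth' {k l : Fin m} (h : k ≠ l) : QuadraticMap.polar Q (P.f k) (P.e l) = 0 := by
  rw [QuadraticMap.polar_comm]; exact (P.orth l k (Ne.symm h)).2.1

theorem wList_mem : ∀ l, wList P l ∈ evenOdd Q 0
  | [] => by simpa [wList] using mem_even_one
  | k :: l => by
    rw [wList, List.map_cons, List.prod_cons]
    exact mul_mem_parity (wElt_mem _ _) (wList_mem l) rfl

theorem wList_comm {v : M} : ∀ l : List (Fin m),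
    (∀ k ∈ l, QuadraticMap.polar Q v (P.e k) = 0 ∧ QuadraticMap.polar Q v (P.f k) = 0) →
      ι Q v * wList P l = wList P l * ι Q v
  | [], _ => by simp [wList]
  | k :: l, h => by
    rw [wList, List.map_cons, List.prod_cons, ← mul_assoc, wElt_comm (h k List.mem_cons_self).1 (h k List.mem_cons_self).2,
      mul_assoc, mul_assoc, ← wList, wList_comm l fun j hj => h j (List.mem_cons_of_mem _ hj)]

theorem wList_anti : ∀ l : List (Fin m), l.Nodup → ∀ k ∈ l,
    ι Q (P.e k) * wList P l = -(wList P l * ι Q (P.e k)) ∧ ι Q (P.f k) * wList P l = -(wList P l * ι Q (P.f k))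
  | [], _, k, hk => absurd hk (List.not_mem_nil)
  | j :: l, hl, k, hk => by
    rw [List.nodup_cons] at hl
    rw [wList, List.map_cons, List.prod_cons, ← wList]
    rcases List.mem_cons.mp hk with rfl | hk
    · have hne : ∀ i ∈ l, k ≠ i := fun i hi h => hl.1 (h ▸ hi)
      constructor
      · rw [← mul_assoc, wElt_anti_e (P.ef k), neg_mul, mul_assoc,
          wList_comm P l fun i hi => ⟨(P.orth k i (hne i hi)).1, (P.orth k i (hne i hi)).2.1⟩, mul_assoc]
      · rw [← mul_assoc, wElt_anti_f (P.ef k), neg_mul, mul_assoc,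
          wList_comm P l fun i hi => ⟨P.orth' (hne i hi), (P.orth k i (hne i hi)).2.2⟩, mul_assoc]
    · have hne : k ≠ j := fun h => hl.1 (h ▸ hk)
      constructor
      · rw [← mul_assoc, wElt_comm (P.orth k j hne).1 (P.orth k j hne).2.1, mul_assoc,
          (wList_anti l hl.2 k hk).1, mul_neg, ← mul_assoc]
      · rw [← mul_assoc, wElt_comm (P.orth' hne) (P.orth k j hne).2.2, mul_assoc,
          (wList_anti l hl.2 k hk).2, mul_neg, ← mul_assoc]

theorem wElt_comm_wList {k : Fin m} : ∀ l : List (Fin m), k ∉ l →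
    wElt Q (P.e k) (P.f k) * wList P l = wList P l * wElt Q (P.e k) (P.f k) := by
  intro l hl
  have hne : ∀ i ∈ l, k ≠ i := fun i hi h => hl (h ▸ hi)
  have he := wList_comm P l fun i hi => ⟨(P.orth k i (hne i hi)).1, (P.orth k i (hne i hi)).2.1⟩
  have hf := wList_comm P l fun i hi => ⟨P.orth' (hne i hi), (P.orth k i (hne i hi)).2.2⟩
  rw [wElt, sub_mul, one_mul, mul_sub, mul_one, smul_mul_assoc, mul_smul_comm, mul_assoc, hf, ← mul_assoc, he,
    mul_assoc]

theorem star_wList : ∀ l : List (Fin m), l.Nodup → star (wList P l) = ((-1 : R) ^ l.length) • wList P l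
  | [], _ => by simp [wList]
  | k :: l, hl => by
    rw [List.nodup_cons] at hl
    rw [wList, List.map_cons, List.prod_cons, ← wList, star_mul, star_wList l hl.2, star_wElt (P.ef k),
      smul_mul_assoc, mul_neg, ← wElt_comm_wList P l hl.1, List.length_cons, pow_succ, mul_neg_one, neg_smul, smul_neg]

theorem wList_sq : ∀ l : List (Fin m), l.Nodup →
    wList P l * wList P l = algebraMap R _ (l.map fun k => 1 - 4 * (Q (P.e k) * Q (P.f k))).prod
  | [], _ => by simp [wList]
  | k :: l, hl => by
    rw [List.nodup_cons] at hl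
    rw [wList, List.map_cons, List.prod_cons, ← wList, List.map_cons, List.prod_cons, map_mul,
      ← wElt_sq (P.ef k), ← wList_sq l hl.2]
    conv_lhs => rw [mul_assoc, ← mul_assoc (wList P l), ← wElt_comm_wList P l hl.1]
    simp only [mul_assoc]

/-- The product over all planes. -/
noncomputable def PlaneFam.w : CliffordAlgebra Q := wList P (List.finRange m)

/-- Its square. -/
noncomputable def PlaneFam.w2 : R := ((List.finRange m).map fun k => 1 - 4 * (Q (P.e k) * Q (P.f k))).prod

theorem PlaneFam.w_sq : P.w * P.w = algebraMap R _ P.w2 := wList_sq P _ (List.nodup_finRange m)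

theorem PlaneFam.w2_isUnit : IsUnit P.w2 := by
  refine List.prod_isUnit fun x hx => ?_
  obtain ⟨k, -, rfl⟩ := List.mem_map.mp hx
  rw [← neg_sub, IsUnit.neg_iff]
  exact P.unit k

theorem PlaneFam.w_mem : P.w ∈ evenOdd Q 0 := wList_mem P _

theorem PlaneFam.star_w : star P.w = ((-1 : R) ^ m) • P.w := by
  rw [PlaneFam.w, star_wList P _ (List.nodup_finRange m), List.length_finRange]

theorem PlaneFam.w_anti {v : M} (hv : v ∈ Submodule.span R (Set.range P.e ∪ Set.range P.f)) :
    ι Q v * P.w = -(P.w * ι Q v) := by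
  induction hv using Submodule.span_induction with
  | mem x hx =>
    rcases hx with ⟨k, rfl⟩ | ⟨k, rfl⟩
    · exact (wList_anti P _ (List.nodup_finRange m) k (List.mem_finRange k)).1
    · exact (wList_anti P _ (List.nodup_finRange m) k (List.mem_finRange k)).2
  | zero => simp
  | add x y _ _ hx hy => rw [map_add, add_mul, mul_add, hx, hy, neg_add]
  | smul r x _ hx => rw [map_smul, smul_mul_assoc, mul_smul_comm, hx, smul_neg]

theorem PlaneFam.w_comm {v : M}
    (hv : ∀ k, QuadraticMap.polar Q v (P.e k) = 0 ∧ QuadraticMap.polar Q v (P.f k) = 0) :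
    ι Q v * P.w = P.w * ι Q v := wList_comm P _ fun k _ => hv k

/-- Its unit. -/
noncomputable def PlaneFam.wUnit : (CliffordAlgebra Q)ˣ where
  val := P.w
  inv := (↑(P.w2_isUnit.unit⁻¹) : R) • P.w
  val_inv := by rw [mul_smul_comm, P.w_sq, ← scalar_mul_eq, ← map_mul, IsUnit.val_inv_mul, map_one]
  inv_val := by rw [smul_mul_assoc, P.w_sq, ← scalar_mul_eq, ← map_mul, IsUnit.val_inv_mul, map_one]

end W

end Groth.Agent.Quad37
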