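import Groth.Agent.Quad37.Disc
import Groth.Agent.Quad37.Planes
import Mathlib.LinearAlgebra.Matrix.ToLinearEquiv
import Mathlib.RingTheory.LocalRing.ResidueField.Basic

set_option autoImplicit false

universe u v

namespace Groth.Agent.Quad37

variable {R : Type u} [CommRing R] {M : Type v} [AddCommGroup M] [Module R M]

section Block

variable {k : ℕ}

/-- The Gram matrix of all but the first vector, from the coefficients. -/
noncomputable def minorMat (a : Sym2 (Fin (k + 1)) → R) : Matrix (Fin k) (Fin k) R :=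
  Matrix.of fun i j => if i = j then 2 * a s(i.succ, i.succ) else a s(i.succ, j.succ)

theorem minorMat_map {S : Type*} [CommRing S] (φ : R →+* S) (a : Sym2 (Fin (k + 1)) → R) :
    (minorMat a).map φ = minorMat fun s => φ (a s) := by
  ext i j
  simp only [minorMat, Matrix.map_apply, Matrix.of_apply]
  split_ifs <;> simp [map_ofNat]

theorem halfDisc_block (h : Even k) (a : Sym2 (Fin (k + 1)) → R) (ha : ∀ j : Fin k, a s(0, j.succ) = 0) :
    MvPolynomial.eval₂ (Int.castRingHom R) a (QuadGrp.halfDiscUniv (k + 1)) = a s(0, 0) * (minorMat a).det := by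
  classical
  let S := MvPolynomial (Sym2 (Fin (k + 1))) ℤ
  let bad : Sym2 (Fin (k + 1)) → Prop := fun s => ∃ j : Fin k, s = s(0, j.succ)
  let a₀ : Sym2 (Fin (k + 1)) → S := fun s => if bad s then 0 else MvPolynomial.X s
  have h0 : ∀ j : Fin k, a₀ s(0, j.succ) = 0 := fun j => if_pos ⟨j, rfl⟩
  have key : MvPolynomial.eval₂ (Int.castRingHom S) a₀ (QuadGrp.halfDiscUniv (k + 1)) =
      a₀ s(0, 0) * (minorMat a₀).det := by
    have hd := disc_eq_det (Pi.basisFun S (Fin (k + 1))) (qf a₀)
    rw [disc_eq_two_mul h.add_one, QuadGrp.halfDisc, coeffs_qf, Matrix.det_succ_row_zero] at hd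
    have hentry : ∀ i j : Fin (k + 1), LinearMap.toMatrix₂ (Pi.basisFun S (Fin (k + 1))) (Pi.basisFun S (Fin (k + 1)))
        (qf a₀).polarBilin i j = if i = j then 2 * a₀ s(i, i) else a₀ s(i, j) := fun i j => by
      rw [LinearMap.toMatrix₂_apply, QuadraticMap.polarBilin_apply_apply, Pi.basisFun_apply, Pi.basisFun_apply]
      split_ifs with hij
      · subst hij; rw [QuadraticMap.polar_self, qf_single, nsmul_eq_mul, Nat.cast_ofNat]
      · exact qf_polar_single a₀ hij
    rw [Finset.sum_eq_single 0] at hd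
    · rw [hentry, if_pos rfl, Fin.val_zero, pow_zero, one_mul] at hd
      have hsub : (LinearMap.toMatrix₂ (Pi.basisFun S (Fin (k + 1))) (Pi.basisFun S (Fin (k + 1)))
          (qf a₀).polarBilin).submatrix Fin.succ (Fin.succAbove 0) = minorMat a₀ := by
        ext i j
        rw [Matrix.submatrix_apply, hentry, Fin.succAbove_zero, minorMat, Matrix.of_apply]
        simp [Fin.succ_inj]
      rw [hsub, mul_assoc] at hd
      exact mul_left_cancel₀ (fun h2 => absurd (congrArg MvPolynomial.constantCoeff h2) (by simp [map_ofNat])) hd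
    · intro j _ hj
      obtain ⟨j, rfl⟩ := Fin.exists_succ_eq.mpr hj
      rw [hentry, if_neg (Fin.succ_ne_zero j).symm, h0]
      simp
    · exact fun hu => absurd (Finset.mem_univ _) hu
  let φ : S →+* R := MvPolynomial.eval₂Hom (Int.castRingHom R) a
  have e : (fun s => φ (a₀ s)) = a := funext fun s => by
    by_cases hb : bad s
    · obtain ⟨j, rfl⟩ := hb
      rw [h0, map_zero, ha]
    · simp only [a₀, if_neg hb]; exact MvPolynomial.eval₂Hom_X' _ _ _
  have := congrArg φ key
  rw [eval_halfDiscUniv_map, map_mul, RingHom.map_det, RingHom.mapMatrix_apply, minorMat_map, e,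
    congrFun e s(0, 0)] at this
  exact this

/-- The Gram matrix of all but the first vector. -/
noncomputable def restGram (b : Module.Basis (Fin (k + 1)) R M) (Q : QuadraticForm R M) : Matrix (Fin k) (Fin k) R :=
  Matrix.of fun i j => QuadraticMap.polar Q (b i.succ) (b j.succ)

theorem minorMat_coeffs (b : Module.Basis (Fin (k + 1)) R M) (Q : QuadraticForm R M) :
    minorMat (QuadGrp.coeffs b (LinearEquiv.refl R R) Q) = restGram b Q := by
  ext i j
  simp only [minorMat, restGram, Matrix.of_apply, QuadGrp.coeffs_mk, LinearEquiv.refl_apply, Fin.succ_inj, if_true]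
  split_ifs with hij
  · subst hij; rw [QuadraticMap.polar_self, nsmul_eq_mul, Nat.cast_ofNat]
  · rfl

theorem halfDisc_orth (h : Even k) (b : Module.Basis (Fin (k + 1)) R M) (Q : QuadraticForm R M)
    (ho : ∀ j : Fin k, QuadraticMap.polar Q (b 0) (b j.succ) = 0) :
    QuadGrp.halfDisc b (LinearEquiv.refl R R) Q = Q (b 0) * (restGram b Q).det := by
  rw [QuadGrp.halfDisc, halfDisc_block h _ fun j => by
    rw [QuadGrp.coeffs_mk, if_neg (Fin.succ_ne_zero j).symm, LinearEquiv.refl_apply, ho], minorMat_coeffs,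
    QuadGrp.coeffs_mk, if_pos rfl, LinearEquiv.refl_apply]

end Block

section Change

variable {n : ℕ}

theorem halfDisc_basis (h : Odd n) (b b' : Module.Basis (Fin n) R M) (Q : QuadraticForm R M) :
    QuadGrp.halfDisc b' (LinearEquiv.refl R R) Q =
      LinearMap.det (b.equiv b' (Equiv.refl _) : M →ₗ[R] M) ^ 2 * QuadGrp.halfDisc b (LinearEquiv.refl R R) Q := by
  rw [← halfDisc_comp h]
  refine halfDisc_congr (fun i => ?_) (fun i j _ => ?_)
  · rw [QuadraticMap.comp_apply, LinearEquiv.coe_coe, Module.Basis.equiv_apply, Equiv.refl_apply]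
  · simp only [QuadraticMap.polar, QuadraticMap.comp_apply, map_add, LinearEquiv.coe_coe,
      Module.Basis.equiv_apply, Equiv.refl_apply]

theorem isSemiregular_basis (h : Odd n) {b : Module.Basis (Fin n) R M} (b' : Module.Basis (Fin n) R M)
    {Q : QuadraticForm R M} (hQ : QuadGrp.IsSemiregular b (LinearEquiv.refl R R) Q) :
    QuadGrp.IsSemiregular b' (LinearEquiv.refl R R) Q := by
  rw [QuadGrp.IsSemiregular, halfDisc_basis h b b']
  exact ((LinearEquiv.isUnit_det' (b.equiv b' (Equiv.refl _))).pow 2).mul hQ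

/-- `x ↦ x + ξ(x) v` for `ξ v = 0`. -/
noncomputable def shear (ξ : M →ₗ[R] R) (v : M) (h : ξ v = 0) : M ≃ₗ[R] M :=
  LinearEquiv.ofLinear (LinearMap.id + ξ.smulRight v) (LinearMap.id - ξ.smulRight v)
    (LinearMap.ext fun x => by simp [h, sub_eq_add_neg])
    (LinearMap.ext fun x => by simp [h, sub_eq_add_neg])

theorem shear_apply (ξ : M →ₗ[R] R) (v : M) (h : ξ v = 0) (x : M) : shear ξ v h x = x + ξ x • v := rfl

/-- A basis with a given first vector, one of whose coordinates is a unit. -/
theorem exists_basis_first (b : Module.Basis (Fin (n + 1)) R M) {v : M} {i : Fin (n + 1)} (hi : IsUnit (b.repr v i)) :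
    ∃ b' : Module.Basis (Fin (n + 1)) R M, b' 0 = v := by
  obtain ⟨c, hc⟩ := hi
  have hbi : b.repr (b i) i = 1 := by simp
  let g : M ≃ₗ[R] M := LinearEquiv.ofLinear
    (LinearMap.id + (b.coord i).smulRight (v - b i))
    (LinearMap.id - ((↑c⁻¹ : R) • b.coord i).smulRight (v - b i))
    (LinearMap.ext fun x => by
      simp only [LinearMap.comp_apply, LinearMap.add_apply, LinearMap.sub_apply, LinearMap.id_apply,
        LinearMap.smulRight_apply, LinearMap.smul_apply, map_sub, map_smul, b.coord_apply, hbi, ← hc,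
        Finsupp.sub_apply, smul_eq_mul]
      match_scalars <;> first | ring1 | linear_combination (b.repr x i) * c.inv_mul | linear_combination (-b.repr x i) * c.inv_mul
      )
    (LinearMap.ext fun x => by
      simp only [LinearMap.comp_apply, LinearMap.add_apply, LinearMap.sub_apply, LinearMap.id_apply,
        LinearMap.smulRight_apply, LinearMap.smul_apply, map_add, map_smul, map_sub, b.coord_apply, hbi, ← hc,
        Finsupp.add_apply, Finsupp.sub_apply, smul_eq_mul]
      match_scalars <;> first | ring1 | linear_combination (b.repr x i) * c.inv_mul | linear_combination (-b.repr x i) * c.inv_mul)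
  refine ⟨(b.map g).reindex (Equiv.swap i 0), ?_⟩
  simp only [Module.Basis.reindex_apply, Equiv.symm_swap, Equiv.swap_apply_right, Module.Basis.map_apply]
  show b i + b.repr (b i) i • (v - b i) = v
  rw [hbi, one_smul, add_sub_cancel]

end Change

section Exists

variable {k : ℕ}

theorem exists_orth_of_minor (b : Module.Basis (Fin (k + 1)) R M) (Q : QuadraticForm R M)
    (h : IsUnit (restGram b Q).det) :
    ∃ b' : Module.Basis (Fin (k + 1)) R M, (∀ j : Fin k, b' j.succ = b j.succ) ∧
      ∀ j : Fin k, QuadraticMap.polar Q (b' 0) (b' j.succ) = 0 := by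
  classical
  haveI := (restGram b Q).invertibleOfIsUnitDet h
  set t := Matrix.vecMul (fun j : Fin k => QuadraticMap.polar Q (b 0) (b j.succ)) (⅟(restGram b Q)) with ht
  have hts : Matrix.vecMul t (restGram b Q) = fun j => QuadraticMap.polar Q (b 0) (b j.succ) := by
    rw [ht, Matrix.vecMul_vecMul, invOf_mul_self, Matrix.vecMul_one]
  have hξ : (b.coord 0) (-∑ i, t i • b i.succ) = 0 := by simp
  let g := shear (b.coord 0) (-∑ i, t i • b i.succ) hξ
  refine ⟨b.map g, fun j => ?_, fun j => ?_⟩
  · simp [g, shear_apply]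
  · rw [Module.Basis.map_apply, Module.Basis.map_apply]
    have e1 : g (b j.succ) = b j.succ := by simp [g, shear_apply]
    have e0 : g (b 0) = b 0 + -∑ i, t i • b i.succ := by simp [g, shear_apply]
    rw [e1, e0, QuadraticMap.polar_add_left, QuadraticMap.polar_neg_left,
      show QuadraticMap.polar Q (∑ i, t i • b i.succ) (b j.succ) = ∑ i, t i * restGram b Q i j by
        rw [← QuadraticMap.polarBilin_apply_apply, map_sum, LinearMap.sum_apply]
        simp [restGram],
      ← congrFun hts j]
    simp [Matrix.vecMul, dotProduct]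

theorem restGram_congr (b b' : Module.Basis (Fin (k + 1)) R M) (Q : QuadraticForm R M)
    (h : ∀ j : Fin k, b' j.succ = b j.succ) : restGram b' Q = restGram b Q := by
  ext i j; simp [restGram, h]

/-- Over a local ring a semiregular form has an orthogonal decomposition. -/
theorem exists_orth_basis [IsLocalRing R] (hk : Even k) (b : Module.Basis (Fin (k + 1)) R M) (Q : QuadraticForm R M)
    (hQ : QuadGrp.IsSemiregular b (LinearEquiv.refl R R) Q) :
    ∃ b' : Module.Basis (Fin (k + 1)) R M, (∀ j : Fin k, QuadraticMap.polar Q (b' 0) (b' j.succ) = 0) ∧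
      IsUnit (Q (b' 0)) ∧ IsUnit (restGram b' Q).det := by
  classical
  have hodd : Odd (k + 1) := hk.add_one
  suffices hm : ∃ b' : Module.Basis (Fin (k + 1)) R M, IsUnit (restGram b' Q).det by
    obtain ⟨b₁, h1⟩ := hm
    obtain ⟨b₂, h2, h3⟩ := exists_orth_of_minor b₁ Q h1
    have hu := isSemiregular_basis hodd b₂ hQ
    rw [QuadGrp.IsSemiregular, halfDisc_orth hk b₂ Q h3] at hu
    exact ⟨b₂, h3, isUnit_of_mul_isUnit_left hu, isUnit_of_mul_isUnit_right hu⟩
  set m := IsLocalRing.maximalIdeal R
  by_cases h2 : IsUnit (2 : R)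
  · have hdet : IsUnit (LinearMap.toMatrix₂ b b Q.polarBilin).det := by
      rw [← disc_eq_det, disc_eq_two_mul hodd]; exact h2.mul hQ
    obtain ⟨v, hv⟩ : ∃ v, IsUnit (Q v) := by
      by_contra hc
      simp only [not_exists] at hc
      refine (IsLocalRing.mem_maximalIdeal _).mp ?_ hdet
      rw [Matrix.det_succ_row_zero]
      refine Ideal.sum_mem _ fun j _ => ?_
      refine Ideal.mul_mem_right _ _ (Ideal.mul_mem_left _ _ ?_)
      rw [LinearMap.toMatrix₂_apply, QuadraticMap.polarBilin_apply_apply, QuadraticMap.polar]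
      exact sub_mem (sub_mem ((IsLocalRing.mem_maximalIdeal _).mpr (hc _)) ((IsLocalRing.mem_maximalIdeal _).mpr (hc _)))
        ((IsLocalRing.mem_maximalIdeal _).mpr (hc _))
    obtain ⟨i, hi⟩ : ∃ i, IsUnit (b.repr v i) := by
      by_contra hc
      simp only [not_exists] at hc
      refine (IsLocalRing.mem_maximalIdeal _).mp ?_ hv
      rw [← b.sum_repr v]
      rw [QuadraticMap.map_sum']
      refine sub_mem (Submodule.sum_mem _ fun ij _ => ?_) (Submodule.sum_mem _ fun i _ => ?_)
      · induction ij using Sym2.ind with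
        | h i j =>
          rw [Sym2.map_mk, QuadraticMap.polarSym2_sym2Mk, QuadraticMap.polar_smul_left, smul_eq_mul]
          exact Ideal.mul_mem_right _ _ ((IsLocalRing.mem_maximalIdeal _).mpr (hc i))
      · rw [QuadraticMap.map_smul, smul_eq_mul, mul_assoc]
        exact Ideal.mul_mem_right _ _ ((IsLocalRing.mem_maximalIdeal _).mpr (hc i))
    obtain ⟨b₁, hb₁⟩ := exists_basis_first b hi
    obtain ⟨c, hc⟩ := h2.mul hv
    let ξ : M →ₗ[R] R := b₁.coord 0 - (↑c⁻¹ : R) • Q.polarBilin v
    have hξ : ξ v = 0 := by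
      show b₁.coord 0 v - (↑c⁻¹ : R) * QuadraticMap.polar Q v v = 0
      rw [QuadraticMap.polar_self, nsmul_eq_mul, Nat.cast_ofNat, ← hc, Units.inv_mul, ← hb₁]
      simp
    refine ⟨b₁.map (shear ξ v hξ), ?_⟩
    have ho : ∀ j : Fin k, QuadraticMap.polar Q ((b₁.map (shear ξ v hξ)) 0) ((b₁.map (shear ξ v hξ)) j.succ) = 0 := by
      intro j
      have e0 : (b₁.map (shear ξ v hξ)) 0 = v := by
        rw [Module.Basis.map_apply, shear_apply, hb₁, hξ, zero_smul, add_zero]
      rw [e0, Module.Basis.map_apply, shear_apply, QuadraticMap.polar_add_right, QuadraticMap.polar_smul_right,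
        QuadraticMap.polar_self, nsmul_eq_mul, Nat.cast_ofNat, ← hc]
      show _ + (b₁.coord 0 (b₁ j.succ) - (↑c⁻¹ : R) * QuadraticMap.polar Q v (b₁ j.succ)) * c = 0
      rw [show b₁.coord 0 (b₁ j.succ) = 0 by simp]
      linear_combination (-QuadraticMap.polar Q v (b₁ j.succ)) * c.inv_mul
    have hu := isSemiregular_basis hodd (b₁.map (shear ξ v hξ)) hQ
    rw [QuadGrp.IsSemiregular, halfDisc_orth hk _ Q ho] at hu
    exact isUnit_of_mul_isUnit_right hu
  · let res := IsLocalRing.residue R
    have hsur : Function.Surjective res := IsLocalRing.residue_surjective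
    have hres : ∀ r : R, res r = 0 → r ∈ m := fun r hr => (IsLocalRing.residue_eq_zero_iff r).mp hr
    have hP : ((LinearMap.toMatrix₂ b b Q.polarBilin).map res).det = 0 := by
      rw [← RingHom.mapMatrix_apply, ← RingHom.map_det, ← disc_eq_det, disc_eq_two_mul hodd, map_mul,
        show res 2 = 0 from (IsLocalRing.residue_eq_zero_iff _).mpr ((IsLocalRing.mem_maximalIdeal _).mpr h2), zero_mul]
    obtain ⟨x, hx0, hx⟩ := Matrix.exists_vecMul_eq_zero_iff.mpr hP
    obtain ⟨i, hi⟩ := Function.ne_iff.mp hx0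
    choose y hy using fun j => hsur (x j)
    set v := ∑ j, y j • b j
    have hrepr : ∀ j, b.repr v j = y j := fun j => by rw [b.repr_sum_self]
    obtain ⟨b₁, hb₁⟩ := exists_basis_first b (v := v) (i := i) (by
      rw [hrepr]
      by_contra hc
      exact hi (by rw [← hy, (IsLocalRing.residue_eq_zero_iff _).mpr ((IsLocalRing.mem_maximalIdeal _).mpr hc)]; rfl))
    refine ⟨b₁, ?_⟩
    have hker : ∀ z, res (QuadraticMap.polar Q v z) = 0 := by
      intro z
      rw [← b.sum_repr z, ← QuadraticMap.polarBilin_apply_apply, map_sum, map_sum]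
      refine Finset.sum_eq_zero fun l _ => ?_
      rw [map_smul, smul_eq_mul, map_mul]
      refine mul_eq_zero_of_right _ ?_
      have hl := congrFun hx l
      rw [Matrix.vecMul, dotProduct, Pi.zero_apply] at hl
      rw [← hl]
      simp only [v, map_sum, LinearMap.sum_apply, map_smul, LinearMap.smul_apply, smul_eq_mul, map_mul, hy,
        Matrix.map_apply, LinearMap.toMatrix₂_apply]
    have hu := (isSemiregular_basis hodd b₁ hQ).map res
    rw [QuadGrp.halfDisc, eval_halfDiscUniv_map, halfDisc_block hk _ fun j => by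
      rw [QuadGrp.coeffs_mk, if_neg (Fin.succ_ne_zero j).symm, LinearEquiv.refl_apply, hb₁, hker],
      ← minorMat_map, minorMat_coeffs, ← RingHom.mapMatrix_apply, ← RingHom.map_det] at hu
    exact (isUnit_map_iff res _).mp (isUnit_of_mul_isUnit_right hu)

end Exists

end Groth.Agent.Quad37
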