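import Groth.Agent.Quad37.FirstOrder

/-! Smooth lifting for `SO'` in odd rank, and gluing of linear solvability with values in an ideal. -/

set_option autoImplicit false

universe u v

namespace Groth.Agent.Quad37

open Matrix

variable {A : Type u} [CommRing A]

/-- A solution over the localisation gives a solution up to a denominator. -/
theorem exists_denom {σ ι : Type*} [Fintype σ] [Fintype ι] (I : Ideal A) (T : (σ → A) →ₗ[A] (ι → A)) (c : ι → A)
    (m : Ideal A) [m.IsPrime]
    (T' : (σ → Localization.AtPrime m) →ₗ[Localization.AtPrime m] (ι → Localization.AtPrime m))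
    (hT : ∀ w i, T' (fun s => algebraMap A _ (w s)) i = algebraMap A _ (T w i))
    (w' : σ → Localization.AtPrime m) (hw' : ∀ s, w' s ∈ I.map (algebraMap A (Localization.AtPrime m)))
    (heq : ∀ i, T' w' i = algebraMap A _ (c i)) :
    ∃ w : σ → A, (∀ s, w s ∈ I) ∧ ∃ t ∉ m, ∀ i, T w i = t * c i := by
  classical
  choose x hx using fun s => (IsLocalization.mem_map_algebraMap_iff m.primeCompl _).mp (hw' s)
  let D : A := ∏ s, ((x s).2 : A)
  let W : σ → A := fun s => ((x s).1 : A) * ∏ t ∈ Finset.univ.erase s, ((x t).2 : A)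
  have hW : (fun s => algebraMap A (Localization.AtPrime m) (W s)) = (algebraMap A (Localization.AtPrime m) D) • w' := funext fun s => by
    rw [Pi.smul_apply, smul_eq_mul, show D = (x s).2 * ∏ t ∈ Finset.univ.erase s, ((x t).2 : A) from
      (Finset.mul_prod_erase _ _ (Finset.mem_univ s)).symm, map_mul, map_mul, ← hx s]
    ring
  have hi : ∀ i, algebraMap A (Localization.AtPrime m) (T W i) = algebraMap A _ (D * c i) := fun i => by
    rw [← hT, hW, map_smul, Pi.smul_apply, heq, smul_eq_mul, map_mul]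
  choose t ht using fun i => IsLocalization.exists_of_eq (M := m.primeCompl) (hi i)
  refine ⟨(∏ i, (t i : A)) • W, fun s => Ideal.mul_mem_left _ _ (Ideal.mul_mem_right _ _ (x s).1.2),
    (∏ i, (t i : A)) * D, fun h => ?_, fun i => ?_⟩
  · have h1 : (∏ i, (t i : A)) ∈ m.primeCompl := prod_mem fun i _ => (t i).2
    have h2 : D ∈ m.primeCompl := prod_mem fun s _ => (x s).2.2
    exact (mul_mem h1 h2 : _ ∈ m.primeCompl) h
  · rw [map_smul, Pi.smul_apply, smul_eq_mul, ← Finset.mul_prod_erase _ _ (Finset.mem_univ i)]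
    linear_combination (∏ j ∈ Finset.univ.erase i, (t j : A)) * ht i

/-- Solvability with values in an ideal is local at maximal ideals. -/
theorem exists_of_local {σ ι : Type*} (I : Ideal A) (T : (σ → A) →ₗ[A] (ι → A)) (c : ι → A)
    (h : ∀ (m : Ideal A) [m.IsMaximal], ∃ w : σ → A, (∀ s, w s ∈ I) ∧ ∃ t ∉ m, ∀ i, T w i = t * c i) :
    ∃ w : σ → A, (∀ s, w s ∈ I) ∧ T w = c := by
  let J : Submodule A (ι → A) := Submodule.map T (Submodule.pi Set.univ fun _ : σ => I)
  let K : Ideal A := Submodule.comap (LinearMap.toSpanSingleton A (ι → A) c) J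
  have hK : K = ⊤ := by
    by_contra hne
    obtain ⟨m, hm, hKm⟩ := Ideal.exists_le_maximal _ hne
    obtain ⟨w, hw, t, ht, heq⟩ := @h m hm
    refine ht (hKm ⟨w, fun s _ => hw s, funext fun i => ?_⟩)
    rw [heq, LinearMap.toSpanSingleton_apply, Pi.smul_apply, smul_eq_mul]
  have h1 : (1 : A) ∈ K := hK ▸ Submodule.mem_top
  obtain ⟨w, hw, heq⟩ := h1
  refine ⟨w, fun s => hw s (Set.mem_univ _), heq.trans ?_⟩
  rw [LinearMap.toSpanSingleton_apply, one_smul]

variable {k : ℕ}

theorem compCoeffs_sub_mem {n : ℕ} {I : Ideal A} {a a' : Sym2 (Fin n) → A} (ha : ∀ s, a' s - a s ∈ I)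
    (G : Matrix (Fin n) (Fin n) A) (s : Sym2 (Fin n)) : compCoeffs a' G s - compCoeffs a G s ∈ I := by
  rw [← Ideal.Quotient.eq, compCoeffs_map, compCoeffs_map]
  congr 2
  funext t
  exact Ideal.Quotient.eq.mpr (ha t)

/-- The solution when the basis is adapted. -/
theorem exists_adapted (hk : Even k) {I : Ideal A} (hI : I ^ 2 = ⊥) {a a' : Sym2 (Fin (k + 1)) → A}
    (ha : ∀ s, a' s - a s ∈ I) {τ : A} (hτ : τ ∈ I) (horth : ∀ j : Fin k, a s(0, j.succ) = 0)
    (hG : IsUnit (minorMat a).det)
    (hh : (1 + τ) ^ 2 * MvPolynomial.eval₂ (Int.castRingHom A) a' (QuadGrp.halfDiscUniv (k + 1)) =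
      MvPolynomial.eval₂ (Int.castRingHom A) a (QuadGrp.halfDiscUniv (k + 1))) :
    ∃ W : Matrix (Fin (k + 1)) (Fin (k + 1)) A, (∀ i j, W i j ∈ I) ∧ compCoeffs a' (1 + W) = a ∧ W.trace = τ := by
  classical
  set c := a - a' with hc
  have hcI : ∀ s, c s ∈ I := fun s => by rw [hc, Pi.sub_apply, ← neg_sub]; exact neg_mem (ha s)
  let L : Matrix (Fin k) (Fin (k + 1)) A := Matrix.of fun i j =>
    if i.succ ≤ j ∨ j = 0 then c s(i.succ, j) else 0
  have hL : ∀ i j, L i j ∈ I := fun i j => by
    simp only [L, Matrix.of_apply]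
    split_ifs
    · exact hcI _
    · exact zero_mem I
  let V : Matrix (Fin k) (Fin (k + 1)) A := (minorMat a)⁻¹ * L
  have hV : ∀ i j, V i j ∈ I := fun i j => by
    show ((minorMat a)⁻¹ * L) i j ∈ I
    rw [Matrix.mul_apply]; exact Ideal.sum_mem _ fun l _ => Ideal.mul_mem_left _ _ (hL l j)
  let t0 : A := τ - ∑ i : Fin k, V i i.succ
  let W : Matrix (Fin (k + 1)) (Fin (k + 1)) A :=
    Matrix.of fun i j => Fin.cases (if j = 0 then t0 else 0) (fun l => V l j) i
  have hW : ∀ i j, W i j ∈ I := fun i j => by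
    refine Fin.cases ?_ (fun i => ?_) i
    · simp only [W, Matrix.of_apply, Fin.cases_zero]
      split_ifs
      · exact sub_mem hτ (Ideal.sum_mem _ fun l _ => hV _ _)
      · exact zero_mem I
    · simp only [W, Matrix.of_apply, Fin.cases_succ]
      exact hV i j
  have htr : W.trace = τ := by
    rw [Matrix.trace, Fin.sum_univ_succ]
    simp [W, t0]
  refine ⟨W, hW, ?_, htr⟩
  have hrow : ∀ (i : Fin k) j, (Pm a * W) i.succ j = L i j := fun i j => by
    rw [Matrix.mul_apply, Fin.sum_univ_succ]
    have h0 : Pm a i.succ 0 = 0 := by rw [Pm_apply, if_neg (Fin.succ_ne_zero i), Sym2.eq_swap, horth]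
    rw [h0, zero_mul, zero_add]
    have : ((minorMat a) * V) i j = L i j := by rw [← Matrix.mul_assoc, Matrix.mul_nonsing_inv _ hG, Matrix.one_mul]
    rw [← this, Matrix.mul_apply]
    refine Finset.sum_congr rfl fun l _ => ?_
    simp only [W, Matrix.of_apply, Fin.cases_succ, Pm_apply, minorMat, Fin.succ_inj]
  have hrow0 : ∀ j : Fin k, (Pm a * W) 0 j.succ = 0 := fun j => by
    rw [Matrix.mul_apply, Fin.sum_univ_succ]
    rw [Finset.sum_eq_zero fun l _ => by rw [Pm_apply, if_neg (Fin.succ_ne_zero l).symm, horth, zero_mul]]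
    simp [W, Fin.succ_ne_zero]
  have hdq : ∀ i : Fin k, ∀ j, dq a W s(i.succ, j) = c s(i.succ, j) := fun i j => by
    rw [dq_mk]
    refine Fin.cases ?_ (fun j => ?_) j
    · rw [if_neg (Fin.succ_ne_zero i), hrow, hrow0]
      simp [L]
    · rw [hrow, hrow, hrow]
      simp only [L, Matrix.of_apply, Fin.succ_le_succ_iff, Fin.succ_ne_zero, or_false, le_refl, if_true, Fin.succ_inj]
      rcases lt_trichotomy i j with h | h | h
      · rw [if_neg h.ne, if_pos h.le, if_neg (not_le.mpr h), add_zero]
      · subst h; rw [if_pos rfl]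
      · rw [if_neg h.ne', if_neg (not_le.mpr h), if_pos h.le, zero_add, Sym2.eq_swap]
  have hexp := compCoeffs_one_add hI ha hW
  have hne : ∀ s, s ≠ s(0, 0) → compCoeffs a' (1 + W) s = a s := by
    intro s hs
    rw [hexp, Pi.add_apply]
    induction s using Sym2.ind with
    | h i j =>
      revert hs
      refine Fin.cases ?_ (fun i => ?_) i
      · refine Fin.cases ?_ (fun j => ?_) j
        · exact fun h => absurd rfl h
        · intro _
          rw [show s((0 : Fin (k + 1)), j.succ) = s(j.succ, 0) from Sym2.eq_swap, hdq, hc, Pi.sub_apply]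
          ring
      · intro _
        rw [hdq, hc, Pi.sub_apply]
        ring
  have hmin : minorMat (compCoeffs a' (1 + W)) = minorMat a := by
    ext i j
    simp only [minorMat, Matrix.of_apply]
    rw [hne _ (by simp [Fin.succ_ne_zero]), hne _ (by simp [Fin.succ_ne_zero])]
  have ho : ∀ j : Fin k, compCoeffs a' (1 + W) s(0, j.succ) = 0 := fun j => by
    rw [hne _ (by simp [Fin.succ_ne_zero]), horth]
  have h00 := halfDisc_block hk _ ho
  rw [halfDisc_qf_comp hk.add_one, det_one_add hI hW, htr, hh, halfDisc_block hk a horth, hmin] at h00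
  funext s
  by_cases hs : s = s(0, 0)
  · subst hs; exact (hG.mul_left_injective h00).symm
  · exact hne s hs

/-- The solution over a local ring. -/
theorem exists_local [IsLocalRing A] (hk : Even k) {I : Ideal A} (hI : I ^ 2 = ⊥) {a a' : Sym2 (Fin (k + 1)) → A}
    (ha : ∀ s, a' s - a s ∈ I) {τ : A} (hτ : τ ∈ I)
    (hu : IsUnit (MvPolynomial.eval₂ (Int.castRingHom A) a (QuadGrp.halfDiscUniv (k + 1))))
    (hh : (1 + τ) ^ 2 * MvPolynomial.eval₂ (Int.castRingHom A) a' (QuadGrp.halfDiscUniv (k + 1)) =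
      MvPolynomial.eval₂ (Int.castRingHom A) a (QuadGrp.halfDiscUniv (k + 1))) :
    ∃ W : Matrix (Fin (k + 1)) (Fin (k + 1)) A, (∀ i j, W i j ∈ I) ∧ compCoeffs a' (1 + W) = a ∧ W.trace = τ := by
  classical
  obtain ⟨b', ho, -, hdet⟩ := exists_orth_basis hk (Pi.basisFun A (Fin (k + 1))) (qf a)
    (by rw [QuadGrp.IsSemiregular, QuadGrp.halfDisc, coeffs_qf]; exact hu)
  set G := (Pi.basisFun A (Fin (k + 1))).toMatrix b' with hGdef
  have hGu : IsUnit G.det := by
    haveI := (Pi.basisFun A (Fin (k + 1))).invertibleToMatrix b'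
    exact Matrix.isUnit_det_of_invertible G
  have hcol : ∀ i, Matrix.toLin' G (Pi.single i 1) = b' i := fun i => by
    funext l; simp [hGdef, Module.Basis.toMatrix_apply, Matrix.mulVec_single_one]
  have hco : compCoeffs a G = QuadGrp.coeffs b' (LinearEquiv.refl A A) (qf a) := by
    funext s
    induction s using Sym2.ind with
    | h i j =>
      simp only [compCoeffs, QuadGrp.coeffs_mk, Pi.basisFun_apply, LinearEquiv.refl_apply]
      split_ifs with h
      · rw [QuadraticMap.comp_apply, hcol]
      · simp only [QuadraticMap.polar, QuadraticMap.comp_apply, map_add, hcol]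
  have hmm : minorMat (compCoeffs a G) = restGram b' (qf a) := by rw [hco]; exact minorMat_coeffs b' (qf a)
  obtain ⟨W, hW, hc, ht⟩ := exists_adapted hk hI (fun s => compCoeffs_sub_mem ha G s) hτ
    (fun j => by rw [hco, QuadGrp.coeffs_mk, if_neg (Fin.succ_ne_zero j).symm]; exact ho j)
    (by rw [hmm]; exact hdet)
    (by rw [halfDisc_qf_comp hk.add_one, halfDisc_qf_comp hk.add_one, ← hh]; ring)
  refine ⟨G * W * G⁻¹, fun i j => ?_, ?_, ?_⟩
  · rw [Matrix.mul_apply]
    refine Ideal.sum_mem _ fun l _ => Ideal.mul_mem_right _ _ ?_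
    rw [Matrix.mul_apply]
    exact Ideal.sum_mem _ fun r _ => Ideal.mul_mem_left _ _ (hW r l)
  · have : 1 + G * W * G⁻¹ = G * (1 + W) * G⁻¹ := by
      rw [Matrix.mul_add, Matrix.add_mul, Matrix.mul_one, Matrix.mul_nonsing_inv _ hGu]
    rw [this, ← compCoeffs_comp, ← compCoeffs_comp, hc, compCoeffs_comp, Matrix.mul_nonsing_inv _ hGu, compCoeffs_one]
  · rw [Matrix.trace_mul_cycle, Matrix.nonsing_inv_mul _ hGu, Matrix.one_mul, ht]

/-- Lifting of points of `SO'` in odd rank. -/
theorem exists_lift_sorth (hk : Even k) {I : Ideal A} (hI : I ^ 2 = ⊥) {a : Sym2 (Fin (k + 1)) → A}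
    (hu : IsUnit (MvPolynomial.eval₂ (Int.castRingHom A) a (QuadGrp.halfDiscUniv (k + 1))))
    {X : Matrix (Fin (k + 1)) (Fin (k + 1)) A} (hX : ∀ s, compCoeffs a X s - a s ∈ I) (hdet : X.det - 1 ∈ I) :
    ∃ W : Matrix (Fin (k + 1)) (Fin (k + 1)) A, (∀ i j, W i j ∈ I) ∧ compCoeffs a (X * (1 + W)) = a ∧
      (X * (1 + W)).det = 1 := by
  classical
  set a' := compCoeffs a X with ha'
  have hτ : 1 - X.det ∈ I := by rw [← neg_sub]; exact neg_mem hdet
  have hsq : (1 - X.det) * (1 - X.det) = 0 := mul_eq_zero_of_mem hI hτ hτ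
  have hh : (1 + (1 - X.det)) ^ 2 * MvPolynomial.eval₂ (Int.castRingHom A) a' (QuadGrp.halfDiscUniv (k + 1)) =
      MvPolynomial.eval₂ (Int.castRingHom A) a (QuadGrp.halfDiscUniv (k + 1)) := by
    rw [ha', halfDisc_qf_comp hk.add_one]
    linear_combination ((1 - X.det) * (1 - X.det) - 2) *
      MvPolynomial.eval₂ (Int.castRingHom A) a (QuadGrp.halfDiscUniv (k + 1)) * hsq
  let T : (Fin (k + 1) × Fin (k + 1) → A) →ₗ[A] (Sym2 (Fin (k + 1)) ⊕ Unit → A) :=
    { toFun := fun w => Sum.elim (dq a (Matrix.of fun i j => w (i, j))) (fun _ => (Matrix.of fun i j => w (i, j)).trace)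
      map_add' := fun w v => funext fun i => by
        cases i with
        | inl s => exact congrFun ((dq a).map_add (Matrix.of fun i j => w (i, j)) (Matrix.of fun i j => v (i, j))) s
        | inr _ => exact Matrix.trace_add (Matrix.of fun i j => w (i, j)) (Matrix.of fun i j => v (i, j))
      map_smul' := fun r w => funext fun i => by
        cases i with
        | inl s => exact congrFun ((dq a).map_smul r (Matrix.of fun i j => w (i, j))) s
        | inr _ => exact Matrix.trace_smul r (Matrix.of fun i j => w (i, j)) }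
  obtain ⟨w, hw, heq⟩ := exists_of_local I T (Sum.elim (a - a') fun _ => 1 - X.det) fun m hm => by
    haveI := hm
    let φ := algebraMap A (Localization.AtPrime m)
    let T' : (Fin (k + 1) × Fin (k + 1) → Localization.AtPrime m) →ₗ[Localization.AtPrime m]
        (Sym2 (Fin (k + 1)) ⊕ Unit → Localization.AtPrime m) :=
      { toFun := fun w => Sum.elim (dq (fun s => φ (a s)) (Matrix.of fun i j => w (i, j)))
          (fun _ => (Matrix.of fun i j => w (i, j)).trace)
        map_add' := fun w v => funext fun i => by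
          cases i with
          | inl s => exact congrFun ((dq fun s => φ (a s)).map_add (Matrix.of fun i j => w (i, j))
              (Matrix.of fun i j => v (i, j))) s
          | inr _ => exact Matrix.trace_add (Matrix.of fun i j => w (i, j)) (Matrix.of fun i j => v (i, j))
        map_smul' := fun r w => funext fun i => by
          cases i with
          | inl s => exact congrFun ((dq fun s => φ (a s)).map_smul r (Matrix.of fun i j => w (i, j))) s
          | inr _ => exact Matrix.trace_smul r (Matrix.of fun i j => w (i, j)) }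
    have hI' : I.map φ ^ 2 = ⊥ := by rw [← Ideal.map_pow, hI, Ideal.map_bot]
    have ha2 : ∀ s, φ (a' s) - φ (a s) ∈ I.map φ := fun s => by
      rw [← map_sub]; exact Ideal.mem_map_of_mem φ (hX s)
    obtain ⟨W, hW, hc, ht⟩ := exists_local hk hI' (a := fun s => φ (a s)) (a' := fun s => φ (a' s)) ha2
      (τ := φ (1 - X.det)) (Ideal.mem_map_of_mem φ hτ)
      (by rw [← eval_halfDiscUniv_map]; exact hu.map φ)
      (by rw [← eval_halfDiscUniv_map, ← eval_halfDiscUniv_map, ← hh, map_mul, map_pow, map_add, map_one])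
    refine exists_denom I T _ m T' (fun w i => ?_) (fun p => W p.1 p.2) (fun p => hW _ _) fun i => ?_
    · cases i with
      | inl s => exact (dq_map φ a (Matrix.of fun i j => w (i, j)) s).symm
      | inr _ =>
        change (Matrix.of fun i j => φ (w (i, j))).trace = φ ((Matrix.of fun i j => w (i, j)).trace)
        simp [Matrix.trace, map_sum]
    · cases i with
      | inl s =>
        change dq (fun s => φ (a s)) W s = φ ((a - a') s)
        rw [compCoeffs_one_add hI' ha2 hW] at hc
        rw [Pi.sub_apply, map_sub, eq_sub_iff_add_eq, add_comm]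
        exact congrFun hc s
      | inr _ => exact ht
  set W : Matrix (Fin (k + 1)) (Fin (k + 1)) A := Matrix.of fun i j => w (i, j) with hWdef
  have hdq : dq a W = a - a' := funext fun s => congrFun heq (Sum.inl s)
  have htr : W.trace = 1 - X.det := congrFun heq (Sum.inr ())
  refine ⟨W, fun i j => hw (i, j), ?_, ?_⟩
  · rw [← compCoeffs_comp, compCoeffs_one_add (W := W) hI hX (fun i j => hw (i, j)), hdq, add_sub_cancel]
  · rw [Matrix.det_mul, det_one_add (W := W) hI (fun i j => hw (i, j)), htr]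
    linear_combination -hsq

end Groth.Agent.Quad37
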