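import Groth.Agent.Quad37.OddBasis
import Groth.Agent.Quad37.Planes

set_option autoImplicit false

universe u v

namespace Groth.Agent.Quad37

open CliffordAlgebra

variable {R : Type u} [CommRing R] {M : Type v} [AddCommGroup M] [Module R M]

theorem contractLeft_mem_parity {Q : QuadraticForm R M} (d : Module.Dual R M) {i : ZMod 2} {x : CliffordAlgebra Q}
    (hx : x ∈ evenOdd Q i) : contractLeft d x ∈ evenOdd Q (i + 1) := by
  induction x, hx using evenOdd_induction with
  | range_ι_pow z hz =>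
    fin_cases i
    · obtain ⟨r, rfl⟩ := Submodule.mem_one.mp (show z ∈ (1 : Submodule R (CliffordAlgebra Q)) by
        rw [← pow_zero (LinearMap.range (ι Q))]; exact hz)
      simp
    · obtain ⟨w, rfl⟩ := (show z ∈ LinearMap.range (ι Q) by
        rw [← pow_one (LinearMap.range (ι Q))]; exact hz)
      simp only [contractLeft_ι]
      exact algebraMap_mem_even _
  | add z w _ _ hz hw => rw [map_add]; exact add_mem hz hw
  | ι_mul_ι_mul w w' z hzm hz =>
    rw [mul_assoc, contractLeft_ι_mul, contractLeft_ι_mul]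
    refine sub_mem (Submodule.smul_mem _ _ (mul_mem_parity (ι_mem_evenOdd_one Q w') hzm (add_comm _ _))) ?_
    exact mul_mem_parity (ι_mem_evenOdd_one Q w) (sub_mem (Submodule.smul_mem _ _ hzm)
      (mul_mem_parity (ι_mem_evenOdd_one Q w') hz
        (show 1 + (i + 1) = i by rw [add_left_comm]; exact add_eq_left.mpr rfl))) (add_comm _ _)

/-- An orthogonal decomposition of an odd-rank form: a vector with unit value and planes. -/
structure OddSplit (Q : QuadraticForm R M) (m : ℕ) where
  bas : Module.Basis (Fin (2 * m + 1)) R M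
  orth : ∀ j : Fin (2 * m), QuadraticMap.polar Q (bas 0) (bas j.succ) = 0
  unit : IsUnit (Q (bas 0))
  gram : IsUnit (restGram bas Q).det
  P : PlaneFam Q m
  plane_mem : ∀ k : Fin m, P.e k ∈ Submodule.span R (Set.range fun j : Fin (2 * m) => bas j.succ) ∧
    P.f k ∈ Submodule.span R (Set.range fun j : Fin (2 * m) => bas j.succ)
  rest_mem : ∀ j : Fin (2 * m), bas j.succ ∈ Submodule.span R (Set.range P.e ∪ Set.range P.f)
  plane_orth : ∀ k : Fin m, QuadraticMap.polar Q (bas 0) (P.e k) = 0 ∧ QuadraticMap.polar Q (bas 0) (P.f k) = 0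

/-- The embedding of the rest of a basis. -/
noncomputable def restIncl {k : ℕ} (b : Module.Basis (Fin (k + 1)) R M) : (Fin k → R) →ₗ[R] M :=
  Fintype.linearCombination R fun j : Fin k => b j.succ

theorem restIncl_single {k : ℕ} (b : Module.Basis (Fin (k + 1)) R M) (j : Fin k) :
    restIncl b (Pi.single j 1) = b j.succ := by
  rw [restIncl, Fintype.linearCombination_apply_single, one_smul]

theorem isRegular_rest {k : ℕ} (b : Module.Basis (Fin (k + 1)) R M) (Q : QuadraticForm R M)
    (h : IsUnit (restGram b Q).det) : QuadGrp.IsRegular (Q.comp (restIncl b)) := by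
  classical
  let B := Pi.basisFun R (Fin k)
  have hm : LinearMap.toMatrix B B.dualBasis (Q.comp (restIncl b)).polarBilin = (restGram b Q).transpose := by
    ext i j
    rw [LinearMap.toMatrix_apply, Module.Basis.dualBasis_repr, Matrix.transpose_apply, restGram, Matrix.of_apply,
      QuadraticMap.polarBilin_apply_apply]
    simp only [QuadraticMap.polar, QuadraticMap.comp_apply, map_add, B, Pi.basisFun_apply, restIncl_single]
  exact (LinearEquiv.ofIsUnitDet (f := (Q.comp (restIncl b)).polarBilin) (v := B) (v' := B.dualBasis)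
    (by rwa [hm, Matrix.det_transpose])).bijective

theorem exists_oddSplit [IsLocalRing R] {m : ℕ} (b : Module.Basis (Fin (2 * m + 1)) R M) (Q : QuadraticForm R M)
    (hQ : QuadGrp.IsSemiregular b (LinearEquiv.refl R R) Q) : Nonempty (OddSplit Q m) := by
  obtain ⟨b', ho, hu, hg⟩ := exists_orth_basis (even_two_mul m) b Q hQ
  obtain ⟨P, hP⟩ := exists_planeFam m (Pi.basisFun R (Fin (2 * m))) (Q.comp (restIncl b')) (isRegular_rest b' Q hg)
  have hpol : ∀ x y, QuadraticMap.polar (Q.comp (restIncl b')) x y =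
      QuadraticMap.polar Q (restIncl b' x) (restIncl b' y) := fun x y => by simp [QuadraticMap.polar]
  let P' : PlaneFam Q m := ⟨fun k => restIncl b' (P.e k), fun k => restIncl b' (P.f k),
    fun k => by rw [← hpol]; exact P.ef k, fun k => P.unit k,
    fun k l hkl => by rw [← hpol, ← hpol, ← hpol]; exact P.orth k l hkl⟩
  have hmem : ∀ x, restIncl b' x ∈ Submodule.span R (Set.range fun j : Fin (2 * m) => b' j.succ) := fun x => by
    rw [restIncl, Fintype.linearCombination_apply]
    exact Submodule.sum_mem _ fun j _ => Submodule.smul_mem _ _ (Submodule.subset_span ⟨j, rfl⟩)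
  refine ⟨⟨b', ho, hu, hg, P', fun k => ⟨hmem _, hmem _⟩, fun j => ?_, fun k => ?_⟩⟩
  · have := Submodule.mem_map_of_mem (f := restIncl b') (hP ▸ Submodule.mem_top : (Pi.single j 1 : Fin (2 * m) → R) ∈ Submodule.span R _)
    rw [Submodule.map_span, Set.image_union, ← Set.range_comp, ← Set.range_comp, restIncl_single] at this
    exact this
  · have h0 : ∀ x, QuadraticMap.polar Q (b' 0) (restIncl b' x) = 0 := fun x => by
      rw [restIncl, Fintype.linearCombination_apply, ← QuadraticMap.polarBilin_apply_apply, map_sum]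
      exact Finset.sum_eq_zero fun j _ => by rw [map_smul, QuadraticMap.polarBilin_apply_apply, ho, smul_zero]
    exact ⟨h0 _, h0 _⟩

variable {Q : QuadraticForm R M} {m : ℕ} (D : OddSplit Q m)

/-- The central odd element. -/
noncomputable def OddSplit.ζ : CliffordAlgebra Q := D.P.w * ι Q (D.bas 0)

theorem OddSplit.ζ_mem : D.ζ ∈ evenOdd Q 1 := mul_mem_parity D.P.w_mem (ι_mem_evenOdd_one Q _) (zero_add _)

theorem OddSplit.v0_w : ι Q (D.bas 0) * D.P.w = D.P.w * ι Q (D.bas 0) :=
  D.P.w_comm fun k => D.plane_orth k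

theorem OddSplit.ζ_comm (v : M) : ι Q v * D.ζ = D.ζ * ι Q v := by
  rw [← D.bas.sum_repr v, map_sum, Finset.sum_mul, Finset.mul_sum]
  refine Finset.sum_congr rfl fun i _ => ?_
  rw [map_smul, smul_mul_assoc, mul_smul_comm]
  congr 1
  rcases Fin.eq_zero_or_eq_succ i with rfl | ⟨j, rfl⟩
  · rw [OddSplit.ζ, ← mul_assoc, D.v0_w, mul_assoc]
  · rw [OddSplit.ζ, ← mul_assoc, D.P.w_anti (D.rest_mem j), neg_mul, mul_assoc, mul_assoc, ι_mul_ι_comm,
      show QuadraticMap.polar Q (D.bas j.succ) (D.bas 0) = 0 by rw [QuadraticMap.polar_comm, D.orth],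
      map_zero, zero_sub, mul_neg, neg_neg]

theorem OddSplit.ζ_center : D.ζ ∈ Subalgebra.center R (CliffordAlgebra Q) := by
  rw [Subalgebra.mem_center_iff]
  intro y
  induction y using CliffordAlgebra.induction with
  | algebraMap r => exact Algebra.commutes r _
  | ι v => exact D.ζ_comm v
  | mul x y hx hy => rw [mul_assoc, hy, ← mul_assoc, hx, mul_assoc]
  | add x y hx hy => rw [add_mul, mul_add, hx, hy]

/-- The square of the central element. -/
noncomputable def OddSplit.ζ2 : R := D.P.w2 * Q (D.bas 0)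

theorem OddSplit.ζ2_isUnit : IsUnit D.ζ2 := D.P.w2_isUnit.mul D.unit

theorem OddSplit.ζ_sq : D.ζ * D.ζ = algebraMap R _ D.ζ2 := by
  rw [OddSplit.ζ, mul_assoc, ← mul_assoc (ι Q (D.bas 0)), D.v0_w, mul_assoc, ι_sq_scalar, ← mul_assoc, D.P.w_sq,
    ← map_mul]
  rfl

theorem OddSplit.star_ζ : star D.ζ = ((-1 : R) ^ (m + 1)) • D.ζ := by
  rw [OddSplit.ζ, star_mul, CliffordAlgebra.star_ι, D.P.star_w, mul_smul_comm, neg_mul, D.v0_w, pow_succ,
    mul_neg_one, neg_smul, smul_neg]

/-- The unit given by the central element. -/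
noncomputable def OddSplit.ζUnit : (CliffordAlgebra Q)ˣ where
  val := D.ζ
  inv := (↑(D.ζ2_isUnit.unit⁻¹) : R) • D.ζ
  val_inv := by rw [mul_smul_comm, D.ζ_sq, ← scalar_mul_eq, ← map_mul, IsUnit.val_inv_mul, map_one]
  inv_val := by rw [smul_mul_assoc, D.ζ_sq, ← scalar_mul_eq, ← map_mul, IsUnit.val_inv_mul, map_one]

include D in
/-- An even element commuting with the vectors is a scalar. -/
theorem OddSplit.even_comm_eq_scal {z : CliffordAlgebra Q} (hz : z ∈ evenOdd Q 0)
    (hc : ∀ v, ι Q v * z = z * ι Q v) : z = algebraMap R _ (scal Q D.bas z) := by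
  classical
  have h0 : ∀ v, contractLeft (Q.polarBilin v) z = 0 := fun v => by
    rw [← supercomm_eq, involute_eq_of_mem_even hz, hc, sub_self]
  have hco : ∀ j : Fin (2 * m), aC Q D.bas j.succ z = 0 := by
    intro j
    have hG := D.gram
    haveI := (restGram D.bas Q).invertibleOfIsUnitDet hG
    have e : D.bas.coord j.succ = ∑ i, (⅟(restGram D.bas Q)) j i • Q.polarBilin (D.bas i.succ) := by
      refine D.bas.ext fun l => ?_
      rw [LinearMap.sum_apply]
      simp only [LinearMap.smul_apply, QuadraticMap.polarBilin_apply_apply, smul_eq_mul, D.bas.coord_apply,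
        D.bas.repr_self]
      rcases Fin.eq_zero_or_eq_succ l with rfl | ⟨l, rfl⟩
      · rw [Finsupp.single_eq_of_ne (Fin.succ_ne_zero j)]
        exact (Finset.sum_eq_zero fun i _ => by rw [QuadraticMap.polar_comm, D.orth, mul_zero]).symm
      · have := congrFun (congrFun (invOf_mul_self (restGram D.bas Q)) j) l
        rw [Matrix.mul_apply, Matrix.one_apply] at this
        refine Eq.trans ?_ this.symm
        simp [Finsupp.single_apply, eq_comm]
    show contractLeft (D.bas.coord j.succ) z = 0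
    rw [e, map_sum, LinearMap.sum_apply]
    exact Finset.sum_eq_zero fun i _ => by rw [map_smul, LinearMap.smul_apply, h0, smul_zero]
  have hy1 : aC Q D.bas 0 z ∈ evenOdd Q 1 := by
    have := contractLeft_mem_parity (D.bas.coord 0) hz
    rwa [zero_add] at this
  have hy : aC Q D.bas 0 z = 0 := by
    have hcar := isCAR_C Q D.bas
    have hk : ∀ i, aC Q D.bas i (aC Q D.bas 0 z) = 0 := fun i => by
      rcases Fin.eq_zero_or_eq_succ i with rfl | ⟨j, rfl⟩
      · exact hcar.sq 0 z
      · rw [hcar.anti, hco, map_zero, neg_zero]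
    have he := eq_scal_of_ker Q D.bas hk
    rw [he] at hy1 ⊢
    rw [scalar_odd_eq_zero D.bas hy1, map_zero]
  refine eq_scal_of_ker Q D.bas fun i => ?_
  rcases Fin.eq_zero_or_eq_succ i with rfl | ⟨j, rfl⟩
  · exact hy
  · exact hco j

theorem OddSplit.odd_central {z : CliffordAlgebra Q} (hz : z ∈ evenOdd Q 1)
    (hc : ∀ v, ι Q v * z = z * ι Q v) : ∃ s : R, z = s • D.ζ := by
  have h := D.even_comm_eq_scal (z := D.ζ * z) (mul_mem_parity D.ζ_mem hz rfl) fun v => by
    rw [← mul_assoc, D.ζ_comm, mul_assoc, hc, ← mul_assoc]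
  refine ⟨(↑(D.ζ2_isUnit.unit⁻¹) : R) * scal Q D.bas (D.ζ * z), ?_⟩
  calc z = (↑(D.ζ2_isUnit.unit⁻¹) : R) • (D.ζ * (D.ζ * z)) := by
        rw [← mul_assoc, D.ζ_sq, ← scalar_mul_eq, ← mul_assoc, ← map_mul, IsUnit.val_inv_mul, map_one, one_mul]
    _ = _ := by rw [h, mul_scalar_eq, smul_smul, ← h]

include D in
theorem OddSplit.star_odd_central {z : CliffordAlgebra Q} (hz : z ∈ evenOdd Q 1)
    (hc : ∀ v, ι Q v * z = z * ι Q v) : star z = ((-1 : R) ^ (m + 1)) • z := by
  obtain ⟨s, rfl⟩ := D.odd_central hz hc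
  rw [CliffordAlgebra.star_smul, D.star_ζ, smul_comm]

end Groth.Agent.Quad37
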