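import Groth.Agent.Quad37.OrthScheme
import Mathlib.RingTheory.Polynomial.Quotient
import Mathlib.Algebra.Polynomial.CoeffList

/-! `O` is not smooth in odd rank when `2` is not invertible. -/

set_option autoImplicit false

universe u

open CategoryTheory AlgebraicGeometry

namespace Groth.Agent.Quad37

open Matrix

theorem compCoeffs_smul_one {A : Type u} [CommRing A] {n : ℕ} (a : Sym2 (Fin n) → A) (c : A) :
    compCoeffs a (c • (1 : Matrix (Fin n) (Fin n) A)) = (c * c) • a := by
  have h : (qf a).comp (Matrix.toLin' (c • (1 : Matrix (Fin n) (Fin n) A))) = (c * c) • qf a :=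
    QuadraticMap.ext fun x => by
      simp [QuadraticMap.map_smul]
  rw [compCoeffs, h]
  funext s
  induction s using Sym2.ind with
  | h i j =>
    simp only [Pi.smul_apply, QuadGrp.coeffs_mk, Pi.basisFun_apply, LinearEquiv.refl_apply, QuadraticMap.polar,
      QuadraticMap.smul_apply, smul_eq_mul]
    split_ifs with hij
    · subst hij; rw [qf_single]
    · rw [← qf_polar_single a hij, QuadraticMap.polar]; ring

variable {R : Type u} [CommRing R] {M : Type u} [AddCommGroup M] [Module R M] [Module.Free R M] {n : ℕ}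
  (b : Module.Basis (Fin n) R M) (Q : QuadraticForm R M) {G : Over (Spec (CommRingCat.of R))} [GrpObj G]

theorem not_smooth_orth_of (D : QuadGrp.OrthRep Q G) (hn : Odd n)
    (hQ : QuadGrp.IsSemiregular b (LinearEquiv.refl R R) Q) (hG : AlgebraicGeometry.Smooth G.hom)
    (B : Type u) [CommRing B] [Algebra R B] (t : B) (ht3 : t ^ 3 = 0) (ht2 : t ^ 2 ≠ 0) (two : (2 : B) = 0) : False := by
  let I : Ideal B := Ideal.span {t ^ 2}
  have hI : I ^ 2 = ⊥ := by
    rw [Ideal.span_singleton_pow, Ideal.span_singleton_eq_bot]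
    linear_combination t * ht3
  let y : Coord n → B := coordOf ((1 + t) • (1 : Matrix (Fin n) (Fin n) B)) ((1 + t) • 1)
  have hsq : (1 + t) * (1 + t) = 1 + t ^ 2 := by linear_combination t * two
  have htI : t ^ 2 ∈ I := Ideal.mem_span_singleton_self _
  have hX : matX y = (1 + t) • (1 : Matrix (Fin n) (Fin n) B) := rfl
  have hY : matY y = (1 + t) • (1 : Matrix (Fin n) (Fin n) B) := rfl
  have hXY : ∀ i j, (matX y * matY y - 1) i j ∈ I := fun i j => by
    rw [hX, hY, Matrix.smul_mul, Matrix.mul_smul, smul_smul, Matrix.mul_one, hsq, add_smul, one_smul, add_sub_cancel_left, Matrix.smul_apply]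
    exact Ideal.mul_mem_right _ _ htI
  have hy : ∀ i, orthF b Q B y i ∈ I := fun i => by
    rcases i with s | q | q
    · show compCoeffs (cf b Q B) (matX y) s - cf b Q B s ∈ I
      rw [hX, compCoeffs_smul_one, hsq, Pi.smul_apply, smul_eq_mul,
        show (1 + t ^ 2) * cf b Q B s - cf b Q B s = t ^ 2 * cf b Q B s by ring]
      exact Ideal.mul_mem_right _ _ htI
    · exact hXY q.1 q.2
    · exact hXY q.1 q.2
  obtain ⟨x, hx, h0⟩ := (orthPresentation b Q D).lift_of_smooth hG B I hI y hy
  obtain ⟨hc, -, -⟩ := (orthF_eq_zero_iff b Q B x).mp h0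
  have hh := isUnit_halfDisc_cf b Q B hQ
  have hdet : (matX x).det ^ 2 = 1 := hh.mul_left_injective (by
    show (matX x).det ^ 2 * _ = 1 * _
    rw [← halfDisc_qf_comp hn, hc, one_mul])
  have hmem : (matX x).det - (1 + t) ^ n ∈ I := by
    rw [show (1 + t) ^ n = (matX y).det by rw [hX, Matrix.det_smul, Matrix.det_one, mul_one, Fintype.card_fin],
      ← Ideal.Quotient.eq, RingHom.map_det, RingHom.map_det]
    congr 1
    ext i j
    exact Ideal.Quotient.eq.mpr (hx (Sum.inl (i, j)))
  have hpow : ∀ k : ℕ, (1 + t ^ 2) ^ k = 1 + (k : B) * t ^ 2 := fun k => by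
    induction k with
    | zero => simp
    | succ k ih =>
      rw [pow_succ, ih, Nat.cast_succ]
      linear_combination (k : B) * t * ht3
  obtain ⟨k, hk⟩ := hn
  have hcast : (n : B) = 1 := by
    rw [hk, Nat.cast_add, Nat.cast_mul, Nat.cast_ofNat, two, zero_mul, zero_add, Nat.cast_one]
  set i := (matX x).det - (1 + t) ^ n with hi
  have hpn : ((1 + t) ^ n) ^ 2 = 1 + t ^ 2 := by
    rw [← pow_mul, mul_comm n 2, pow_mul, pow_two, hsq, hpow, hcast, one_mul]
  have hdx : (matX x).det = (1 + t) ^ n + i := by rw [hi]; ring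
  rw [hdx] at hdet
  apply ht2
  linear_combination hdet - hpn - (1 + t) ^ n * i * two - mul_eq_zero_of_mem hI hmem hmem

theorem isUnit_two_of_smooth_orth (D : QuadGrp.OrthRep Q G) (hn : Odd n)
    (hQ : QuadGrp.IsSemiregular b (LinearEquiv.refl R R) Q) (hG : AlgebraicGeometry.Smooth G.hom) : IsUnit (2 : R) := by
  by_contra h2
  obtain ⟨p, hp, h2p⟩ := exists_max_ideal_of_mem_nonunits h2
  refine not_smooth_orth_of b Q D hn hQ hG
    (Polynomial (R ⧸ p) ⧸ Ideal.span {(Polynomial.X : Polynomial (R ⧸ p)) ^ 3}) (Ideal.Quotient.mk _ Polynomial.X) ?_ ?_ ?_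
  · rw [← map_pow]; exact Ideal.Quotient.eq_zero_iff_mem.mpr (Ideal.mem_span_singleton_self _)
  · rw [← map_pow, Ne, Ideal.Quotient.eq_zero_iff_mem, Ideal.mem_span_singleton, Polynomial.X_pow_dvd_iff]
    intro h
    have h1 := h 2 (by norm_num)
    rw [Polynomial.coeff_X_pow_self] at h1
    haveI : Nontrivial (R ⧸ p) := Ideal.Quotient.nontrivial_iff.mpr hp.ne_top
    exact one_ne_zero h1
  · have h0 : algebraMap R (R ⧸ p) 2 = 0 := Ideal.Quotient.eq_zero_iff_mem.mpr h2p
    rw [← map_ofNat (algebraMap R _) 2,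
      IsScalarTower.algebraMap_apply R (R ⧸ p) (Polynomial (R ⧸ p) ⧸ Ideal.span {(Polynomial.X : Polynomial (R ⧸ p)) ^ 3}),
      h0, map_zero]

end Groth.Agent.Quad37
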