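import Groth.Agent.Quad37.AffRep
import Groth.Agent.Quad37.OddLift
import Groth.Agent.Quad37.Nondeg
import Groth.Agent.Quad37.Centraliser
import Mathlib.LinearAlgebra.Matrix.ToLin

/-! The orthogonal group schemes in coordinates. -/

set_option autoImplicit false

universe u v

open CategoryTheory AlgebraicGeometry

attribute [local instance] CategoryTheory.Hom.monoid

namespace Groth.Agent.Quad37

open Matrix
open scoped TensorProduct

section Coords

variable {R : Type u} [CommRing R] {M : Type v} [AddCommGroup M] [Module R M] {n : ℕ}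
  (b : Module.Basis (Fin n) R M) (Q : QuadraticForm R M)

theorem coeffs_comp (g : M →ₗ[R] M) :
    QuadGrp.coeffs b (LinearEquiv.refl R R) (Q.comp g) =
      compCoeffs (QuadGrp.coeffs b (LinearEquiv.refl R R) Q) (LinearMap.toMatrix b b g) := by
  have e : ∀ x, b.equivFun (g x) = Matrix.toLin' (LinearMap.toMatrix b b g) (b.equivFun x) := fun x => by
    rw [Matrix.toLin'_apply, Module.Basis.equivFun_apply, Module.Basis.equivFun_apply, LinearMap.toMatrix_mulVec_repr]
  have eb : ∀ i, b.equivFun (b i) = Pi.single i 1 := fun i => by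
    funext j; simp [Module.Basis.equivFun_self, Pi.single_apply, eq_comm]
  have hQ : ∀ x, Q (g x) = ((qf (QuadGrp.coeffs b (LinearEquiv.refl R R) Q)).comp
      (Matrix.toLin' (LinearMap.toMatrix b b g))) (b.equivFun x) := fun x => by
    conv_lhs => rw [eq_qf_comp b Q]
    rw [QuadraticMap.comp_apply, QuadraticMap.comp_apply, LinearEquiv.coe_coe, e]
  funext s
  induction s using Sym2.ind with
  | h i j =>
    simp only [compCoeffs, QuadGrp.coeffs_mk, LinearEquiv.refl_apply, Pi.basisFun_apply, QuadraticMap.polar]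
    split_ifs with h
    · exact (hQ (b i)).trans (by rw [eb])
    · have h1 : ∀ x, (Q.comp g) x = ((qf (QuadGrp.coeffs b (LinearEquiv.refl R R) Q)).comp
          (Matrix.toLin' (LinearMap.toMatrix b b g))) (b.equivFun x) := hQ
      rw [h1, h1, h1, map_add, eb, eb]

theorem eq_of_coeffs {Q' : QuadraticForm R M}
    (h : QuadGrp.coeffs b (LinearEquiv.refl R R) Q = QuadGrp.coeffs b (LinearEquiv.refl R R) Q') : Q = Q' := by
  rw [eq_qf_comp b Q, eq_qf_comp b Q', h]

theorem mem_O_iff_coeffs (g : M ≃ₗ[R] M) :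
    g ∈ QuadGrp.O Q ↔ compCoeffs (QuadGrp.coeffs b (LinearEquiv.refl R R) Q) (LinearMap.toMatrix b b g.toLinearMap) =
      QuadGrp.coeffs b (LinearEquiv.refl R R) Q := by
  rw [← coeffs_comp]
  constructor
  · intro h
    rw [show Q.comp g.toLinearMap = Q from QuadraticMap.ext h]
  · intro h x
    exact QuadraticMap.congr_fun (eq_of_coeffs b _ h) x

theorem isUnit_Pm_of_regular (h : QuadGrp.IsRegular Q) :
    IsUnit (Pm (QuadGrp.coeffs b (LinearEquiv.refl R R) Q)).det := by
  rw [← toMatrix₂_coeffs]; exact (isRegular_iff_det b Q).mp h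

theorem isUnit_Pm_of_semiregular (hn : Odd n) (h2 : IsUnit (2 : R))
    (h : QuadGrp.IsSemiregular b (LinearEquiv.refl R R) Q) :
    IsUnit (Pm (QuadGrp.coeffs b (LinearEquiv.refl R R) Q)).det := by
  rw [← toMatrix₂_coeffs, ← disc_eq_det, disc_eq_two_mul hn]; exact h2.mul h

theorem isUnit_Pm_of_nondeg (h : QuadGrp.IsNondeg b (LinearEquiv.refl R R) Q) (h2 : Even n ∨ IsUnit (2 : R)) :
    IsUnit (Pm (QuadGrp.coeffs b (LinearEquiv.refl R R) Q)).det := by
  rcases Nat.even_or_odd n with hn | hn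
  · exact isUnit_Pm_of_regular b Q (h.1 hn)
  · exact isUnit_Pm_of_semiregular b Q hn
      (h2.resolve_left fun he => (Nat.not_odd_iff_even.mpr he) hn) (h.2 hn)

end Coords

section BC

variable {R : Type u} [CommRing R] {M : Type u} [AddCommGroup M] [Module R M] [Module.Free R M] {n : ℕ}
  (b : Module.Basis (Fin n) R M) (Q : QuadraticForm R M)

/-- The coefficients of `Q` in an algebra. -/
noncomputable def cf (A : Type u) [CommRing A] [Algebra R A] : Sym2 (Fin n) → A :=
  fun s => algebraMap R A (QuadGrp.coeffs b (LinearEquiv.refl R R) Q s)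

variable (A : Type u) [CommRing A] [Algebra R A]

theorem coeffs_baseChange :
    QuadGrp.coeffs (Algebra.TensorProduct.basis A b) (LinearEquiv.refl A A) (QuadGrp.baseChangeForm A Q) =
      cf b Q A := by
  funext s
  induction s using Sym2.ind with
  | h i j =>
    simp only [cf, QuadGrp.coeffs_mk, LinearEquiv.refl_apply, Algebra.TensorProduct.basis_apply]
    split_ifs
    · rw [baseChangeForm_tmul, one_mul, mul_one]
    · rw [polar_baseChangeForm_one]

theorem isUnit_Pm_cf (h : IsUnit (Pm (QuadGrp.coeffs b (LinearEquiv.refl R R) Q)).det) :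
    IsUnit (Pm (cf b Q A)).det := by
  rw [show Pm (cf b Q A) = (Pm (QuadGrp.coeffs b (LinearEquiv.refl R R) Q)).map (algebraMap R A) from
    (Pm_map _ _).symm, ← RingHom.mapMatrix_apply, ← RingHom.map_det]
  exact h.map _

theorem isUnit_halfDisc_cf (h : QuadGrp.IsSemiregular b (LinearEquiv.refl R R) Q) :
    IsUnit (MvPolynomial.eval₂ (Int.castRingHom A) (cf b Q A) (QuadGrp.halfDiscUniv n)) := by
  show IsUnit (MvPolynomial.eval₂ (Int.castRingHom A)
    (fun s => algebraMap R A (QuadGrp.coeffs b (LinearEquiv.refl R R) Q s)) (QuadGrp.halfDiscUniv n))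
  rw [← eval_halfDiscUniv_map]
  exact h.map _

theorem repr_rTensor {A B : Type u} [CommRing A] [Algebra R A] [CommRing B] [Algebra R B] (φ : A →ₐ[R] B)
    (x : A ⊗[R] M) (i : Fin n) :
    (Algebra.TensorProduct.basis B b).repr (LinearMap.rTensor M φ.toLinearMap x) i =
      φ ((Algebra.TensorProduct.basis A b).repr x i) := by
  induction x with
  | zero => simp
  | tmul a m =>
    rw [LinearMap.rTensor_tmul, Algebra.TensorProduct.basis_repr_tmul, Algebra.TensorProduct.basis_repr_tmul]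
    simp
  | add x y hx hy => rw [map_add, map_add, map_add, Finsupp.add_apply, Finsupp.add_apply, hx, hy, map_add]

/-- The coordinate index type: a matrix and its inverse. -/
abbrev Coord (n : ℕ) : Type := (Fin n × Fin n) ⊕ (Fin n × Fin n)

/-- The first matrix. -/
def matX {α : Type*} (x : Coord n → α) : Matrix (Fin n) (Fin n) α := Matrix.of fun i j => x (Sum.inl (i, j))

/-- The second matrix. -/
def matY {α : Type*} (x : Coord n → α) : Matrix (Fin n) (Fin n) α := Matrix.of fun i j => x (Sum.inr (i, j))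

/-- The pair as coordinates. -/
def coordOf {α : Type*} (X Y : Matrix (Fin n) (Fin n) α) : Coord n → α :=
  Sum.elim (fun p => X p.1 p.2) (fun p => Y p.1 p.2)

/-- The index of equations of `O`. -/
abbrev OrthEq (n : ℕ) : Type := Sym2 (Fin n) ⊕ ((Fin n × Fin n) ⊕ (Fin n × Fin n))

/-- The equations of `O`. -/
noncomputable def orthF (x : Coord n → A) : OrthEq n → A :=
  Sum.elim (fun s => compCoeffs (cf b Q A) (matX x) s - cf b Q A s)
    (Sum.elim (fun p => (matX x * matY x - 1) p.1 p.2) (fun p => (matY x * matX x - 1) p.1 p.2))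

theorem orthF_nat {A B : Type u} [CommRing A] [Algebra R A] [CommRing B] [Algebra R B] (φ : A →ₐ[R] B)
    (x : Coord n → A) (i : OrthEq n) : φ (orthF b Q A x i) = orthF b Q B (φ ∘ x) i := by
  have hX : (matX x).map φ.toRingHom = matX (φ ∘ x) := rfl
  have hY : (matY x).map φ.toRingHom = matY (φ ∘ x) := rfl
  have h1 : ((1 : Matrix (Fin n) (Fin n) A)).map φ.toRingHom = 1 := Matrix.map_one _ (map_zero _) (map_one _)
  rcases i with s | p | p
  · show φ.toRingHom (_ - _) = _
    rw [map_sub, compCoeffs_map, hX]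
    simp only [orthF, cf, Sum.elim_inl, AlgHom.toRingHom_eq_coe, RingHom.coe_coe, AlgHom.commutes]
    rfl
  · show ((matX x * matY x - 1).map φ.toRingHom) p.1 p.2 = _
    rw [Matrix.map_sub _ (map_sub _), Matrix.map_mul, hX, hY, h1]
    rfl
  · show ((matY x * matX x - 1).map φ.toRingHom) p.1 p.2 = _
    rw [Matrix.map_sub _ (map_sub _), Matrix.map_mul, hX, hY, h1]
    rfl

theorem orthF_eq_zero_iff (x : Coord n → A) :
    orthF b Q A x = 0 ↔
      compCoeffs (cf b Q A) (matX x) = cf b Q A ∧ matX x * matY x = 1 ∧ matY x * matX x = 1 := by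
  constructor
  · intro h
    refine ⟨funext fun s => sub_eq_zero.mp (congrFun h (Sum.inl s)), ?_, ?_⟩ <;> rw [← sub_eq_zero] <;> ext i j
    · exact congrFun h (Sum.inr (Sum.inl (i, j)))
    · exact congrFun h (Sum.inr (Sum.inr (i, j)))
  · rintro ⟨h, h1, h2⟩
    funext i
    rcases i with s | p | p
    · exact sub_eq_zero.mpr (congrFun h s)
    · show (matX x * matY x - 1) p.1 p.2 = 0
      rw [h1, sub_self]; rfl
    · show (matY x * matX x - 1) p.1 p.2 = 0
      rw [h2, sub_self]; rfl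

/-- Automorphisms of the base change as pairs of matrices. -/
noncomputable def orthEquiv : ↥(QuadGrp.orth Q A) ≃ {x : Coord n → A // orthF b Q A x = 0} where
  toFun g :=
    let bA := Algebra.TensorProduct.basis A b
    ⟨coordOf (LinearMap.toMatrix bA bA g.1.toLinearMap) (LinearMap.toMatrix bA bA g.1.symm.toLinearMap), by
      rw [orthF_eq_zero_iff]
      refine ⟨?_, ?_, ?_⟩
      · have := (mem_O_iff_coeffs (Algebra.TensorProduct.basis A b) _ g.1).mp ((mem_orth_iff Q g.1).mp g.2)
        rw [coeffs_baseChange] at this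
        exact this
      · show LinearMap.toMatrix bA bA g.1.toLinearMap * LinearMap.toMatrix bA bA g.1.symm.toLinearMap = 1
        rw [← LinearMap.toMatrix_comp, LinearEquiv.comp_symm, LinearMap.toMatrix_id]
      · show LinearMap.toMatrix bA bA g.1.symm.toLinearMap * LinearMap.toMatrix bA bA g.1.toLinearMap = 1
        rw [← LinearMap.toMatrix_comp, LinearEquiv.symm_comp, LinearMap.toMatrix_id]⟩
  invFun x :=
    let bA := Algebra.TensorProduct.basis A b
    let h := (orthF_eq_zero_iff b Q A x.1).mp x.2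
    ⟨LinearEquiv.ofLinear (Matrix.toLin bA bA (matX x.1)) (Matrix.toLin bA bA (matY x.1))
      (by rw [← Matrix.toLin_mul, h.2.1, Matrix.toLin_one]) (by rw [← Matrix.toLin_mul, h.2.2, Matrix.toLin_one]), by
      rw [mem_orth_iff, mem_O_iff_coeffs bA, coeffs_baseChange]
      rw [show LinearMap.toMatrix bA bA (LinearEquiv.ofLinear (Matrix.toLin bA bA (matX x.1)) (Matrix.toLin bA bA (matY x.1))
        (by rw [← Matrix.toLin_mul, h.2.1, Matrix.toLin_one])
        (by rw [← Matrix.toLin_mul, h.2.2, Matrix.toLin_one])).toLinearMap = matX x.1 from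
          LinearMap.toMatrix_toLin bA bA (matX x.1)]
      exact h.1⟩
  left_inv g := Subtype.ext <| LinearEquiv.toLinearMap_injective <| Matrix.toLin_toMatrix _ _ _
  right_inv x := Subtype.ext <| funext fun s => by
    rcases s with p | p
    · exact congrFun₂ (LinearMap.toMatrix_toLin _ _ (matX x.1)) p.1 p.2
    · exact congrFun₂ (LinearMap.toMatrix_toLin _ _ (matY x.1)) p.1 p.2

theorem det_eq_matX (g : ↥(QuadGrp.orth Q A)) :
    LinearEquiv.det g.1 = 1 ↔ (matX (orthEquiv b Q A g).1).det = 1 := by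
  rw [Units.ext_iff, Units.val_one, LinearEquiv.coe_det, ← LinearMap.det_toMatrix (Algebra.TensorProduct.basis A b)]
  rfl

theorem matX_natural {A B : Type u} [CommRing A] [Algebra R A] [CommRing B] [Algebra R B] (φ : A →ₐ[R] B)
    (g : ↥(QuadGrp.orth Q A)) (g' : ↥(QuadGrp.orth Q B))
    (h : ∀ m : M, g'.1 (1 ⊗ₜ[R] m) = LinearMap.rTensor M φ.toLinearMap (g.1 (1 ⊗ₜ[R] m))) :
    (orthEquiv b Q B g').1 = φ ∘ (orthEquiv b Q A g).1 := by
  set x := (orthEquiv b Q A g).1 with hx
  set x' := (orthEquiv b Q B g').1 with hx'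
  have hX : matX x' = (matX x).map φ.toRingHom := by
    ext i j
    show LinearMap.toMatrix _ _ g'.1.toLinearMap i j = φ (LinearMap.toMatrix _ _ g.1.toLinearMap i j)
    rw [LinearMap.toMatrix_apply, LinearMap.toMatrix_apply, LinearEquiv.coe_coe, LinearEquiv.coe_coe,
      Algebra.TensorProduct.basis_apply, Algebra.TensorProduct.basis_apply, h, repr_rTensor]
  obtain ⟨-, h1, h2⟩ := (orthF_eq_zero_iff b Q A x).mp (orthEquiv b Q A g).2
  obtain ⟨-, h3, h4⟩ := (orthF_eq_zero_iff b Q B x').mp (orthEquiv b Q B g').2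
  have hY : matY x' = (matY x).map φ.toRingHom := by
    refine left_inv_eq_right_inv h4 ?_
    rw [hX, ← Matrix.map_mul, h1, Matrix.map_one _ (map_zero _) (map_one _)]
  funext s
  rcases s with p | p
  · exact congrFun₂ hX p.1 p.2
  · exact congrFun₂ hY p.1 p.2

variable {G : Over (Spec (CommRingCat.of R))} [GrpObj G]

/-- The presentation of the orthogonal group scheme. -/
noncomputable def orthPresentation (D : QuadGrp.OrthRep Q G) : Presentation R G where
  σ := Coord n
  ι := OrthEq n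
  F := fun A _ _ => orthF b Q A
  F_nat := fun _ _ _ _ _ _ φ x i => orthF_nat b Q φ x i
  e := fun A _ _ => (D.pts A).toEquiv.trans (orthEquiv b Q A)
  e_nat := fun A B _ _ _ _ φ y => matX_natural b Q φ _ _ (D.natural A B φ y)

/-- The equations of `SO'`. -/
noncomputable def sorthF (x : Coord n → A) : OrthEq n ⊕ Unit → A :=
  Sum.elim (orthF b Q A x) (fun _ => (matX x).det - 1)

theorem sorthF_eq_zero_iff (x : Coord n → A) :
    sorthF b Q A x = 0 ↔ orthF b Q A x = 0 ∧ (matX x).det = 1 := by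
  constructor
  · intro h
    exact ⟨funext fun i => congrFun h (Sum.inl i), sub_eq_zero.mp (congrFun h (Sum.inr ()))⟩
  · rintro ⟨h, h1⟩
    funext i
    rcases i with i | _
    · exact congrFun h i
    · exact sub_eq_zero.mpr h1

/-- Points of `SO'` in coordinates. -/
noncomputable def sorthEquiv : ↥(QuadGrp.sorth' Q A) ≃ {x : Coord n → A // sorthF b Q A x = 0} where
  toFun g := ⟨(orthEquiv b Q A ⟨g.1, g.2.1⟩).1,
    (sorthF_eq_zero_iff b Q A _).mpr ⟨(orthEquiv b Q A ⟨g.1, g.2.1⟩).2, (det_eq_matX b Q A ⟨g.1, g.2.1⟩).mp g.2.2⟩⟩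
  invFun x := ⟨((orthEquiv b Q A).symm ⟨x.1, ((sorthF_eq_zero_iff b Q A _).mp x.2).1⟩).1,
    ((orthEquiv b Q A).symm ⟨x.1, ((sorthF_eq_zero_iff b Q A _).mp x.2).1⟩).2,
    (det_eq_matX b Q A _).mpr (by rw [Equiv.apply_symm_apply]; exact ((sorthF_eq_zero_iff b Q A _).mp x.2).2)⟩
  left_inv g := Subtype.ext <| congrArg (fun z : ↥(QuadGrp.orth Q A) => z.1) ((orthEquiv b Q A).symm_apply_apply ⟨g.1, g.2.1⟩)
  right_inv x := Subtype.ext <| congrArg (fun z : {x : Coord n → A // orthF b Q A x = 0} => z.1)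
    ((orthEquiv b Q A).apply_symm_apply ⟨x.1, ((sorthF_eq_zero_iff b Q A _).mp x.2).1⟩)

/-- The presentation of `SO'`. -/
noncomputable def sorthPresentation (D : QuadGrp.SOrth'Rep Q G) : Presentation R G where
  σ := Coord n
  ι := OrthEq n ⊕ Unit
  F := fun A _ _ => sorthF b Q A
  F_nat := fun A B _ _ _ _ φ x i => by
    rcases i with i | _
    · exact orthF_nat b Q φ x i
    · show φ.toRingHom ((matX x).det - 1) = (matX (φ ∘ x)).det - 1
      rw [map_sub, map_one, RingHom.map_det]
      rfl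
  e := fun A _ _ => (D.pts A).toEquiv.trans (sorthEquiv b Q A)
  e_nat := fun A B _ _ _ _ φ y => matX_natural b Q φ ⟨_, (D.pts A y).2.1⟩
    ⟨_, (D.pts B (QuadGrp.specOverMap R φ ≫ y)).2.1⟩ (D.natural A B φ y)

theorem exists_inverse_lift {I : Ideal A} (hI : I ^ 2 = ⊥) {X Y : Matrix (Fin n) (Fin n) A}
    (h1 : ∀ i j, (X * Y - 1) i j ∈ I) (h2 : ∀ i j, (Y * X - 1) i j ∈ I)
    {W : Matrix (Fin n) (Fin n) A} (hW : ∀ i j, W i j ∈ I) :
    ∃ Y' : Matrix (Fin n) (Fin n) A, (X * (1 + W)) * Y' = 1 ∧ Y' * (X * (1 + W)) = 1 ∧ ∀ i j, Y' i j - Y i j ∈ I := by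
  set q := Ideal.Quotient.mk I
  have hq : ∀ {Z : Matrix (Fin n) (Fin n) A}, (∀ i j, Z i j ∈ I) → Z.map q = 0 := fun {Z} hZ => by
    ext i j; exact Ideal.Quotient.eq_zero_iff_mem.mpr (hZ i j)
  have hXY : X.map q * Y.map q = 1 := by
    have := hq h1
    rwa [Matrix.map_sub _ (map_sub _), Matrix.map_mul, Matrix.map_one _ (map_zero _) (map_one _), sub_eq_zero] at this
  have hXW : (X * (1 + W)).map q = X.map q := by
    rw [Matrix.map_mul, Matrix.map_add _ (map_add _), hq hW, add_zero, Matrix.map_one _ (map_zero _) (map_one _),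
      Matrix.mul_one]
  have hu : IsUnit (X * (1 + W)).det := by
    have hu' : IsUnit (q ((X * (1 + W)).det)) := by
      rw [RingHom.map_det, RingHom.mapMatrix_apply, hXW]
      exact isUnit_det_of_right_inverse hXY
    obtain ⟨c, hc⟩ := hu'.exists_right_inv
    obtain ⟨c, rfl⟩ := Ideal.Quotient.mk_surjective c
    have hz : (X * (1 + W)).det * c - 1 ∈ I := by
      rw [← Ideal.Quotient.eq, map_mul, map_one]; exact hc
    refine IsUnit.of_mul_eq_one (c * (1 - ((X * (1 + W)).det * c - 1))) ?_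
    linear_combination -mul_eq_zero_of_mem hI hz hz
  refine ⟨(X * (1 + W))⁻¹, Matrix.mul_nonsing_inv _ hu, Matrix.nonsing_inv_mul _ hu, fun i j => ?_⟩
  rw [← Ideal.Quotient.eq]
  have h3 : ((X * (1 + W))⁻¹).map q * X.map q = 1 := by
    rw [← hXW, ← Matrix.map_mul, Matrix.nonsing_inv_mul _ hu, Matrix.map_one _ (map_zero _) (map_one _)]
  have h4 : ((X * (1 + W))⁻¹).map q = Y.map q := left_inv_eq_right_inv h3 hXY
  exact congrFun (congrFun h4 i) j

theorem exists_lift_coord {I : Ideal A} (hI : I ^ 2 = ⊥) (y : Coord n → A) (hy : ∀ i, orthF b Q A y i ∈ I)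
    {W : Matrix (Fin n) (Fin n) A} (hW : ∀ i j, W i j ∈ I)
    (h : compCoeffs (cf b Q A) (matX y * (1 + W)) = cf b Q A) :
    ∃ x : Coord n → A, (∀ s, x s - y s ∈ I) ∧ orthF b Q A x = 0 ∧ matX x = matX y * (1 + W) := by
  obtain ⟨Y', h1, h2, h3⟩ := exists_inverse_lift A hI (X := matX y) (Y := matY y)
    (fun i j => hy (Sum.inr (Sum.inl (i, j)))) (fun i j => hy (Sum.inr (Sum.inr (i, j)))) hW
  refine ⟨coordOf (matX y * (1 + W)) Y', fun s => ?_, (orthF_eq_zero_iff b Q A _).mpr ⟨h, h1, h2⟩, rfl⟩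
  rcases s with p | p
  · show (matX y * (1 + W)) p.1 p.2 - matX y p.1 p.2 ∈ I
    rw [Matrix.mul_add, Matrix.mul_one, Matrix.add_apply, add_sub_cancel_left, Matrix.mul_apply]
    exact Ideal.sum_mem _ fun l _ => Ideal.mul_mem_left _ _ (hW l p.2)
  · exact h3 p.1 p.2

theorem smooth_orth (D : QuadGrp.OrthRep Q G)
    (hP : IsUnit (Pm (QuadGrp.coeffs b (LinearEquiv.refl R R) Q)).det) : AlgebraicGeometry.Smooth G.hom := by
  refine (orthPresentation b Q D).smooth fun A _ _ I hI y hy => ?_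
  obtain ⟨W, hW, h⟩ := exists_lift_orth hI (isUnit_Pm_cf b Q A hP) (X := matX y) fun s => hy (Sum.inl s)
  obtain ⟨x, hx, h0, -⟩ := exists_lift_coord b Q A hI y hy hW h
  exact ⟨x, hx, h0⟩

theorem smooth_sorth' (D : QuadGrp.SOrth'Rep Q G) (hQ : QuadGrp.IsNondeg b (LinearEquiv.refl R R) Q)
    (h : Odd n ∨ IsUnit (2 : R)) : AlgebraicGeometry.Smooth G.hom := by
  refine (sorthPresentation b Q D).smooth fun A _ _ I hI y hy => ?_
  have hy0 : ∀ i, orthF b Q A y i ∈ I := fun i => hy (Sum.inl i)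
  have hyd : (matX y).det - 1 ∈ I := hy (Sum.inr ())
  suffices hW : ∃ W : Matrix (Fin n) (Fin n) A, (∀ i j, W i j ∈ I) ∧
      compCoeffs (cf b Q A) (matX y * (1 + W)) = cf b Q A ∧ (matX y * (1 + W)).det = 1 by
    obtain ⟨W, hW, hc, hd⟩ := hW
    obtain ⟨x, hx, h0, hxX⟩ := exists_lift_coord b Q A hI y hy0 hW hc
    exact ⟨x, hx, (sorthF_eq_zero_iff b Q A x).mpr ⟨h0, by rw [hxX, hd]⟩⟩
  rcases Nat.even_or_odd n with hn | hn
  · have h2 : IsUnit (2 : R) := h.resolve_left (Nat.not_odd_iff_even.mpr hn)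
    have hP := isUnit_Pm_cf b Q A (isUnit_Pm_of_nondeg b Q hQ (Or.inl hn))
    obtain ⟨W, hW, hc⟩ := exists_lift_orth hI hP (X := matX y) fun s => hy0 (Sum.inl s)
    refine ⟨W, hW, hc, ?_⟩
    set X' := matX y * (1 + W) with hX'
    have hd : X'.det ^ 2 * (Pm (cf b Q A)).det = 1 * (Pm (cf b Q A)).det := by
      have hd := disc_comp (Pi.basisFun A (Fin n)) (qf (cf b Q A)) (Matrix.toLin' X')
      rw [disc_eq_det, disc_eq_det, toMatrix₂_coeffs, toMatrix₂_coeffs, coeffs_qf, LinearMap.det_toLin'] at hd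
      rw [one_mul, ← hd]
      exact congrArg (fun a => (Pm a).det) hc
    have hsq : X'.det ^ 2 = 1 := hP.mul_left_injective hd
    have hmem : X'.det - 1 ∈ I := by
      have he : X'.det = (matX y).det * (1 + W.trace) := by rw [hX', Matrix.det_mul, det_one_add hI hW]
      rw [he, show (matX y).det * (1 + W.trace) - 1 = ((matX y).det - 1) + (matX y).det * W.trace by ring]
      exact add_mem hyd (Ideal.mul_mem_left _ _ (Ideal.sum_mem _ fun i _ => hW i i))
    have h2A : IsUnit (2 : A) := by simpa [map_ofNat] using h2.map (algebraMap R A)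
    have h0 : 2 * (X'.det - 1) = 0 := by linear_combination hsq - mul_eq_zero_of_mem hI hmem hmem
    exact sub_eq_zero.mp (h2A.mul_right_eq_zero.mp h0)
  · obtain ⟨k, rfl⟩ := hn
    exact exists_lift_sorth (even_two_mul k) hI (isUnit_halfDisc_cf b Q A (hQ.2 (odd_two_mul_add_one k)))
      (fun s => hy0 (Sum.inl s)) hyd

end BC

end Groth.Agent.Quad37
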