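import Groth.Agent.Quad37.GPinOdd

/-! Lifting points of `Pin` in odd rank at least three. -/

set_option autoImplicit false

universe u v

open CategoryTheory AlgebraicGeometry

namespace Groth.Agent.Quad37

open CliffordAlgebra Matrix
open scoped TensorProduct

variable {R : Type u} [CommRing R] {M : Type u} [AddCommGroup M] [Module R M] [Module.Free R M] {m : ℕ}
  (b : Module.Basis (Fin (2 * m + 1)) R M) (Q : QuadraticForm R M)
  (hQ : QuadGrp.IsSemiregular b (LinearEquiv.refl R R) Q)

omit [Module.Free R M] in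
include hQ in
/-- The polar values generate the unit ideal. -/
theorem exists_polar_sum (hm : 1 ≤ m) :
    ∃ c : Fin (2 * m + 1) × Fin (2 * m + 1) → R, ∑ p, c p * QuadraticMap.polar Q (b p.1) (b p.2) = -1 := by
  classical
  suffices h : Ideal.span (Set.range fun p : Fin (2 * m + 1) × Fin (2 * m + 1) =>
      QuadraticMap.polar Q (b p.1) (b p.2)) = ⊤ by
    obtain ⟨c, hc⟩ := Ideal.mem_span_range_iff_exists_fun.mp (h ▸ Submodule.mem_top : (-1 : R) ∈ _)
    exact ⟨c, hc⟩
  by_contra hne
  obtain ⟨p, hp, hle⟩ := Ideal.exists_le_maximal _ hne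
  letI := Ideal.Quotient.field p
  set a' := fun s => Ideal.Quotient.mk p (QuadGrp.coeffs b (LinearEquiv.refl R R) Q s) with ha'
  have hs : QuadGrp.IsSemiregular (Pi.basisFun (R ⧸ p) (Fin (2 * m + 1))) (LinearEquiv.refl _ _) (qf a') := by
    rw [QuadGrp.IsSemiregular, QuadGrp.halfDisc, coeffs_qf, ha', ← eval_halfDiscUniv_map]
    exact hQ.map _
  obtain ⟨b', -, -, hdet⟩ := exists_orth_basis (even_two_mul m) _ _ hs
  have hP : Pm a' = 0 := by
    ext i j
    rw [ha', ← Pm_map (Ideal.Quotient.mk p), Matrix.map_apply, ← toMatrix₂_coeffs b Q, LinearMap.toMatrix₂_apply,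
      QuadraticMap.polarBilin_apply_apply]
    exact Ideal.Quotient.eq_zero_iff_mem.mpr (hle (Ideal.subset_span ⟨(i, j), rfl⟩))
  have hzero : (qf a').polarBilin = 0 := (Pi.basisFun _ _).ext fun i => (Pi.basisFun _ _).ext fun j => by
    rw [QuadraticMap.polarBilin_apply_apply, Pi.basisFun_apply, Pi.basisFun_apply, polar_qf_basis, hP]
    rfl
  haveI : Nonempty (Fin (2 * m)) := ⟨⟨0, by omega⟩⟩
  have hrg : restGram b' (qf a') = 0 := by
    ext i j
    have h := LinearMap.congr_fun (LinearMap.congr_fun hzero (b' i.succ)) (b' j.succ)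
    simp only [LinearMap.zero_apply, QuadraticMap.polarBilin_apply_apply] at h
    simp [restGram, h]
  rw [hrg, Matrix.det_zero] at hdet
  exact not_isUnit_zero hdet

include hQ in
/-- The Clifford norm of a point of `GPin` is a scalar, odd rank. -/
theorem norm_scalar (A : Type u) [CommRing A] [Algebra R A] (u : ↥(QuadGrp.gpin Q A)) :
    ∃ s : A, star (u.1 : CliffordAlgebra (QuadGrp.baseChangeForm A Q)) * u.1 = algebraMap A _ s := by
  set q := QuadGrp.baseChangeForm A Q
  set bA := Algebra.TensorProduct.basis A b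
  obtain ⟨g, -, hg⟩ := exists_conj bA u.2.1
  obtain ⟨he, h0, h1⟩ := gIdem_spec Q A u
  set e := gIdem Q A u
  set x := (u.1 : CliffordAlgebra q)
  have hug : ∀ v, x * ι q v = ι q (g v) * x := fun v => by rw [← hg v, mul_assoc, Units.inv_mul, mul_one]
  have hsg : ∀ v, ι q v * star x = star x * ι q (g v) := fun v => by
    have h := congrArg star (hug v)
    rw [star_mul, star_mul, CliffordAlgebra.star_ι, CliffordAlgebra.star_ι, neg_mul, mul_neg, neg_inj] at h
    exact h
  refine ⟨_, even_central_scalar bA (isSemiregular_baseChange b Q hQ A) ?_ fun v => ?_⟩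
  · have hx : x = e • x + (1 - e) • x := by rw [← add_smul, add_sub_cancel, one_smul]
    have key : star x * x = star (e • x) * (e • x) + star ((1 - e) • x) * ((1 - e) • x) := by
      simp only [CliffordAlgebra.star_smul, smul_mul_assoc, mul_smul_comm, smul_smul, he.eq,
        he.one_sub.eq]
      rw [← add_smul, add_sub_cancel, one_smul]
    rw [key]
    exact add_mem (mul_mem_parity (star_mem_parity h0) h0 rfl) (mul_mem_parity (star_mem_parity h1) h1 rfl)
  · rw [← mul_assoc, hsg, mul_assoc, ← hug, mul_assoc]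

include hQ in
/-- Points of `Pin` lift along square-zero ideals, odd rank at least three. -/
theorem exists_lift_pin_odd (hm : 1 ≤ m) (A : Type u) [CommRing A] [Algebra R A] (I : Ideal A) (hI : I ^ 2 = ⊥)
    (w : ↥(QuadGrp.pin Q (A ⧸ I))) :
    ∃ u : ↥(QuadGrp.pin Q A), cliffAlg Q (Ideal.Quotient.mkₐ R I) (u.1 : CliffordAlgebra _) = w.1 := by
  classical
  set π := Ideal.Quotient.mkₐ R I with hπ
  let q := QuadGrp.baseChangeForm A Q
  obtain ⟨u, hu⟩ := exists_lift_gpin_odd b Q hQ A I hI ⟨w.1, w.2.1⟩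
  obtain ⟨s, hs⟩ := norm_scalar b Q hQ A u
  have hη : s - 1 ∈ I := by
    rw [← Ideal.Quotient.eq, map_one, ← Ideal.Quotient.mkₐ_eq_mk R]
    refine algebraMap_injective (QuadGrp.baseChangeForm (A ⧸ I) Q) (Algebra.TensorProduct.basis (A ⧸ I) b) ?_
    rw [map_one, ← cliffAlg_algebraMap Q π, ← hs, map_mul, cliffAlg_star, hu]
    exact (QuadGrp.mem_normOne _ _).mp w.2.2
  set η := s - 1 with hη'
  have hη2 : η * η = 0 := mul_eq_zero_of_mem hI hη hη
  obtain ⟨c, hc⟩ := exists_polar_sum b Q hQ hm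
  let a : Fin (2 * m + 1) → A ⊗[R] M := fun i => (1 : A) ⊗ₜ[R] b i
  let z : CliffordAlgebra q := ∑ p, algebraMap R A (c p) • (ι q (a p.1) * ι q (a p.2))
  have hzs : z + star z = algebraMap A _ (-1) := by
    simp only [z, star_sum, CliffordAlgebra.star_smul, star_mul, CliffordAlgebra.star_ι, neg_mul_neg,
      ← Finset.sum_add_distrib, ← smul_add, ι_mul_ι_add_swap, ← Algebra.smul_def, smul_eq_mul]
    rw [← map_one (algebraMap R A), ← map_neg (algebraMap R A), ← hc, map_sum, map_sum]
    refine Finset.sum_congr rfl fun p _ => ?_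
    rw [Algebra.smul_def, ← map_mul, map_mul (algebraMap R A), polar_baseChangeForm_one]
  let δ : (A ⊗[R] M) →ₗ[A] (A ⊗[R] M) := η • ∑ p, algebraMap R A (c p) •
    ((q.polarBilin (a p.2)).smulRight (a p.1) - (q.polarBilin (a p.1)).smulRight (a p.2))
  have hδ2 : δ ∘ₗ δ = 0 := LinearMap.ext fun y => by
    simp only [δ, LinearMap.comp_apply, LinearMap.smul_apply, map_smul, smul_smul, hη2, zero_smul, LinearMap.zero_apply]
  let g : (A ⊗[R] M) ≃ₗ[A] (A ⊗[R] M) := LinearEquiv.ofLinear (LinearMap.id + δ) (LinearMap.id - δ)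
    (by rw [LinearMap.comp_sub, LinearMap.comp_id, LinearMap.add_comp, LinearMap.id_comp, hδ2]; abel)
    (by rw [LinearMap.comp_add, LinearMap.comp_id, LinearMap.sub_comp, LinearMap.id_comp, hδ2]; abel)
  let w1 : (CliffordAlgebra q)ˣ :=
    { val := 1 + η • z
      inv := 1 - η • z
      val_inv := by
        rw [add_mul, mul_sub, mul_one, one_mul, mul_sub, mul_one, smul_mul_smul_comm, hη2, zero_smul]; abel
      inv_val := by
        rw [sub_mul, mul_add, mul_one, one_mul, mul_add, mul_one, smul_mul_smul_comm, hη2, zero_smul]; abel }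
  have hbr : ∀ v, η • (z * ι q v - ι q v * z) = ι q (δ v) := fun v => by
    have key : ∀ x y : A ⊗[R] M, ι q x * ι q y * ι q v - ι q v * (ι q x * ι q y) =
        QuadraticMap.polar q y v • ι q x - QuadraticMap.polar q x v • ι q y := fun x y => by
      rw [mul_assoc, ι_mul_ι_comm y v, mul_sub, mul_scalar_eq, ← mul_assoc (ι q x) (ι q v), ι_mul_ι_comm x v, sub_mul,
        scalar_mul_eq, mul_assoc]
      abel
    simp only [δ, z, LinearMap.smul_apply, LinearMap.sum_apply, map_smul, map_sum, LinearMap.sub_apply,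
      LinearMap.smulRight_apply, map_sub, QuadraticMap.polarBilin_apply_apply, Finset.sum_mul, Finset.mul_sum,
      smul_mul_assoc, mul_smul_comm, ← Finset.sum_sub_distrib, ← smul_sub, key]
  have hconj : ∀ v, (w1 : CliffordAlgebra q) * ι q v * ↑w1⁻¹ = ι q (g v) := fun v => by
    show (1 + η • z) * ι q v * (1 - η • z) = ι q (v + δ v)
    rw [map_add, ← hbr, add_mul, one_mul, mul_sub, mul_one, add_mul, smul_mul_assoc, mul_smul_comm,
      smul_mul_smul_comm, hη2, zero_smul, add_zero, smul_sub]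
    abel
  have hw1 : w1 ∈ QuadGrp.gpin Q A := by
    refine ⟨mem_GPin'_of_conj hconj, ⟨1, IsIdempotentElem.one, ?_, ?_⟩⟩
    · rw [one_smul]
      exact add_mem (mem_even_one) (Submodule.smul_mem _ _ (sum_mem fun p _ =>
        Submodule.smul_mem _ _ (ι_mul_ι_mem_evenOdd_zero _ _ _)))
    · rw [sub_self, zero_smul]; exact zero_mem _
  refine ⟨⟨u.1 * w1, ⟨(QuadGrp.gpin Q A).mul_mem u.2 hw1, (QuadGrp.mem_normOne _ _).mpr ?_⟩⟩, ?_⟩
  · rw [Units.val_mul, star_mul, mul_assoc, ← mul_assoc (star (u.1 : CliffordAlgebra q)), hs, scalar_mul_eq,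
      mul_smul_comm]
    show s • (star (1 + η • z) * (1 + η • z)) = 1
    rw [star_add, star_one, CliffordAlgebra.star_smul, add_mul, one_mul, mul_add, mul_one, smul_mul_smul_comm, hη2,
      zero_smul, add_zero, show 1 + η • z + η • star z = 1 + η • (z + star z) by rw [smul_add]; abel, hzs,
      Algebra.algebraMap_eq_smul_one, smul_smul, smul_add, smul_smul, ← add_smul]
    rw [show s + s * (η * -1) = 1 by rw [hη']; linear_combination -hη2, one_smul]
  · show cliffAlg Q π ((u.1 : CliffordAlgebra q) * (1 + η • z)) = _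
    rw [map_mul, map_add, map_one, cliffAlg_smul, show π η = 0 from Ideal.Quotient.eq_zero_iff_mem.mpr hη, zero_smul,
      add_zero, mul_one, hu]

end Groth.Agent.Quad37
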