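import Groth.Agent.Quad37.SOScheme
import Mathlib.LinearAlgebra.Matrix.SchurComplement

/-! Reflections in coordinates and their parity. -/

set_option autoImplicit false

universe u v

namespace Groth.Agent.Quad37

open Matrix CliffordAlgebra
open scoped TensorProduct

section Mat

variable {A : Type u} [CommRing A] {n : ℕ}

theorem polar_qf_eq (a : Sym2 (Fin n) → A) (v w : Fin n → A) :
    QuadraticMap.polar (qf a) v w = (v ᵥ* Pm a) ⬝ᵥ w := by
  classical
  conv_lhs => rw [← (Pi.basisFun A (Fin n)).sum_repr v]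
  rw [← QuadraticMap.polarBilin_apply_apply, map_sum, LinearMap.sum_apply]
  simp only [map_smul, LinearMap.smul_apply, QuadraticMap.polarBilin_apply_apply, Pi.basisFun_apply,
    Pi.basisFun_repr, polar_qf_single, smul_eq_mul, dotProduct, Matrix.vecMul, Finset.mul_sum, Finset.sum_mul]
  rw [Finset.sum_comm]
  exact Finset.sum_congr rfl fun j _ => Finset.sum_congr rfl fun i _ => by ring

/-- The matrix of the reflection in `v`, where `c` is the inverse of the value at `v`. -/
def rmat (a : Sym2 (Fin n) → A) (c : A) (v : Fin n → A) : Matrix (Fin n) (Fin n) A :=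
  1 - c • vecMulVec v (v ᵥ* Pm a)

theorem rmat_mulVec (a : Sym2 (Fin n) → A) (c : A) (v w : Fin n → A) :
    rmat a c v *ᵥ w = w - (c * QuadraticMap.polar (qf a) v w) • v := by
  rw [rmat, Matrix.sub_mulVec, Matrix.one_mulVec, Matrix.smul_mulVec, Matrix.vecMulVec_mulVec, polar_qf_eq,
    mul_smul]
  congr 2
  funext i
  simp [mul_comm]

theorem compCoeffs_eq_self {a : Sym2 (Fin n) → A} {X : Matrix (Fin n) (Fin n) A}
    (h : ∀ w, qf a (X *ᵥ w) = qf a w) : compCoeffs a X = a := by
  rw [compCoeffs, show (qf a).comp (Matrix.toLin' X) = qf a from QuadraticMap.ext fun w => by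
    rw [QuadraticMap.comp_apply, Matrix.toLin'_apply, h]]
  exact coeffs_qf a

theorem qf_mulVec {a : Sym2 (Fin n) → A} {X : Matrix (Fin n) (Fin n) A} (h : compCoeffs a X = a) (w : Fin n → A) :
    qf a (X *ᵥ w) = qf a w := by
  conv_rhs => rw [← h]
  rw [qf_compCoeffs, QuadraticMap.comp_apply, Matrix.toLin'_apply]

theorem compCoeffs_rmat {a : Sym2 (Fin n) → A} {c : A} {v : Fin n → A} (h : c * qf a v = 1) :
    compCoeffs a (rmat a c v) = a := compCoeffs_eq_self fun w => by
  rw [rmat_mulVec, sub_eq_add_neg, ← neg_smul, QuadraticMap.map_add (qf a), QuadraticMap.map_smul,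
    QuadraticMap.polar_smul_right, QuadraticMap.polar_comm (qf a) w v, smul_eq_mul, smul_eq_mul]
  linear_combination c * QuadraticMap.polar (qf a) v w * QuadraticMap.polar (qf a) v w * h

theorem rmat_mul_self {a : Sym2 (Fin n) → A} {c : A} {v : Fin n → A} (h : c * qf a v = 1) :
    rmat a c v * rmat a c v = 1 := by
  refine Matrix.ext_of_mulVec_single fun i => ?_
  rw [← Matrix.mulVec_mulVec, Matrix.one_mulVec, rmat_mulVec a c v (rmat a c v *ᵥ _), rmat_mulVec,
    QuadraticMap.polar_sub_right, QuadraticMap.polar_smul_right, QuadraticMap.polar_self, nsmul_eq_mul, smul_eq_mul,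
    Nat.cast_ofNat]
  match_scalars
  · ring
  · linear_combination 2 * c * QuadraticMap.polar (qf a) v (Pi.single i 1) * h

theorem det_rmat {a : Sym2 (Fin n) → A} {c : A} {v : Fin n → A} (h : c * qf a v = 1) : (rmat a c v).det = -1 := by
  rw [rmat, sub_eq_add_neg, ← neg_smul, ← Matrix.smul_vecMulVec, Matrix.vecMulVec_eq Unit,
    Matrix.det_one_add_replicateCol_mul_replicateRow, dotProduct_smul,
    ← polar_qf_eq, QuadraticMap.polar_self, nsmul_eq_mul, smul_eq_mul, Nat.cast_ofNat]
  linear_combination -2 * h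

theorem rmat_map {B : Type v} [CommRing B] (φ : A →+* B) (a : Sym2 (Fin n) → A) (c : A) (v : Fin n → A) :
    (rmat a c v).map φ = rmat (fun s => φ (a s)) (φ c) (fun i => φ (v i)) := by
  ext i j
  simp only [rmat, Matrix.map_apply, Matrix.sub_apply, Matrix.smul_apply, vecMulVec_apply, smul_eq_mul, map_sub,
    map_mul, Matrix.one_apply, Matrix.vecMul, dotProduct, map_sum, ← Pm_map, apply_ite φ, map_one, map_zero]

end Mat

section Par

variable {R : Type u} [CommRing R] {M : Type u} [AddCommGroup M] [Module R M] [Module.Free R M] {n : ℕ}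
  (b : Module.Basis (Fin n) R M) (Q : QuadraticForm R M)

theorem equivFun_pAut {A : Type u} [CommRing A] [Algebra R A] {x : Coord n → A} (hx : orthF b Q A x = 0)
    (w : A ⊗[R] M) :
    (Algebra.TensorProduct.basis A b).equivFun (pAut b Q A x hx w) =
      matX x *ᵥ (Algebra.TensorProduct.basis A b).equivFun w := by
  set bA := Algebra.TensorProduct.basis A b
  have h : (pAut b Q A x hx).toLinearMap = Matrix.toLin bA bA (matX x) :=
    bA.ext fun j => by rw [LinearEquiv.coe_coe, pAut_apply, Matrix.toLin_self]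
  have h2 : LinearMap.toMatrix bA bA (pAut b Q A x hx).toLinearMap = matX x := by rw [h, LinearMap.toMatrix_toLin]
  rw [← h2, Module.Basis.equivFun_apply, Module.Basis.equivFun_apply, LinearMap.toMatrix_mulVec_repr]
  rfl

theorem par_reflection {A : Type u} [CommRing A] [Algebra R A] {x : Coord n → A} (hx : orthF b Q A x = 0)
    (hQ : QuadGrp.IsRegular Q) {c : A} {v : Fin n → A} (hc : c * qf (cf b Q A) v = 1)
    (hX : matX x = rmat (cf b Q A) c v) : par b Q hx hQ = 0 := by
  set bA := Algebra.TensorProduct.basis A b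
  set q := QuadGrp.baseChangeForm A Q
  set v' := bA.equivFun.symm v
  have hq : q = (qf (cf b Q A)).comp bA.equivFun.toLinearMap := by
    rw [← coeffs_baseChange b Q A]; exact eq_qf_comp bA q
  have hqv : q v' = qf (cf b Q A) v := by
    rw [hq, QuadraticMap.comp_apply, LinearEquiv.coe_coe, LinearEquiv.apply_symm_apply]
  have hpol : ∀ w, QuadraticMap.polar q v' w = QuadraticMap.polar (qf (cf b Q A)) v (bA.equivFun w) := fun w => by
    simp only [QuadraticMap.polar, hq, QuadraticMap.comp_apply, LinearEquiv.coe_coe, map_add,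
      LinearEquiv.apply_symm_apply, v']
  have hg : ∀ w, pAut b Q A x hx w = w - (c * QuadraticMap.polar q v' w) • v' := fun w => by
    apply bA.equivFun.injective
    rw [equivFun_pAut, hX, rmat_mulVec, map_sub, map_smul, hpol, LinearEquiv.apply_symm_apply]
  have hT : ι q v' ∈ Tw q (pAut b Q A x hx) := by
    rw [mem_Tw]
    intro w
    rw [involute_ι, hg, map_sub, map_smul, sub_mul, smul_mul_assoc, ι_sq_scalar, neg_mul,
      eq_neg_iff_add_eq_zero, sub_add_eq_add_sub, ι_mul_ι_add_swap, sub_eq_zero, Algebra.smul_def, ← map_mul]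
    congr 1
    rw [QuadraticMap.polar_comm q w, hqv]
    linear_combination -QuadraticMap.polar q v' w * hc
  have h0 := (par_spec b Q hx hQ).odd_fix hT (ι_mem_evenOdd_one q v')
  have h1 : (par b Q hx hQ * q v') • (1 : CliffordAlgebra q) = 0 := by
    rw [← Algebra.algebraMap_eq_smul_one, map_mul, ← ι_sq_scalar, ← mul_assoc, scalar_mul_eq, h0, zero_mul]
  have h2 := smul_one_eq_zero bA h1
  rw [hqv] at h2
  linear_combination c * h2 - par b Q hx hQ * hc

end Par

end Groth.Agent.Quad37
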