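import Groth.Agent.Quad37.AffRep
import Mathlib.RingTheory.Smooth.StandardSmoothOfFree
import Mathlib.RingTheory.Smooth.StandardSmoothCotangent
import Mathlib.RingTheory.RingHom.StandardSmooth
import Mathlib.RingTheory.RingHom.Locally
import Mathlib.RingTheory.DedekindDomain.Basic
import Mathlib.Algebra.DualNumber
import Mathlib.RingTheory.Kaehler.Basic
import Mathlib.RingTheory.Localization.Away.Basic

/-! The relative dimension from the tangent spaces at field-valued points. -/

set_option autoImplicit false

universe u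

open CategoryTheory AlgebraicGeometry
open TrivSqZeroExt

namespace Groth.Agent.Quad37

section Tangent

variable {R : Type u} [CommRing R] {G : Over (Spec (CommRingCat.of R))} (P : Presentation R G)

/-- The point with first order coordinates `v` at `x`. -/
def epsPt {K : Type u} [CommRing K] (x v : P.σ → K) : P.σ → DualNumber K :=
  fun s => inl (x s) + inr (v s)

theorem finrank_eq_card_kaehler (g : P.Ring) {κ : Type*} [Fintype κ]
    (bΩ : Module.Basis κ (Localization.Away g) (Ω[Localization.Away g⁄R]))
    (K : Type u) [Field K] [Algebra R K] (χ : P.Ring →ₐ[R] K) (hg : χ g ≠ 0)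
    (T : Submodule K (P.σ → K))
    (hT : ∀ v, v ∈ T ↔ P.F (DualNumber K) (epsPt P ((P.homEquiv K).symm χ).1 v) = 0) :
    Module.finrank K T = Fintype.card κ := by
  classical
  let gen : P.σ → P.Ring := fun s => Ideal.Quotient.mk _ (MvPolynomial.X s)
  let L := Localization.Away g
  let ι' : P.σ → L := fun s => algebraMap P.Ring L (gen s)
  let χg : L →+* K := IsLocalization.Away.lift g (g := χ.toRingHom) (isUnit_iff_ne_zero.mpr hg)
  have hχg : ∀ a, χg (algebraMap P.Ring L a) = χ a := fun a => IsLocalization.Away.lift_eq g _ a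
  have hχR : ∀ r : R, χg (algebraMap R L r) = algebraMap R K r := fun r => by
    rw [IsScalarTower.algebraMap_apply R P.Ring L, hχg, AlgHom.commutes]
  letI : Algebra L K := χg.toAlgebra
  haveI : IsScalarTower R L K := IsScalarTower.of_algebraMap_eq fun r => (hχR r).symm
  have hsm : ∀ (a : L) (z : K), a • z = χg a * z := fun a z => Algebra.smul_def a z
  let D := KaehlerDifferential.D R L
  let ψ : (κ → K) → (Ω[L⁄R] →ₗ[L] K) := fun c => bΩ.constr L c
  have hψ : ∀ c ω, ψ c ω = ∑ k, χg (bΩ.repr ω k) * c k := fun c ω => by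
    simp only [ψ, Module.Basis.constr_apply_fintype]
    exact Finset.sum_congr rfl fun k _ => rfl
  let Φ : (κ → K) →ₗ[K] (P.σ → K) :=
    { toFun := fun c s => ψ c (D (ι' s))
      map_add' := fun c c' => funext fun s => by
        simp only [hψ, Pi.add_apply, mul_add, Finset.sum_add_distrib]
      map_smul' := fun r c => funext fun s => by
        simp only [hψ, Pi.smul_apply, smul_eq_mul, RingHom.id_apply, Finset.mul_sum]
        exact Finset.sum_congr rfl fun k _ => by ring }
  let hc : (κ → K) → (L →ₐ[R] DualNumber K) := fun c =>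
    { toFun := fun a => inl (χg a) + inr (ψ c (D a))
      map_one' := by simp [D]
      map_mul' := fun a a' => by
        apply TrivSqZeroExt.ext
        · simp
        · simp [Derivation.leibniz, hsm, op_smul_eq_smul]
          ring
      map_zero' := by simp
      map_add' := fun a a' => by
        apply TrivSqZeroExt.ext <;> simp
      commutes' := fun r => by
        apply TrivSqZeroExt.ext
        · rw [TrivSqZeroExt.fst_add, TrivSqZeroExt.fst_inl, TrivSqZeroExt.fst_inr, add_zero, hχR]; rfl
        · rw [TrivSqZeroExt.snd_add, TrivSqZeroExt.snd_inl, TrivSqZeroExt.snd_inr, zero_add]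
          simp [D, TrivSqZeroExt.algebraMap_eq_inl'] }
  have hgenx : ∀ s, χg (ι' s) = ((P.homEquiv K).symm χ).1 s := fun s => hχg _
  have hpt : ∀ (h : P.Ring →ₐ[R] DualNumber K), P.F (DualNumber K) (h ∘ gen) = 0 := fun h =>
    ((P.homEquiv (DualNumber K)).symm h).2
  have hrange : LinearMap.range Φ = T := by
    refine le_antisymm ?_ fun v hv => ?_
    · rintro _ ⟨c, rfl⟩
      rw [hT]
      have := hpt ((hc c).comp (IsScalarTower.toAlgHom R P.Ring L))
      refine Eq.trans ?_ this
      congr 1
      funext s
      simp only [epsPt, ← hgenx]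
      rfl
    · rw [hT] at hv
      let h0 : P.Ring →ₐ[R] DualNumber K := P.homEquiv (DualNumber K) ⟨_, hv⟩
      have hh0 : ∀ s, h0 (gen s) = inl (((P.homEquiv K).symm χ).1 s) + inr (v s) := fun s =>
        congrFun (congrArg Subtype.val ((P.homEquiv (DualNumber K)).symm_apply_apply ⟨_, hv⟩)) s
      have hfst : ∀ a, fst (h0 a) = χ a := by
        have : (TrivSqZeroExt.fstHom R K K).comp h0 = χ := by
          apply (P.homEquiv K).symm.injective
          refine Subtype.ext (funext fun s => ?_)
          show fst (h0 (gen s)) = _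
          rw [hh0, TrivSqZeroExt.fst_add, TrivSqZeroExt.fst_inl, TrivSqZeroExt.fst_inr, add_zero]
        exact fun a => DFunLike.congr_fun this a
      have hu : IsUnit (h0 g) := TrivSqZeroExt.isUnit_iff_isUnit_fst.mpr (by rw [hfst]; exact isUnit_iff_ne_zero.mpr hg)
      let h : L →+* DualNumber K := IsLocalization.Away.lift g (g := h0.toRingHom) hu
      have hh : ∀ a, h (algebraMap P.Ring L a) = h0 a := fun a => IsLocalization.Away.lift_eq g _ a
      have hhfst : ∀ a, fst (h a) = χg a := by
        have : (TrivSqZeroExt.fstHom R K K).toRingHom.comp h = χg :=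
          IsLocalization.ringHom_ext (Submonoid.powers g) (RingHom.ext fun a => by
            show fst (h (algebraMap P.Ring L a)) = χg (algebraMap P.Ring L a)
            rw [hh, hfst, hχg])
        exact fun a => RingHom.congr_fun this a
      let δ : Derivation R L K := Derivation.mk'
        { toFun := fun a => snd (h a)
          map_add' := fun a a' => by rw [map_add, TrivSqZeroExt.snd_add]
          map_smul' := fun r a => by
            rw [RingHom.id_apply, Algebra.smul_def, map_mul, IsScalarTower.algebraMap_apply R P.Ring L, hh,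
              AlgHom.commutes, TrivSqZeroExt.snd_mul]
            simp [TrivSqZeroExt.algebraMap_eq_inl', Algebra.smul_def] }
        (fun a a' => by
          show snd (h (a * a')) = a • snd (h a') + a' • snd (h a)
          rw [map_mul, TrivSqZeroExt.snd_mul, hhfst, hhfst, hsm, hsm, op_smul_eq_smul, smul_eq_mul, smul_eq_mul])
      refine ⟨fun k => δ.liftKaehlerDifferential (bΩ k), funext fun s => ?_⟩
      show ψ _ (D (ι' s)) = v s
      have : ψ (fun k => δ.liftKaehlerDifferential (bΩ k)) = δ.liftKaehlerDifferential :=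
        bΩ.ext fun k => bΩ.constr_basis _ _ k
      rw [this, Derivation.liftKaehlerDifferential_comp_D]
      show snd (h (ι' s)) = v s
      rw [hh, hh0, TrivSqZeroExt.snd_add, TrivSqZeroExt.snd_inl, TrivSqZeroExt.snd_inr, zero_add]
  have hinj : Function.Injective Φ := by
    rw [← LinearMap.ker_eq_bot, LinearMap.ker_eq_bot']
    intro c hcz
    have heq : (hc c).comp (IsScalarTower.toAlgHom R P.Ring L) = (hc 0).comp (IsScalarTower.toAlgHom R P.Ring L) := by
      apply (P.homEquiv _).symm.injective
      refine Subtype.ext (funext fun s => ?_)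
      show inl (χg (ι' s)) + inr (ψ c (D (ι' s))) = inl (χg (ι' s)) + inr (ψ 0 (D (ι' s)))
      rw [show ψ c (D (ι' s)) = 0 from congrFun hcz s]
      simp [hψ]
    have heq' : (hc c).toRingHom = (hc 0).toRingHom :=
      IsLocalization.ringHom_ext (Submonoid.powers g) (RingHom.ext fun a => DFunLike.congr_fun heq a)
    have hD : ∀ a, ψ c (D a) = 0 := fun a => by
      have h1 := congrArg (fun t => snd (t a)) heq'
      simp only [hc, AlgHom.toRingHom_eq_coe, RingHom.coe_coe, AlgHom.coe_mk, RingHom.coe_mk, MonoidHom.coe_mk,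
        OneHom.coe_mk, TrivSqZeroExt.snd_add, TrivSqZeroExt.snd_inl, TrivSqZeroExt.snd_inr, zero_add] at h1
      rw [h1, hψ]
      simp
    have hzero : ψ c = 0 := by
      refine LinearMap.ext_on (KaehlerDifferential.span_range_derivation R L) ?_
      rintro _ ⟨a, rfl⟩
      exact hD a
    funext k
    have := LinearMap.congr_fun hzero (bΩ k)
    simpa [ψ] using this
  rw [← hrange, LinearMap.finrank_range_of_inj hinj, Module.finrank_pi]

/-- The relative dimension from the tangent spaces. -/
theorem Presentation.smoothOfRelativeDimension (hsm : AlgebraicGeometry.Smooth G.hom) (d : ℕ)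
    (hd : ∀ (K : Type u) [Field K] [Algebra R K] (x : P.σ → K), P.F K x = 0 →
      ∃ T : Submodule K (P.σ → K), (∀ v, v ∈ T ↔ P.F (DualNumber K) (epsPt P x v) = 0) ∧ Module.finrank K T = d) :
    SmoothOfRelativeDimension d G.hom := by
  haveI hA := (Quad37.smooth_iff P.toHom P.toHom_nat).mp hsm
  have hloc : RingHom.Locally (RingHom.IsStandardSmoothOfRelativeDimension d) (algebraMap R P.Ring) := by
    rw [RingHom.locally_iff_span_eq_top]
    by_contra hne
    obtain ⟨Qm, hQm, hle⟩ := Ideal.exists_le_maximal _ hne
    haveI : Algebra.IsSmoothAt R Qm := inferInstance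
    obtain ⟨g, hgQ, hstd⟩ := Algebra.IsSmoothAt.exists_notMem_isStandardSmooth R Qm
    refine hgQ (hle (Ideal.subset_span ?_))
    show RingHom.IsStandardSmoothOfRelativeDimension d ((algebraMap P.Ring (Localization.Away g)).comp (algebraMap R P.Ring))
    rw [← IsScalarTower.algebraMap_eq, RingHom.isStandardSmoothOfRelativeDimension_algebraMap]
    letI : Field (P.Ring ⧸ Qm) := Ideal.Quotient.field Qm
    let χ : P.Ring →ₐ[R] P.Ring ⧸ Qm := Ideal.Quotient.mkₐ R Qm
    have hgχ : χ g ≠ 0 := fun h => hgQ (Ideal.Quotient.eq_zero_iff_mem.mp h)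
    have hu : IsUnit (χ g) := isUnit_iff_ne_zero.mpr hgχ
    haveI : Nontrivial (Localization.Away g) :=
      (IsLocalization.Away.lift g (g := χ.toRingHom) hu : Localization.Away g →+* P.Ring ⧸ Qm).domain_nontrivial
    obtain ⟨ι₀, σ₀, _, _, ⟨S⟩⟩ := hstd
    haveI : Fintype ι₀ := Fintype.ofFinite ι₀
    haveI : Fintype σ₀ := Fintype.ofFinite σ₀
    haveI : Algebra.IsStandardSmooth R (Localization.Away g) := ⟨_, _, _, ‹_›, ⟨S⟩⟩
    rw [Algebra.IsStandardSmoothOfRelativeDimension.iff_of_isStandardSmooth]
    obtain ⟨T, hT, hTd⟩ := hd (P.Ring ⧸ Qm) _ ((P.homEquiv _).symm χ).2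
    haveI := Fintype.ofFinite (Module.Free.ChooseBasisIndex (Localization.Away g) (Ω[Localization.Away g⁄R]))
    rw [(Module.Free.chooseBasis (Localization.Away g) (Ω[Localization.Away g⁄R])).mk_eq_rank''.symm, Cardinal.mk_fintype,
      ← finrank_eq_card_kaehler P g (Module.Free.chooseBasis _ _) (P.Ring ⧸ Qm) χ hgχ T hT, hTd]
  haveI : SmoothOfRelativeDimension d (Spec.map (CommRingCat.ofHom (algebraMap R P.Ring))) :=
    (HasRingHomProperty.Spec_iff (P := @SmoothOfRelativeDimension d)).mpr hloc
  haveI := isIso_uS P.toHom P.toHom_nat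
  rw [hom_eq P.toHom P.toHom_nat]
  have := smoothOfRelativeDimension_comp (n := 0) (m := d) (inv (uS P.toHom))
    (Spec.map (CommRingCat.ofHom (algebraMap R P.Ring)))
  simpa using this

end Tangent

end Groth.Agent.Quad37
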