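import Groth.Agent.Quad37.SODim
import Groth.Agent.Quad37.CD
import Groth.Agent.Quad37.Reflect
import Groth.Agent.Quad37.FibreConn
import Mathlib.RingTheory.Localization.Away.Basic

/-! Connectedness of the fibres of the special orthogonal group schemes. -/

set_option autoImplicit false

universe u

open CategoryTheory AlgebraicGeometry
open scoped TensorProduct

namespace Groth.Agent.Quad37

open Matrix

variable {R : Type u} [CommRing R] {M : Type u} [AddCommGroup M] [Module R M] [Module.Free R M] {n : ℕ}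
  (b : Module.Basis (Fin n) R M) (Q : QuadraticForm R M)

theorem orth_ext {A : Type u} [CommRing A] [Algebra R A] {x y : Coord n → A} (hx : orthF b Q A x = 0)
    (hy : orthF b Q A y = 0) (h : matX x = matX y) : x = y := by
  obtain ⟨-, -, x2⟩ := (orthF_eq_zero_iff b Q A x).mp hx
  obtain ⟨-, y1, -⟩ := (orthF_eq_zero_iff b Q A y).mp hy
  have hY : matY x = matY y := by
    rw [← Matrix.mul_one (matY x), ← y1, ← Matrix.mul_assoc, ← h, x2, Matrix.one_mul]
  funext s
  rcases s with ⟨i, j⟩ | ⟨i, j⟩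
  · exact congrFun₂ h i j
  · exact congrFun₂ hY i j

/-- The identity point. -/
def onePt (A : Type u) [CommRing A] : Coord n → A := coordOf 1 1

theorem orthF_onePt (A : Type u) [CommRing A] [Algebra R A] : orthF b Q A (onePt A) = 0 :=
  (orthF_eq_zero_iff b Q A _).mpr ⟨compCoeffs_one _, Matrix.one_mul _, Matrix.one_mul _⟩

theorem par_onePt (hQ : QuadGrp.IsRegular Q) (A : Type u) [CommRing A] [Algebra R A] :
    par b Q (orthF_onePt b Q A) hQ = 1 := by
  set bA := Algebra.TensorProduct.basis A b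
  have hg : ∀ w, pAut b Q A (onePt A) (orthF_onePt b Q A) w = w := fun w => by
    apply bA.equivFun.injective
    rw [equivFun_pAut]
    exact Matrix.one_mulVec _
  have h1 : (1 : CliffordAlgebra (QuadGrp.baseChangeForm A Q)) ∈
      Tw (QuadGrp.baseChangeForm A Q) (pAut b Q A (onePt A) (orthF_onePt b Q A)) := by
    rw [mem_Tw]; intro w; rw [hg, map_one, mul_one, one_mul]
  have h := (par_spec b Q (orthF_onePt b Q A) hQ).even_fix h1 (SetLike.one_mem_graded _)
  exact sub_eq_zero.mp (smul_one_eq_zero bA (by rw [sub_smul, one_smul, h, sub_self]))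

variable (K : Type u) [Field K] [Algebra R K]

/-- The matrix of the reflection in `v`. -/
noncomputable def rK (v : Fin n → K) : Matrix (Fin n) (Fin n) K := rmat (cf b Q K) (qf (cf b Q K) v)⁻¹ v

/-- Linked orthogonal points with the property `S`. -/
def OrthLinked (S : ∀ (D : Type u) [CommRing D] [Algebra R D], (Coord n → D) → Prop) (x x' : Coord n → K) : Prop :=
  ∃ (D : Type u) (_ : CommRing D) (_ : IsDomain D) (_ : Algebra R D) (_ : Algebra K D) (_ : IsScalarTower R K D)
    (z : Coord n → D) (ψ ψ' : D →ₐ[K] K), orthF b Q D z = 0 ∧ S D z ∧ ⇑ψ ∘ z = x ∧ ⇑ψ' ∘ z = x'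

/-- Moving the pair of reflections in `v, w` to the identity along an integral family. -/
theorem exists_family {v w : Fin n → K} (hv : qf (cf b Q K) v ≠ 0) (hw : qf (cf b Q K) w ≠ 0)
    {x : Coord n → K} (hx : orthF b Q K x = 0) :
    ∃ (D : Type u) (_ : CommRing D) (_ : IsDomain D) (_ : Algebra R D) (_ : Algebra K D) (_ : IsScalarTower R K D)
      (z : Coord n → D) (ψ ψ' : D →ₐ[K] K), orthF b Q D z = 0 ∧
        matX (⇑ψ ∘ z) = rK b Q K v * rK b Q K w * matX x ∧ ⇑ψ' ∘ z = x := by
  classical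
  let qX : MvPolynomial (Fin n) K := qf (fun s => MvPolynomial.C (cf b Q K s)) MvPolynomial.X
  have hev : ∀ u : Fin n → K, MvPolynomial.aeval u qX = qf (cf b Q K) u := fun u => by
    show (MvPolynomial.aeval u).toRingHom qX = _
    rw [qf_map]
    simp
  have hq0 : qX ≠ 0 := fun h => hw (by rw [← hev, h, map_zero])
  let D := Localization.Away qX
  haveI : IsDomain D := IsLocalization.isDomain_localization (powers_le_nonZeroDivisors_of_noZeroDivisors hq0)
  let T : D := algebraMap (MvPolynomial (Fin n) K) D qX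
  let c : D := IsLocalization.Away.invSelf qX
  let Xd : Fin n → D := fun i => algebraMap (MvPolynomial (Fin n) K) D (MvPolynomial.X i)
  let wd : Fin n → D := fun i => algebraMap K D (w i)
  have hcf : cf b Q D = fun s => algebraMap K D (cf b Q K s) := funext fun s =>
    IsScalarTower.algebraMap_apply R K D _
  have hqX : qf (cf b Q D) Xd = T := by
    show _ = algebraMap (MvPolynomial (Fin n) K) D qX
    rw [qf_map, hcf]
    congr 1
  have hc : c * qf (cf b Q D) Xd = 1 := by rw [hqX, mul_comm]; exact IsLocalization.Away.mul_invSelf qX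
  have hcw : algebraMap K D (qf (cf b Q K) w)⁻¹ * qf (cf b Q D) wd = 1 := by
    rw [show qf (cf b Q D) wd = algebraMap K D (qf (cf b Q K) w) by rw [qf_map, hcf], ← map_mul,
      inv_mul_cancel₀ hw, map_one]
  obtain ⟨g0, g1, g2⟩ := (orthF_eq_zero_iff b Q K x).mp hx
  let G := (matX x).map (algebraMap K D)
  let Gi := (matY x).map (algebraMap K D)
  have hG : compCoeffs (cf b Q D) G = cf b Q D := by
    rw [hcf]
    funext s
    rw [← compCoeffs_map, g0]
  let A := rmat (cf b Q D) c Xd
  let B := rmat (cf b Q D) (algebraMap K D (qf (cf b Q K) w)⁻¹) wd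
  have hGG : G * Gi = 1 ∧ Gi * G = 1 := by
    constructor <;> simp only [G, Gi, ← Matrix.map_mul, g1, g2] <;> exact Matrix.map_one _ (map_zero _) (map_one _)
  have hA : A * A = 1 := rmat_mul_self hc
  have hB : B * B = 1 := rmat_mul_self hcw
  let z := coordOf (A * B * G) (Gi * B * A)
  have hz : orthF b Q D z = 0 := (orthF_eq_zero_iff b Q D z).mpr ⟨by
      show compCoeffs _ (A * B * G) = _
      rw [← compCoeffs_comp, ← compCoeffs_comp, compCoeffs_rmat hc, compCoeffs_rmat hcw, hG],
    show (A * B * G) * (Gi * B * A) = 1 by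
      simp only [← Matrix.mul_assoc]
      rw [Matrix.mul_assoc (A * B) G Gi, hGG.1, Matrix.mul_one, Matrix.mul_assoc A B B, hB, Matrix.mul_one, hA],
    show (Gi * B * A) * (A * B * G) = 1 by
      simp only [← Matrix.mul_assoc]
      rw [Matrix.mul_assoc (Gi * B) A A, hA, Matrix.mul_one, Matrix.mul_assoc Gi B B, hB, Matrix.mul_one, hGG.2]⟩
  have hspec : ∀ (u : Fin n → K), qf (cf b Q K) u ≠ 0 → ∃ ψ : D →ₐ[K] K,
      matX (⇑ψ ∘ z) = rK b Q K u * rK b Q K w * matX x := fun u hu => by
    have hunit : IsUnit (MvPolynomial.aeval (R := K) u qX) := by rw [hev]; exact isUnit_iff_ne_zero.mpr hu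
    let ψ : D →ₐ[K] K := IsLocalization.liftAlgHom (M := Submonoid.powers qX) (f := MvPolynomial.aeval u)
      (fun y => by obtain ⟨_, k, rfl⟩ := y; rw [map_pow]; exact hunit.pow k)
    have hψ : ∀ p, ψ (algebraMap (MvPolynomial (Fin n) K) D p) = MvPolynomial.aeval u p := fun p =>
      IsLocalization.lift_eq _ p
    refine ⟨ψ, ?_⟩
    have hψc : ψ c = (qf (cf b Q K) u)⁻¹ := by
      have h1 : ψ c * ψ (qf (cf b Q D) Xd) = 1 := by rw [← map_mul, hc, map_one]
      rw [hqX, show ψ T = qf (cf b Q K) u by rw [hψ, hev]] at h1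
      exact eq_inv_of_mul_eq_one_left h1
    have e : matX (⇑ψ ∘ z) = (A * B * G).map ψ.toRingHom := rfl
    rw [e, Matrix.map_mul, Matrix.map_mul, rmat_map, rmat_map]
    have hs : (fun s => ψ.toRingHom (cf b Q D s)) = cf b Q K := funext fun s => by rw [hcf]; exact ψ.commutes _
    have hXu : (fun i => ψ.toRingHom (Xd i)) = u := funext fun i => (hψ _).trans (MvPolynomial.aeval_X _ _)
    have hwd : (fun i => ψ.toRingHom (wd i)) = w := funext fun i => ψ.commutes _
    have hGm : G.map ψ.toRingHom = matX x := Matrix.ext fun i j => ψ.commutes _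
    rw [hs, hXu, hwd, hGm, show ψ.toRingHom c = (qf (cf b Q K) u)⁻¹ from hψc,
      show ψ.toRingHom (algebraMap K D (qf (cf b Q K) w)⁻¹) = (qf (cf b Q K) w)⁻¹ from ψ.commutes _]
    rfl
  obtain ⟨ψ, hψ⟩ := hspec v hv
  obtain ⟨ψ', hψ'⟩ := hspec w hw
  refine ⟨D, inferInstance, inferInstance, inferInstance, inferInstance, inferInstance, z, ψ, ψ', hz, hψ, ?_⟩
  refine orth_ext b Q (orthF_comp b Q (ψ'.restrictScalars R) hz) hx ?_
  rw [hψ', rK, rmat_mul_self (inv_mul_cancel₀ hw), Matrix.one_mul]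

variable (S : ∀ (D : Type u) [CommRing D] [Algebra R D], (Coord n → D) → Prop)

/-- `S` cuts an open and closed piece of the orthogonal group. -/
def IsInv : Prop :=
  ∀ (D : Type u) [CommRing D] [IsDomain D] [Algebra R D] [Algebra K D] [IsScalarTower R K D] (z : Coord n → D),
    orthF b Q D z = 0 → ∀ ψ : D →ₐ[K] K, S D z ↔ S K (⇑ψ ∘ z)

theorem parity_of_list (hS : IsInv b Q K S) (h1 : S K (onePt K)) :
    ∀ (l : List (Fin n → K)), (∀ v ∈ l, qf (cf b Q K) v ≠ 0) → ∀ x, orthF b Q K x = 0 →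
      matX x = (l.map (rK b Q K)).prod →
      (Even l.length → S K x ∧ Relation.EqvGen (OrthLinked b Q K S) x (onePt K)) ∧
      (Odd l.length → ∃ v ∈ l, ∀ y, orthF b Q K y = 0 → matX y = rK b Q K v → (S K x ↔ S K y)) := by
  intro l
  match l with
  | [] =>
    intro _ x hx hX
    have e : x = onePt K := orth_ext b Q hx (orthF_onePt b Q K) hX
    exact ⟨fun _ => ⟨e ▸ h1, e ▸ Relation.EqvGen.refl _⟩, fun h => absurd h (by simp)⟩
  | [v] =>
    intro _ x hx hX
    refine ⟨fun h => absurd h (by simp), fun _ => ⟨v, by simp, fun y hy hY => ?_⟩⟩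
    rw [orth_ext b Q hx hy (by rw [hX, hY]; simp)]
  | v :: w :: l =>
    intro hl x hx hX
    have hv := hl v (by simp)
    have hw := hl w (by simp)
    simp only [List.map_cons, List.prod_cons] at hX
    obtain ⟨g0, g1, g2⟩ := (orthF_eq_zero_iff b Q K x).mp hx
    have hvv : rK b Q K v * rK b Q K v = 1 := rmat_mul_self (inv_mul_cancel₀ hv)
    have hww : rK b Q K w * rK b Q K w = 1 := rmat_mul_self (inv_mul_cancel₀ hw)
    let y := coordOf (rK b Q K w * rK b Q K v * matX x) (matY x * rK b Q K v * rK b Q K w)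
    have hy : orthF b Q K y = 0 := (orthF_eq_zero_iff b Q K y).mpr ⟨by
        show compCoeffs _ (rK b Q K w * rK b Q K v * matX x) = _
        rw [← compCoeffs_comp, ← compCoeffs_comp, rK, compCoeffs_rmat (inv_mul_cancel₀ hw), rK,
          compCoeffs_rmat (inv_mul_cancel₀ hv), g0],
      show (rK b Q K w * rK b Q K v * matX x) * (matY x * rK b Q K v * rK b Q K w) = 1 by
        simp only [← Matrix.mul_assoc]
        rw [Matrix.mul_assoc (rK b Q K w * rK b Q K v) (matX x), g1, Matrix.mul_one,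
          Matrix.mul_assoc (rK b Q K w) (rK b Q K v), hvv, Matrix.mul_one, hww],
      show (matY x * rK b Q K v * rK b Q K w) * (rK b Q K w * rK b Q K v * matX x) = 1 by
        simp only [← Matrix.mul_assoc]
        rw [Matrix.mul_assoc (matY x * rK b Q K v) (rK b Q K w), hww, Matrix.mul_one,
          Matrix.mul_assoc (matY x) (rK b Q K v), hvv, Matrix.mul_one, g2]⟩
    have hyX : matX y = (l.map (rK b Q K)).prod := by
      show rK b Q K w * rK b Q K v * matX x = _
      rw [hX]
      simp only [← Matrix.mul_assoc]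
      rw [Matrix.mul_assoc (rK b Q K w) (rK b Q K v) (rK b Q K v), hvv, Matrix.mul_one, hww, Matrix.one_mul]
    obtain ⟨ihe, iho⟩ := parity_of_list hS h1 l
      (fun u hu => hl u (List.mem_cons_of_mem _ (List.mem_cons_of_mem _ hu))) y hy hyX
    obtain ⟨D, _, _, _, _, _, z, ψ, ψ', hz, hψ, hψ'⟩ := exists_family b Q K hv hw hy
    have hψx : ⇑ψ ∘ z = x := by
      refine orth_ext b Q (orthF_comp b Q (ψ.restrictScalars R) hz) hx ?_
      rw [hψ]
      show rK b Q K v * rK b Q K w * (rK b Q K w * rK b Q K v * matX x) = matX x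
      simp only [← Matrix.mul_assoc]
      rw [Matrix.mul_assoc (rK b Q K v) (rK b Q K w), hww, Matrix.mul_one, hvv, Matrix.one_mul]
    have hiff : S K x ↔ S K y := by rw [← hψx, ← hS D z hz ψ, hS D z hz ψ', hψ']
    refine ⟨fun he => ?_, fun ho => ?_⟩
    · obtain ⟨hy1, hy2⟩ := ihe (by simpa [Nat.even_add_one] using he)
      have hzS : S D z := (hS D z hz ψ').mpr (by rw [hψ']; exact hy1)
      exact ⟨hiff.mpr hy1, Relation.EqvGen.trans _ _ _
        (Relation.EqvGen.rel _ _ ⟨D, inferInstance, inferInstance, inferInstance, inferInstance, inferInstance,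
          z, ψ, ψ', hz, hzS, hψx, hψ'⟩) hy2⟩
    · obtain ⟨u, hu, hu'⟩ := iho (by simpa [Nat.odd_add_one] using ho)
      exact ⟨u, List.mem_cons_of_mem _ (List.mem_cons_of_mem _ hu), fun y' hy' hY' => hiff.trans (hu' y' hy' hY')⟩

theorem toLin'_rK (v : Fin n → K) : Matrix.toLin' (rK b Q K v) = reflEnd (qf (cf b Q K)) v :=
  LinearMap.ext fun w => by rw [Matrix.toLin'_apply, rK, rmat_mulVec, reflEnd_apply]

variable {K} in
theorem exists_list [IsAlgClosed K] (hnd : NonDeg (qf (cf b Q K))) {x : Coord n → K} (hx : orthF b Q K x = 0) :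
    ∃ l : List (Fin n → K), (∀ v ∈ l, qf (cf b Q K) v ≠ 0) ∧ matX x = (l.map (rK b Q K)).prod := by
  obtain ⟨g0, g1, g2⟩ := (orthF_eq_zero_iff b Q K x).mp hx
  obtain ⟨l, hl, he⟩ := isReflProd_of_isometry _ rfl (qf (cf b Q K)) hnd (Matrix.toLin' (matX x))
    (fun w => by rw [Matrix.toLin'_apply]; exact qf_mulVec g0 w)
    (fun v w h => by
      have := congrArg (fun t => matY x *ᵥ t) h
      simpa [Matrix.toLin'_apply, Matrix.mulVec_mulVec, g2] using this)
  refine ⟨l, hl, Matrix.toLin'.injective ?_⟩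
  rw [he]
  clear he hl
  induction l with
  | nil => exact Matrix.toLin'_one.symm
  | cons v l ih => simp [ih, Matrix.toLin'_mul, toLin'_rK, Module.End.mul_eq_comp]

/-- Every point with `S` is joined to the identity. -/
theorem eqvGen_onePt [IsAlgClosed K] (hnd : NonDeg (qf (cf b Q K))) (hS : IsInv b Q K S) (h1 : S K (onePt K))
    (hr : (∀ v y, qf (cf b Q K) v ≠ 0 → orthF b Q K y = 0 → matX y = rK b Q K v → ¬ S K y) ∨
      ∃ v, qf (cf b Q K) v ≠ 0 ∧ rK b Q K v = 1)
    {x : Coord n → K} (hx : orthF b Q K x = 0) (hxS : S K x) :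
    Relation.EqvGen (OrthLinked b Q K S) x (onePt K) := by
  obtain ⟨l, hl, hX⟩ := exists_list b Q hnd hx
  rcases Nat.even_or_odd l.length with he | ho
  · exact ((parity_of_list b Q K S hS h1 l hl x hx hX).1 he).2
  · rcases hr with hr | ⟨v0, hv0, hr0⟩
    · obtain ⟨v, hv, hv'⟩ := (parity_of_list b Q K S hS h1 l hl x hx hX).2 ho
      have h0 : orthF b Q K (coordOf (rK b Q K v) (rK b Q K v)) = 0 := (orthF_eq_zero_iff b Q K _).mpr
        ⟨compCoeffs_rmat (inv_mul_cancel₀ (hl v hv)), rmat_mul_self (inv_mul_cancel₀ (hl v hv)),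
          rmat_mul_self (inv_mul_cancel₀ (hl v hv))⟩
      exact absurd ((hv' _ h0 rfl).mp hxS) (hr v _ (hl v hv) h0 rfl)
    · refine ((parity_of_list b Q K S hS h1 (v0 :: l) ?_ x hx ?_).1 ?_).2
      · exact List.forall_mem_cons.mpr ⟨hv0, hl⟩
      · rw [List.map_cons, List.prod_cons, hr0, Matrix.one_mul, hX]
      · simpa [Nat.even_add_one] using Nat.not_even_iff_odd.mpr ho

theorem nonDeg_regular (hQ : QuadGrp.IsRegular Q) : NonDeg (qf (cf b Q K)) := fun v hv _ => by
  have hu := isUnit_Pm_cf b Q K (isUnit_Pm_of_regular b Q hQ)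
  have h0 : v ᵥ* Pm (cf b Q K) = 0 := funext fun i => by
    have := hv (Pi.single i 1)
    rwa [polar_qf_eq, dotProduct_single, mul_one] at this
  have := congrArg (fun t => t ᵥ* (Pm (cf b Q K))⁻¹) h0
  simpa [Matrix.vecMul_vecMul, Matrix.mul_nonsing_inv _ hu] using this

section Groups

variable {G : Over (Spec (CommRingCat.of R))} [GrpObj G]

include b in
theorem connected_even (hQ : QuadGrp.IsRegular Q) (hn : Even n) (D : QuadGrp.SOrthRep Q G)
    (s : ↥(Spec (CommRingCat.of R))) : ConnectedSpace ↥(G.hom.fiber s) := by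
  refine (soPresentation b Q hQ hn D).connectedSpace_fiber (fun K _ _ _ => ?_) s
  let S : ∀ (A : Type u) [CommRing A] [Algebra R A], (Coord n → A) → Prop :=
    fun A _ _ x => ∃ h : orthF b Q A x = 0, par b Q h hQ = 1
  have hS : IsInv b Q K S := fun A _ _ _ _ _ z hz ψ => by
    have hψz : orthF b Q K (⇑ψ ∘ z) = 0 := orthF_comp b Q (ψ.restrictScalars R) hz
    have hnat : par b Q hψz hQ = ψ (par b Q hz hQ) := par_natural b Q hz hQ (ψ.restrictScalars R) hψz
    rcases (IsIdempotentElem.iff_eq_zero_or_one (p := par b Q hz hQ)).mp (par_spec b Q hz hQ).1 with h | h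
    · exact iff_of_false (fun ⟨_, h'⟩ => zero_ne_one (h.symm.trans h'))
        (fun ⟨_, h'⟩ => zero_ne_one (((map_zero ψ).symm.trans (by rw [← h])).trans (hnat.symm.trans h')))
    · exact iff_of_true ⟨hz, h⟩ ⟨hψz, by rw [hnat, h, map_one]⟩
  refine ⟨onePt K, (soF_eq_zero_iff b Q hQ K _).mpr ⟨orthF_onePt b Q K, par_onePt b Q hQ K⟩,
    fun x hx => ?_⟩
  obtain ⟨hx0, hx1⟩ := (soF_eq_zero_iff b Q hQ K x).mp hx
  refine Relation.EqvGen.mono ?_ _ _ (eqvGen_onePt b Q K S (nonDeg_regular b Q K hQ) hS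
    ⟨orthF_onePt b Q K, par_onePt b Q hQ K⟩ (Or.inl ?_) hx0 ⟨hx0, hx1⟩)
  · rintro x x' ⟨A, _, _, _, _, _, z, ψ, ψ', -, hzS, hψ, hψ'⟩
    exact ⟨A, inferInstance, inferInstance, inferInstance, inferInstance, inferInstance, z, ψ, ψ',
      (soF_eq_zero_iff b Q hQ A z).mpr hzS, hψ, hψ'⟩
  · rintro v y hv hy hY ⟨_, h'⟩
    exact zero_ne_one ((par_reflection b Q hy hQ (inv_mul_cancel₀ hv) hY).symm.trans h')

theorem connected_odd {k : ℕ} (b : Module.Basis (Fin (k + 1)) R M) (hk : Even k)
    (hQ : QuadGrp.IsSemiregular b (LinearEquiv.refl R R) Q) (D : QuadGrp.SOrthRep Q G)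
    (s : ↥(Spec (CommRingCat.of R))) : ConnectedSpace ↥(G.hom.fiber s) := by
  refine (sorthPresentation b Q (sorth'RepOfOdd b Q hk.add_one D)).connectedSpace_fiber (fun K _ _ _ => ?_) s
  let S : ∀ (A : Type u) [CommRing A] [Algebra R A], (Coord (k + 1) → A) → Prop := fun A _ _ x => (matX x).det = 1
  obtain ⟨b', ho, hq0, hdet⟩ := exists_orth_basis hk (Pi.basisFun K (Fin (k + 1))) (qf (cf b Q K))
    (by rw [QuadGrp.IsSemiregular, QuadGrp.halfDisc, coeffs_qf]; exact isUnit_halfDisc_cf b Q K hQ)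
  set q := qf (cf b Q K)
  have hrad : ∀ j : Fin k, QuadraticMap.polar q (b' j.succ) (b' 0) = 0 := fun j => by
    rw [QuadraticMap.polar_comm q, ho]
  have hnd : NonDeg q := fun v hv hq => by
    have hsum := b'.sum_repr v
    have hcoef : ∀ j : Fin k, b'.repr v j.succ = 0 := by
      have h0 : (fun j : Fin k => b'.repr v j.succ) ᵥ* restGram b' q = 0 := funext fun j => by
        have := hv (b' j.succ)
        rw [← hsum, ← QuadraticMap.polarBilin_apply_apply, map_sum, LinearMap.sum_apply, Fin.sum_univ_succ] at this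
        simp only [map_smul, LinearMap.smul_apply, QuadraticMap.polarBilin_apply_apply, ho, smul_zero, zero_add] at this
        simpa [Matrix.vecMul, dotProduct, restGram] using this
      have := congrArg (fun t => t ᵥ* (restGram b' q)⁻¹) h0
      simp only [Matrix.vecMul_vecMul, Matrix.mul_nonsing_inv _ hdet, Matrix.vecMul_one, Matrix.zero_vecMul] at this
      exact congrFun this
    have hv0 : v = b'.repr v 0 • b' 0 := by
      conv_lhs => rw [← hsum, Fin.sum_univ_succ]
      simp [hcoef]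
    rw [hv0, QuadraticMap.map_smul, smul_eq_mul, mul_eq_zero, mul_self_eq_zero] at hq
    rw [hv0, hq.resolve_right hq0.ne_zero, zero_smul]
  have hS : IsInv b Q K S := fun A _ _ _ _ _ z hz ψ => by
    obtain ⟨h0, h1, -⟩ := (orthF_eq_zero_iff b Q A z).mp hz
    obtain ⟨g0, -, -⟩ := (orthF_eq_zero_iff b Q K (⇑ψ ∘ z)).mp (orthF_comp b Q (ψ.restrictScalars R) hz)
    have hd : (matX (⇑ψ ∘ z)).det = ψ (matX z).det := by
      rw [AlgHom.map_det]; rfl
    have hsq : (matX z).det * (matX z).det = 1 := by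
      have hu : IsUnit (qf (cf b Q K) (b' 0)) := hq0
      have := halfDisc_qf_comp hk.add_one (cf b Q A) (matX z)
      rw [h0] at this
      have hne : IsUnit (MvPolynomial.eval₂ (Int.castRingHom A) (cf b Q A) (QuadGrp.halfDiscUniv (k + 1))) :=
        isUnit_halfDisc_cf b Q A hQ
      rw [pow_two] at this
      exact hne.mul_right_cancel (this.symm.trans (one_mul _).symm)
    rcases mul_self_eq_one_iff.mp hsq with h | h
    · exact iff_of_true h (by show _ = 1; rw [hd, h, map_one])
    · show (matX z).det = 1 ↔ (matX (⇑ψ ∘ z)).det = 1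
      rw [hd, h, map_neg, map_one]
      exact ⟨fun e => by simpa using congrArg ψ e, fun e => by simpa using congrArg (algebraMap K A) e⟩
  have hone : S K (onePt K) := by
    show (matX (onePt (n := k + 1) K)).det = 1
    exact Matrix.det_one
  refine ⟨onePt K, (sorthF_eq_zero_iff b Q K _).mpr ⟨orthF_onePt b Q K, hone⟩, fun x hx => ?_⟩
  obtain ⟨hx0, hx1⟩ := (sorthF_eq_zero_iff b Q K x).mp hx
  refine Relation.EqvGen.mono ?_ _ _ (eqvGen_onePt b Q K S hnd hS hone ?_ hx0 hx1)
  · rintro x x' ⟨A, _, _, _, _, _, z, ψ, ψ', hz, hzS, hψ, hψ'⟩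
    exact ⟨A, inferInstance, inferInstance, inferInstance, inferInstance, inferInstance, z, ψ, ψ',
      (sorthF_eq_zero_iff b Q A z).mpr ⟨hz, hzS⟩, hψ, hψ'⟩
  · by_cases h2 : (2 : K) = 0
    · refine Or.inr ⟨b' 0, hq0.ne_zero, ?_⟩
      have hall : ∀ w, QuadraticMap.polar q (b' 0) w = 0 := fun w => by
        rw [← b'.sum_repr w, ← QuadraticMap.polarBilin_apply_apply, map_sum, Fin.sum_univ_succ]
        simp [ho, QuadraticMap.polar_self, h2]
      refine Matrix.ext_of_mulVec_single fun i => ?_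
      rw [rK, rmat_mulVec, hall, mul_zero, zero_smul, sub_zero, Matrix.one_mulVec]
    · refine Or.inl fun v y hv _ hY h => h2 ?_
      have e : (matX y).det = 1 := h
      rw [hY, rK, det_rmat (inv_mul_cancel₀ hv)] at e
      linear_combination -e

end Groups

end Groth.Agent.Quad37
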