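import Groth.Agent.Quad37.SOTangent

/-! The relative dimension of the special orthogonal group schemes. -/

set_option autoImplicit false

universe u

open CategoryTheory AlgebraicGeometry
open TrivSqZeroExt (inl inr fst snd)

namespace Groth.Agent.Quad37

open Matrix
open scoped TensorProduct

variable {R : Type u} [CommRing R] {M : Type u} [AddCommGroup M] [Module R M] [Module.Free R M] {m : ℕ}
  (Q : QuadraticForm R M) {G : Over (Spec (CommRingCat.of R))} [GrpObj G]

theorem finrank_map_tan {n : ℕ} (b : Module.Basis (Fin n) R M) {K : Type u} [Field K] [Algebra R K]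
    {x : Coord n → K} (hx : orthF b Q K x = 0) (S : Submodule K (Matrix (Fin n) (Fin n) K)) :
    Module.finrank K (S.map (tanMap x)) = Module.finrank K S :=
  (Submodule.equivMapOfInjective (tanMap x) (tanMap_injective b Q hx) S).finrank_eq.symm

theorem choose_two_mul (n : ℕ) : 2 * (n + 1).choose 2 = n * (n + 1) := by
  induction n with
  | zero => rfl
  | succ n ih =>
    rw [Nat.choose_succ_succ' (n + 1) 1, Nat.choose_one_right, mul_add, ih]
    ring

theorem idem_eq_one {A : Type u} [CommRing A] {I : Ideal A} (hI : I ^ 2 = ⊥) {p : A} (hp : p * p = p)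
    (hd : p - 1 ∈ I) : p = 1 := by
  linear_combination -mul_eq_zero_of_mem hI hd hd + hp

theorem par_congr {n : ℕ} (b : Module.Basis (Fin n) R M) (hQ : QuadGrp.IsRegular Q) {A : Type u} [CommRing A]
    [Algebra R A] {x y : Coord n → A} (h : x = y) (hx : orthF b Q A x = 0) (hy : orthF b Q A y = 0) :
    par b Q hx hQ = par b Q hy hQ := by subst h; rfl

theorem mem_tan_even {n : ℕ} (b : Module.Basis (Fin n) R M) (hQ : QuadGrp.IsRegular Q) {K : Type u} [Field K]
    [Algebra R K] {x : Coord n → K} (hx : soF b Q hQ K x = 0) (v : Coord n → K) :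
    v ∈ (LinearMap.ker (dq (cf b Q K))).map (tanMap x) ↔ soF b Q hQ (DualNumber K) (epsCoord x v) = 0 := by
  obtain ⟨hx0, hp⟩ := (soF_eq_zero_iff b Q hQ K x).mp hx
  rw [Submodule.mem_map, soF_eq_zero_iff]
  constructor
  · rintro ⟨W, hW, rfl⟩
    have he := (orthF_eps_iff b Q hx0 _).mpr ⟨W, hW, rfl⟩
    refine ⟨he, ?_⟩
    let π : DualNumber K →ₐ[R] K := TrivSqZeroExt.fstHom R K K
    have hcomp : π ∘ epsCoord x (tanMap x W) = x := funext fun s => by
      show fst (inl (x s) + inr (tanMap x W s)) = x s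
      simp
    have hpar : π (par b Q he hQ) = 1 := by
      rw [← par_natural b Q he hQ π (orthF_comp b Q π he), ← hp]
      exact par_congr Q b hQ hcomp _ _
    have hd : par b Q he hQ - 1 ∈ epsI K := by
      rw [mem_epsI, TrivSqZeroExt.fst_sub, TrivSqZeroExt.fst_one, sub_eq_zero]
      exact hpar
    exact idem_eq_one (A := DualNumber K) epsI_sq (par_spec b Q he hQ).1.eq hd
  · rintro ⟨he, -⟩
    obtain ⟨W, hW, h⟩ := (orthF_eps_iff b Q hx0 v).mp he
    exact ⟨W, hW, h⟩

theorem smoothOfRelativeDimension_even (b : Module.Basis (Fin (2 * m)) R M) (hQ : QuadGrp.IsRegular Q)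
    (D : QuadGrp.SOrthRep Q G) : SmoothOfRelativeDimension (m * (2 * m - 1)) G.hom := by
  have hn := even_two_mul m
  refine (soPresentation b Q hQ hn D).smoothOfRelativeDimension (smooth_sorth_even b Q hQ hn D) _
    fun K _ _ (x : Coord (2 * m) → K) (hx : soF b Q hQ K x = 0) =>
      ⟨(LinearMap.ker (dq (cf b Q K))).map (tanMap x), mem_tan_even Q b hQ hx, ?_⟩
  show Module.finrank K ((LinearMap.ker (dq (cf b Q K))).map (tanMap x)) = _
  rw [finrank_map_tan Q b ((soF_eq_zero_iff b Q hQ K x).mp hx).1]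
  have h := finrank_ker_dq (isUnit_Pm_cf b Q K (isUnit_Pm_of_regular b Q hQ))
  have h2 := choose_two_mul (2 * m)
  have e : 2 * m * (2 * m + 1) + 2 * (m * (2 * m - 1)) = 2 * (2 * m * (2 * m)) := by
    rcases m with _ | l
    · rfl
    · rw [show 2 * (l + 1) - 1 = 2 * l + 1 by omega]; ring
  omega

theorem det_one_add_eps {n : ℕ} {K : Type u} [CommRing K] (W : Matrix (Fin n) (Fin n) K) :
    (1 + epsMat W).det = 1 + inr W.trace := by
  rw [det_one_add (A := DualNumber K) (I := epsI K) epsI_sq (epsMat_mem W)]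
  congr 1
  apply TrivSqZeroExt.ext <;> simp [Matrix.trace, epsMat, TrivSqZeroExt.fst_sum, TrivSqZeroExt.snd_sum]

theorem det_eps {n : ℕ} {K : Type u} [Field K] {x : Coord n → K} (hdet : (matX x).det = 1)
    (W : Matrix (Fin n) (Fin n) K) : (matX (epsCoord x (tanMap x W))).det = 1 ↔ W.trace = 0 := by
  have hv : matX (tanMap x W) = matX x * W := rfl
  have e : (matX x).map (TrivSqZeroExt.inlHom K K) + (matX x).map (TrivSqZeroExt.inlHom K K) * epsMat W =
      (matX x).map (TrivSqZeroExt.inlHom K K) * (1 + epsMat W) := by rw [Matrix.mul_add, Matrix.mul_one]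
  rw [matX_eps, hv, ← mul_epsMat, e, Matrix.det_mul, det_one_add_eps, ← RingHom.mapMatrix_apply,
    ← RingHom.map_det, hdet, map_one, one_mul, add_eq_left]
  constructor
  · intro h
    exact TrivSqZeroExt.inr_injective (R := K) (M := K) (h.trans (TrivSqZeroExt.inr_zero K).symm)
  · intro h
    rw [h]
    exact TrivSqZeroExt.inr_zero K

theorem mem_tan_odd {n : ℕ} (b : Module.Basis (Fin n) R M) {K : Type u} [Field K]
    [Algebra R K] {x : Coord n → K} (hx : sorthF b Q K x = 0) (v : Coord n → K) :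
    v ∈ (LinearMap.ker (dqTr (cf b Q K))).map (tanMap x) ↔ sorthF b Q (DualNumber K) (epsCoord x v) = 0 := by
  obtain ⟨hx0, hdet⟩ := (sorthF_eq_zero_iff b Q K x).mp hx
  rw [Submodule.mem_map, sorthF_eq_zero_iff]
  constructor
  · rintro ⟨W, hW, rfl⟩
    simp only [LinearMap.mem_ker, dqTr, LinearMap.prod_apply, Function.prod, Prod.mk_eq_zero] at hW
    exact ⟨(orthF_eps_iff b Q hx0 _).mpr ⟨W, hW.1, rfl⟩, (det_eps hdet W).mpr hW.2⟩
  · rintro ⟨he, hd⟩
    obtain ⟨W, hW, rfl⟩ := (orthF_eps_iff b Q hx0 v).mp he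
    refine ⟨W, ?_, rfl⟩
    simp only [LinearMap.mem_ker, dqTr, LinearMap.prod_apply, Function.prod, Prod.mk_eq_zero]
    exact ⟨hW, (det_eps hdet W).mp hd⟩

theorem smoothOfRelativeDimension_odd (b : Module.Basis (Fin (2 * m + 1)) R M)
    (hQ : QuadGrp.IsSemiregular b (LinearEquiv.refl R R) Q) (D : QuadGrp.SOrthRep Q G) :
    SmoothOfRelativeDimension (m * (2 * m + 1)) G.hom := by
  have hn : Odd (2 * m + 1) := odd_two_mul_add_one m
  let D' := sorth'RepOfOdd b Q hn D
  refine (sorthPresentation b Q D').smoothOfRelativeDimension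
    (smooth_sorth' b Q D' ⟨fun he => absurd he (Nat.not_even_iff_odd.mpr hn), fun _ => hQ⟩ (Or.inl hn)) _
    fun K _ _ (x : Coord (2 * m + 1) → K) (hx : sorthF b Q K x = 0) =>
      ⟨(LinearMap.ker (dqTr (cf b Q K))).map (tanMap x), mem_tan_odd Q b hx, ?_⟩
  show Module.finrank K ((LinearMap.ker (dqTr (cf b Q K))).map (tanMap x)) = _
  rw [finrank_map_tan Q b ((sorthF_eq_zero_iff b Q K x).mp hx).1]
  have h := finrank_ker_dqTr (even_two_mul m) (isUnit_halfDisc_cf b Q K hQ)
  have h2 := choose_two_mul (2 * m + 1)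
  rw [show 2 * m + 1 + 1 = 2 * m + 2 from rfl] at h2
  have e : (2 * m + 1) * (2 * m + 2) + 2 * (m * (2 * m + 1)) = 2 * ((2 * m + 1) * (2 * m + 1)) := by ring
  omega

end Groth.Agent.Quad37
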