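import Groth.Agent.Quad37.OrthParity

/-! The special orthogonal group scheme in coordinates. -/

set_option autoImplicit false

universe u

open CategoryTheory AlgebraicGeometry

attribute [local instance] CategoryTheory.Hom.monoid

namespace Groth.Agent.Quad37

open Matrix CliffordAlgebra
open scoped TensorProduct

variable {R : Type u} [CommRing R] {M : Type u} [AddCommGroup M] [Module R M] [Module.Free R M] {n : ℕ}
  (b : Module.Basis (Fin n) R M) (Q : QuadraticForm R M)

theorem pAut_orthEquiv (A : Type u) [CommRing A] [Algebra R A] (g : ↥(QuadGrp.orth Q A))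
    (h : orthF b Q A (orthEquiv b Q A g).1 = 0) : pAut b Q A (orthEquiv b Q A g).1 h = g.1 :=
  congrArg Subtype.val ((orthEquiv b Q A).symm_apply_apply g)

theorem eq_one_of_subsingleton (A : Type u) [CommRing A] [Algebra R A] [Subsingleton A]
    (g : (A ⊗[R] M) ≃ₗ[A] (A ⊗[R] M)) : g = 1 := by
  haveI : Subsingleton (A ⊗[R] M) := Module.subsingleton A _
  exact LinearEquiv.ext fun v => Subsingleton.elim _ _

include b in
theorem finrank_baseChange (A : Type u) [CommRing A] [Algebra R A] [Nontrivial A] :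
    Module.finrank A (A ⊗[R] M) = n := by
  rw [Module.finrank_eq_card_basis (Algebra.TensorProduct.basis A b), Fintype.card_fin]

include b in
theorem mem_sorth_odd (hn : Odd n) (A : Type u) [CommRing A] [Algebra R A] (g : (A ⊗[R] M) ≃ₗ[A] (A ⊗[R] M)) :
    g ∈ QuadGrp.sorth Q A ↔ g ∈ QuadGrp.sorth' Q A := by
  rcases subsingleton_or_nontrivial A with hA | hA
  · rw [eq_one_of_subsingleton A g]; exact iff_of_true (one_mem _) (one_mem _)
  · rw [QuadGrp.sorth, QuadGrp.SO, finrank_baseChange b A, if_neg (Nat.not_even_iff_odd.mpr hn)]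
    exact ⟨fun h => ⟨(mem_orth_iff Q g).mpr h.1, h.2⟩, fun h => ⟨(mem_orth_iff Q g).mp h.1, h.2⟩⟩

variable {G : Over (Spec (CommRingCat.of R))} [GrpObj G]

include b in
/-- In odd rank `SO` is `SO'`. -/
noncomputable def sorth'RepOfOdd (hn : Odd n) (D : QuadGrp.SOrthRep Q G) : QuadGrp.SOrth'Rep Q G where
  pts A _ _ := (D.pts A).trans
    { Equiv.subtypeEquivRight (mem_sorth_odd b Q hn A) with map_mul' := fun _ _ => rfl }
  natural A B _ _ _ _ φ y m := D.natural A B φ y m

/-- The ideal of the orthogonal group. -/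
noncomputable def orthRel : Ideal (MvPolynomial (Coord n) R) :=
  Ideal.span (Set.range (orthF b Q (MvPolynomial (Coord n) R) MvPolynomial.X))

/-- The coordinate ring of the orthogonal group. -/
abbrev ORing : Type u := MvPolynomial (Coord n) R ⧸ orthRel b Q

/-- The universal point of the orthogonal group. -/
noncomputable def oPt : Coord n → ORing b Q :=
  Ideal.Quotient.mkₐ R (orthRel b Q) ∘ MvPolynomial.X

theorem oPt_orthF : orthF b Q (ORing b Q) (oPt b Q) = 0 := funext fun i => by
  rw [oPt, ← orthF_nat]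
  exact Ideal.Quotient.eq_zero_iff_mem.mpr (show _ ∈ orthRel b Q from Ideal.subset_span (Set.mem_range_self i))

/-- The map out of the coordinate ring at a point. -/
noncomputable def oHom {A : Type u} [CommRing A] [Algebra R A] {x : Coord n → A} (hx : orthF b Q A x = 0) :
    ORing b Q →ₐ[R] A :=
  Ideal.Quotient.liftₐ (orthRel b Q) (MvPolynomial.aeval x) fun a ha => by
    refine (Ideal.span_le.mpr ?_ : orthRel b Q ≤ RingHom.ker (MvPolynomial.aeval x)) ha
    rintro _ ⟨i, rfl⟩
    rw [SetLike.mem_coe, RingHom.mem_ker, orthF_nat b Q (MvPolynomial.aeval x) MvPolynomial.X i,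
      show (MvPolynomial.aeval x ∘ MvPolynomial.X) = x from funext fun s => MvPolynomial.aeval_X x s, hx]
    rfl

variable (hQ : QuadGrp.IsRegular Q)

/-- A polynomial representing the parity. -/
noncomputable def parPoly : MvPolynomial (Coord n) R :=
  (Ideal.Quotient.mk_surjective (par b Q (oPt_orthF b Q) hQ)).choose

theorem aeval_parPoly {A : Type u} [CommRing A] [Algebra R A] {x : Coord n → A} (hx : orthF b Q A x = 0) :
    MvPolynomial.aeval x (parPoly b Q hQ) = par b Q hx hQ := by
  have hcomp : oHom b Q hx ∘ oPt b Q = x := funext fun s => MvPolynomial.aeval_X x s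
  have h := par_natural b Q (oPt_orthF b Q) hQ (oHom b Q hx) (orthF_comp b Q _ (oPt_orthF b Q))
  rw [← (Ideal.Quotient.mk_surjective (par b Q (oPt_orthF b Q) hQ)).choose_spec] at h
  refine Eq.trans ?_ (h.symm.trans ?_)
  · rfl
  · exact par_eq b Q _ hQ (by simp only [hcomp]; exact par_spec b Q hx hQ)

/-- The equations of `SO` in even rank. -/
noncomputable def soF (A : Type u) [CommRing A] [Algebra R A] (x : Coord n → A) : OrthEq n ⊕ Unit → A :=
  Sum.elim (orthF b Q A x) (fun _ => MvPolynomial.aeval x (parPoly b Q hQ) - 1)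

theorem soF_eq_zero_iff (A : Type u) [CommRing A] [Algebra R A] (x : Coord n → A) :
    soF b Q hQ A x = 0 ↔ ∃ hx : orthF b Q A x = 0, par b Q hx hQ = 1 := by
  constructor
  · intro h
    have h0 : orthF b Q A x = 0 := funext fun i => congrFun h (Sum.inl i)
    exact ⟨h0, by rw [← aeval_parPoly b Q hQ h0]; exact sub_eq_zero.mp (congrFun h (Sum.inr ()))⟩
  · rintro ⟨h0, h1⟩
    funext i
    rcases i with i | _
    · exact congrFun h0 i
    · exact sub_eq_zero.mpr (by rw [aeval_parPoly b Q hQ h0, h1])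

theorem mem_sorth_even_iff (hn : Even n) (A : Type u) [CommRing A] [Algebra R A] (g : ↥(QuadGrp.orth Q A))
    (h : orthF b Q A (orthEquiv b Q A g).1 = 0) :
    g.1 ∈ QuadGrp.sorth Q A ↔ par b Q h hQ = 1 := by
  rcases subsingleton_or_nontrivial A with hA | hA
  · rw [eq_one_of_subsingleton A g.1]; exact iff_of_true (one_mem _) (Subsingleton.elim _ _)
  · have hO := (mem_orth_iff Q g.1).mp g.2
    have he : IsParity (QuadGrp.baseChangeForm A Q) g.1 (par b Q h hQ) := by
      have := par_spec b Q h hQ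
      rwa [pAut_orthEquiv] at this
    rw [← dickson_iff (Algebra.TensorProduct.basis A b) (isRegular_baseChange b Q A hQ) hn hO he,
      QuadGrp.sorth, QuadGrp.SO, finrank_baseChange b A, if_pos hn]
    exact ⟨fun ⟨_, hd⟩ => hd, fun hd => ⟨hO, hd⟩⟩

theorem orth_of_mem_sorth_even (hn : Even n) (A : Type u) [CommRing A] [Algebra R A]
    (g : ↥(QuadGrp.sorth Q A)) (hb : Module.Basis (Fin n) R M) : g.1 ∈ QuadGrp.orth Q A := by
  rcases subsingleton_or_nontrivial A with hA | hA
  · rw [eq_one_of_subsingleton A g.1]; exact one_mem _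
  · have h := g.2
    simp only [QuadGrp.sorth, QuadGrp.SO, finrank_baseChange hb A, if_pos hn] at h
    exact (mem_orth_iff Q g.1).mpr h.1

/-- Points of `SO` in coordinates, even rank. -/
noncomputable def soEquiv (hn : Even n) (A : Type u) [CommRing A] [Algebra R A] :
    ↥(QuadGrp.sorth Q A) ≃ {x : Coord n → A // soF b Q hQ A x = 0} where
  toFun g := ⟨(orthEquiv b Q A ⟨g.1, orth_of_mem_sorth_even Q hn A g b⟩).1,
    (soF_eq_zero_iff b Q hQ A _).mpr ⟨(orthEquiv b Q A _).2, (mem_sorth_even_iff b Q hQ hn A _ _).mp g.2⟩⟩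
  invFun x := ⟨((orthEquiv b Q A).symm ⟨x.1, ((soF_eq_zero_iff b Q hQ A _).mp x.2).1⟩).1,
    (mem_sorth_even_iff b Q hQ hn A _ (orthEquiv b Q A _).2).mpr (by
      obtain ⟨hx, h1⟩ := (soF_eq_zero_iff b Q hQ A _).mp x.2
      refine (par_eq b Q _ hQ ?_).trans h1
      have := par_spec b Q hx hQ
      simp only [Equiv.apply_symm_apply]
      exact this)⟩
  left_inv g := Subtype.ext <| congrArg (fun z : ↥(QuadGrp.orth Q A) => z.1)
    ((orthEquiv b Q A).symm_apply_apply ⟨g.1, orth_of_mem_sorth_even Q hn A g b⟩)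
  right_inv x := Subtype.ext <| congrArg (fun z : {x : Coord n → A // orthF b Q A x = 0} => z.1)
    ((orthEquiv b Q A).apply_symm_apply ⟨x.1, ((soF_eq_zero_iff b Q hQ A _).mp x.2).1⟩)

/-- The presentation of `SO`, even rank. -/
noncomputable def soPresentation (hn : Even n) (D : QuadGrp.SOrthRep Q G) : Presentation R G where
  σ := Coord n
  ι := OrthEq n ⊕ Unit
  F := fun A _ _ => soF b Q hQ A
  F_nat := fun A B _ _ _ _ φ x i => by
    rcases i with i | _
    · exact orthF_nat b Q φ x i
    · show φ (MvPolynomial.aeval x (parPoly b Q hQ) - 1) = MvPolynomial.aeval (φ ∘ x) (parPoly b Q hQ) - 1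
      rw [map_sub, map_one, ← AlgHom.comp_apply, MvPolynomial.comp_aeval]
      rfl
  e := fun A _ _ => (D.pts A).toEquiv.trans (soEquiv b Q hQ hn A)
  e_nat := fun A B _ _ _ _ φ y => matX_natural b Q φ ⟨_, orth_of_mem_sorth_even Q hn A (D.pts A y) b⟩
    ⟨_, orth_of_mem_sorth_even Q hn B (D.pts B (QuadGrp.specOverMap R φ ≫ y)) b⟩ (D.natural A B φ y)

include b hQ in
theorem smooth_sorth_even (hn : Even n) (D : QuadGrp.SOrthRep Q G) :
    AlgebraicGeometry.Smooth G.hom := by
  refine (soPresentation b Q hQ hn D).smooth fun A _ _ I hI (y : Coord n → A)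
    (hy : ∀ i, soF b Q hQ A y i ∈ I) => ?_
  obtain ⟨W, hW, h⟩ := exists_lift_orth hI (isUnit_Pm_cf b Q A (isUnit_Pm_of_regular b Q hQ)) (X := matX y)
    fun s => hy (Sum.inl (Sum.inl s))
  obtain ⟨x, hx, h0, -⟩ := exists_lift_coord b Q A hI y (fun i => hy (Sum.inl i)) hW h
  refine ⟨x, hx, (soF_eq_zero_iff b Q hQ A x).mpr ⟨h0, ?_⟩⟩
  have hd : par b Q h0 hQ - 1 ∈ I := by
    rw [← aeval_parPoly b Q hQ h0, ← Ideal.Quotient.eq, map_one, ← Ideal.Quotient.mkₐ_eq_mk R,
      ← AlgHom.comp_apply, MvPolynomial.comp_aeval]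
    have h1 : MvPolynomial.aeval (fun s => Ideal.Quotient.mkₐ R I (y s)) (parPoly b Q hQ) = 1 := by
      rw [← MvPolynomial.comp_aeval, AlgHom.comp_apply, Ideal.Quotient.mkₐ_eq_mk, ← map_one (Ideal.Quotient.mk I),
        Ideal.Quotient.eq]
      exact hy (Sum.inr ())
    rw [← h1]
    congr 2
    exact funext fun s => Ideal.Quotient.eq.mpr (hx s)
  have hp := (par_spec b Q h0 hQ).1.eq
  linear_combination -mul_eq_zero_of_mem hI hd hd + hp

end Groth.Agent.Quad37
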