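import Groth.Agent.Quad37.SOScheme
import Groth.Agent.Quad37.RelDim
import Mathlib.LinearAlgebra.FiniteDimensional.Basic
import Mathlib.Data.Sym.Card

/-! Tangent spaces of the special orthogonal group schemes. -/

set_option autoImplicit false

universe u

open CategoryTheory AlgebraicGeometry
open TrivSqZeroExt (inl inr fst snd)

namespace Groth.Agent.Quad37

open Matrix
open scoped TensorProduct

section Dual

variable {K : Type u} [CommRing K] {n : ℕ}

/-- The ideal `(ε)` of the dual numbers. -/
noncomputable def epsI (K : Type u) [CommRing K] : Ideal (DualNumber K) :=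
  RingHom.ker (TrivSqZeroExt.fstHom K K K).toRingHom

theorem mem_epsI {z : DualNumber K} : z ∈ epsI K ↔ fst z = 0 := Iff.rfl

theorem epsI_sq : (epsI K) ^ 2 = ⊥ := by
  rw [pow_two, eq_bot_iff, Ideal.mul_le]
  intro r hr s hs
  rw [Ideal.mem_bot]
  rw [mem_epsI] at hr hs
  apply TrivSqZeroExt.ext <;> simp [hr, hs]

/-- `ε W`. -/
def epsMat (W : Matrix (Fin n) (Fin n) K) : Matrix (Fin n) (Fin n) (DualNumber K) := W.map inr

theorem epsMat_mem (W : Matrix (Fin n) (Fin n) K) (i j : Fin n) : epsMat W i j ∈ epsI K := by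
  rw [mem_epsI]; rfl

theorem inr_eq_smul (k : K) : (inr k : DualNumber K) = inr 1 * inl k := by
  apply TrivSqZeroExt.ext <;> simp

theorem dq_eps (a : Sym2 (Fin n) → K) (W : Matrix (Fin n) (Fin n) K) (s : Sym2 (Fin n)) :
    dq (fun t => (inl (a t) : DualNumber K)) (epsMat W) s = inr (dq a W s) := by
  have h : epsMat W = (inr 1 : DualNumber K) • W.map (TrivSqZeroExt.inlHom K K) := by
    refine Matrix.ext fun i j => ?_
    simp only [epsMat, Matrix.map_apply, Matrix.smul_apply, smul_eq_mul]
    exact inr_eq_smul _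
  rw [h, LinearMap.map_smul, Pi.smul_apply, smul_eq_mul, inr_eq_smul (dq a W s)]
  congr 1
  exact (dq_map (TrivSqZeroExt.inlHom K K) a W s).symm

theorem compCoeffs_eps (a : Sym2 (Fin n) → K) (W : Matrix (Fin n) (Fin n) K) (s : Sym2 (Fin n)) :
    compCoeffs (fun t => (inl (a t) : DualNumber K)) (1 + epsMat W) s = inl (a s) + inr (dq a W s) := by
  rw [compCoeffs_one_add (I := epsI K) (a := fun t => (inl (a t) : DualNumber K)) epsI_sq
    (fun t => by rw [sub_self]; exact zero_mem _) (epsMat_mem W), Pi.add_apply, dq_eps]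

theorem compCoeffs_eps_iff (a : Sym2 (Fin n) → K) (W : Matrix (Fin n) (Fin n) K) :
    compCoeffs (fun t => (inl (a t) : DualNumber K)) (1 + epsMat W) = (fun t => inl (a t)) ↔ dq a W = 0 := by
  constructor
  · intro h
    funext s
    have := congrArg snd (congrFun h s)
    rw [compCoeffs_eps] at this
    simpa using this
  · intro h
    funext s
    rw [compCoeffs_eps, h]
    simp

theorem epsMat_mul (W : Matrix (Fin n) (Fin n) K) (G : Matrix (Fin n) (Fin n) K) :
    epsMat W * G.map (TrivSqZeroExt.inlHom K K) = epsMat (W * G) := by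
  ext i j <;>
    simp [epsMat, Matrix.mul_apply, TrivSqZeroExt.fst_sum, TrivSqZeroExt.snd_sum, mul_comm]

theorem mul_epsMat (W : Matrix (Fin n) (Fin n) K) (G : Matrix (Fin n) (Fin n) K) :
    G.map (TrivSqZeroExt.inlHom K K) * epsMat W = epsMat (G * W) := by
  ext i j <;>
    simp [epsMat, Matrix.mul_apply, TrivSqZeroExt.fst_sum, TrivSqZeroExt.snd_sum, mul_comm]

theorem dq_conj (a : Sym2 (Fin n) → K) {G : Matrix (Fin n) (Fin n) K} (hG : IsUnit G.det)
    (W : Matrix (Fin n) (Fin n) K) : dq a (G * W * G⁻¹) = 0 ↔ dq (compCoeffs a G) W = 0 := by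
  set ι₀ := TrivSqZeroExt.inlHom K K
  have e : (1 : Matrix (Fin n) (Fin n) (DualNumber K)) + epsMat (G * W * G⁻¹) =
      G.map ι₀ * (1 + epsMat W) * G⁻¹.map ι₀ := by
    rw [Matrix.mul_add, Matrix.add_mul, Matrix.mul_one, ← Matrix.map_mul, Matrix.mul_nonsing_inv _ hG,
      Matrix.map_one _ (map_zero _) (map_one _), mul_epsMat, epsMat_mul]
  have hc : (fun t => ι₀ (compCoeffs a G t)) = compCoeffs (fun t => ι₀ (a t)) (G.map ι₀) :=
    funext fun t => compCoeffs_map ι₀ a G t
  rw [← compCoeffs_eps_iff, ← compCoeffs_eps_iff]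
  show compCoeffs (fun t => ι₀ (a t)) _ = (fun t => ι₀ (a t)) ↔
    compCoeffs (fun t => ι₀ (compCoeffs a G t)) _ = (fun t => ι₀ (compCoeffs a G t))
  rw [e, hc, ← compCoeffs_comp, ← compCoeffs_comp]
  constructor
  · intro h
    have h2 := congrArg (fun c => compCoeffs c (G.map ι₀)) h
    rw [compCoeffs_comp, ← Matrix.map_mul, Matrix.nonsing_inv_mul _ hG, Matrix.map_one _ (map_zero _) (map_one _),
      compCoeffs_one] at h2
    exact h2
  · intro h
    rw [h, compCoeffs_comp, ← Matrix.map_mul, Matrix.mul_nonsing_inv _ hG, Matrix.map_one _ (map_zero _) (map_one _),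
      compCoeffs_one]

end Dual

section Field

variable {K : Type u} [Field K] {n : ℕ}

theorem card_sym2_eq (n : ℕ) : Fintype.card (Sym2 (Fin n)) = (n + 1).choose 2 := by
  rw [Sym2.card, Fintype.card_fin]

theorem finrank_ker_dq {a : Sym2 (Fin n) → K} (hP : IsUnit (Pm a).det) :
    Module.finrank K (LinearMap.ker (dq a)) + (n + 1).choose 2 = n * n := by
  have hs : LinearMap.range (dq a) = ⊤ := LinearMap.range_eq_top.mpr fun c => by
    obtain ⟨W, -, hW⟩ := exists_dq_eq (I := ⊤) hP (c := c) fun _ => Submodule.mem_top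
    exact ⟨W, hW⟩
  have h := (dq a).finrank_range_add_finrank_ker
  rw [hs, finrank_top, Module.finrank_pi, card_sym2_eq, Module.finrank_matrix, Fintype.card_fin, Module.finrank_self,
    mul_one] at h
  omega

variable {k : ℕ}

/-- The linearised equations of `SO'`. -/
def dqTr (a : Sym2 (Fin n) → K) : Matrix (Fin n) (Fin n) K →ₗ[K] (Sym2 (Fin n) → K) × K :=
  LinearMap.prod (dq a) (Matrix.traceLinearMap (Fin n) K K)

/-- The linearised equations of `SO'` away from `(0,0)`. -/
def dqTr' (a : Sym2 (Fin (k + 1)) → K) :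
    Matrix (Fin (k + 1)) (Fin (k + 1)) K →ₗ[K] ({s : Sym2 (Fin (k + 1)) // s ≠ s(0, 0)} → K) × K :=
  LinearMap.prod ((LinearMap.funLeft K K Subtype.val).comp (dq a)) (Matrix.traceLinearMap (Fin (k + 1)) K K)

theorem ker_dqTr' {a : Sym2 (Fin (k + 1)) → K} (horth : ∀ j : Fin k, a s(0, j.succ) = 0)
    (hG : IsUnit (minorMat a).det) : LinearMap.ker (dqTr' a) = LinearMap.ker (dqTr a) := by
  ext W
  simp only [LinearMap.mem_ker, dqTr', dqTr, LinearMap.prod_apply, Function.prod, Prod.mk_eq_zero, LinearMap.comp_apply,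
    Matrix.traceLinearMap_apply]
  refine ⟨fun ⟨h, ht⟩ => ⟨funext fun s => ?_, ht⟩, fun ⟨h, ht⟩ => ⟨by rw [h]; rfl, ht⟩⟩
  by_cases hs : s = s(0, 0)
  swap
  · exact congrFun h ⟨s, hs⟩
  subst hs
  let Wr : Matrix (Fin k) (Fin k) K := Matrix.of fun i j => W i.succ j.succ
  set S := minorMat a * Wr with hS
  have hSe : ∀ i j : Fin k, (Pm a * W) i.succ j.succ = S i j := fun i j => by
    rw [Matrix.mul_apply, Fin.sum_univ_succ, Pm_apply, if_neg (Fin.succ_ne_zero i), Sym2.eq_swap, horth, zero_mul,
      zero_add, hS, Matrix.mul_apply]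
    refine Finset.sum_congr rfl fun l _ => ?_
    simp only [Pm_apply, minorMat, Matrix.of_apply, Fin.succ_inj, Wr]
  have hsym : ∀ i j : Fin k, S j i = -S i j := fun i j => by
    have h1 : dq a W s(i.succ, j.succ) = 0 := congrFun h ⟨_, by simp [Fin.succ_ne_zero]⟩
    rw [dq_mk, hSe, hSe, hSe] at h1
    by_cases hij : i = j
    · subst hij; rw [if_pos rfl] at h1; rw [h1, neg_zero]
    · rw [if_neg (fun e => hij (Fin.succ_inj.mp e))] at h1; linear_combination h1
  have hGt : (minorMat a).transpose = minorMat a := by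
    ext i j
    simp only [Matrix.transpose_apply, minorMat, Matrix.of_apply]
    by_cases hij : i = j
    · subst hij; rfl
    · rw [if_neg hij, if_neg (Ne.symm hij), Sym2.eq_swap]
  have hWr : Wr = (minorMat a)⁻¹ * S := by
    rw [hS, ← Matrix.mul_assoc, Matrix.nonsing_inv_mul _ hG, Matrix.one_mul]
  have h2t : 2 * Wr.trace = 0 := by
    have h3 : Wr.trace = -Wr.trace := by
      conv_lhs => rw [hWr, ← Matrix.trace_transpose, Matrix.transpose_mul, Matrix.transpose_nonsing_inv, hGt,
        show S.transpose = -S from Matrix.ext fun i j => hsym i j]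
      rw [Matrix.neg_mul, Matrix.trace_neg, Matrix.trace_mul_comm, ← hWr]
    linear_combination h3
  have ht' : W 0 0 = -Wr.trace := by
    rw [Matrix.trace, Fin.sum_univ_succ] at ht
    simp only [Matrix.diag_apply] at ht
    simp only [Matrix.trace, Matrix.diag_apply, Wr, Matrix.of_apply]
    linear_combination ht
  rw [Pi.zero_apply, dq_mk, if_pos rfl, Matrix.mul_apply, Fin.sum_univ_succ,
    Finset.sum_eq_zero fun l _ => by rw [Pm_apply, if_neg (Fin.succ_ne_zero l).symm, horth, zero_mul],
    add_zero, Pm_apply, if_pos rfl, ht']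
  linear_combination -a s(0, 0) * h2t

theorem range_dqTr' {a : Sym2 (Fin (k + 1)) → K} (horth : ∀ j : Fin k, a s(0, j.succ) = 0)
    (hG : IsUnit (minorMat a).det) : LinearMap.range (dqTr' a) = ⊤ := by
  classical
  refine LinearMap.range_eq_top.mpr fun ⟨c, τ⟩ => ?_
  let c' : Sym2 (Fin (k + 1)) → K := fun s => if h : s ≠ s(0, 0) then c ⟨s, h⟩ else 0
  let L : Matrix (Fin k) (Fin (k + 1)) K := Matrix.of fun i j =>
    if i.succ ≤ j ∨ j = 0 then c' s(i.succ, j) else 0
  let V : Matrix (Fin k) (Fin (k + 1)) K := (minorMat a)⁻¹ * L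
  let W : Matrix (Fin (k + 1)) (Fin (k + 1)) K :=
    Matrix.of fun i j => Fin.cases (if j = 0 then τ - ∑ l : Fin k, V l l.succ else 0) (fun l => V l j) i
  have htr : W.trace = τ := by
    rw [Matrix.trace, Fin.sum_univ_succ]; simp [W]
  have hrow : ∀ (i : Fin k) j, (Pm a * W) i.succ j = L i j := fun i j => by
    rw [Matrix.mul_apply, Fin.sum_univ_succ, Pm_apply, if_neg (Fin.succ_ne_zero i), Sym2.eq_swap, horth, zero_mul,
      zero_add]
    have : ((minorMat a) * V) i j = L i j := by rw [← Matrix.mul_assoc, Matrix.mul_nonsing_inv _ hG, Matrix.one_mul]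
    rw [← this, Matrix.mul_apply]
    refine Finset.sum_congr rfl fun l _ => ?_
    simp only [W, Matrix.of_apply, Fin.cases_succ, Pm_apply, minorMat, Fin.succ_inj]
  have hrow0 : ∀ j : Fin k, (Pm a * W) 0 j.succ = 0 := fun j => by
    rw [Matrix.mul_apply, Fin.sum_univ_succ,
      Finset.sum_eq_zero fun l _ => by rw [Pm_apply, if_neg (Fin.succ_ne_zero l).symm, horth, zero_mul]]
    simp [W, Fin.succ_ne_zero]
  have hdq : ∀ i : Fin k, ∀ j, dq a W s(i.succ, j) = c' s(i.succ, j) := fun i j => by
    rw [dq_mk]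
    refine Fin.cases ?_ (fun j => ?_) j
    · rw [if_neg (Fin.succ_ne_zero i), hrow, hrow0]
      simp [L]
    · rw [hrow, hrow, hrow]
      simp only [L, Matrix.of_apply, Fin.succ_le_succ_iff, Fin.succ_ne_zero, or_false, le_refl, if_true, Fin.succ_inj]
      rcases lt_trichotomy i j with h | h | h
      · rw [if_neg h.ne, if_pos h.le, if_neg (not_le.mpr h), add_zero]
      · subst h; rw [if_pos rfl]
      · rw [if_neg h.ne', if_neg (not_le.mpr h), if_pos h.le, zero_add, Sym2.eq_swap]
  refine ⟨W, Prod.ext (funext fun s => ?_) htr⟩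
  show dq a W s.1 = c s
  have hc : c' s.1 = c s := dif_pos s.2
  rw [← hc]
  rcases s with ⟨s, hs⟩
  induction s using Sym2.ind with
  | h i j =>
    revert hs
    refine Fin.cases ?_ (fun i => ?_) i
    · refine Fin.cases ?_ (fun j => ?_) j
      · exact fun h => absurd rfl h
      · intro _ _
        show dq a W s(0, j.succ) = c' s(0, j.succ)
        rw [show s((0 : Fin (k + 1)), j.succ) = s(j.succ, 0) from Sym2.eq_swap, hdq]
    · intro _ _
      exact hdq i j

theorem finrank_ker_dqTr (hk : Even k) {a : Sym2 (Fin (k + 1)) → K}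
    (hu : IsUnit (MvPolynomial.eval₂ (Int.castRingHom K) a (QuadGrp.halfDiscUniv (k + 1)))) :
    Module.finrank K (LinearMap.ker (dqTr a)) + (k + 2).choose 2 = (k + 1) * (k + 1) := by
  classical
  obtain ⟨b', ho, -, hdet⟩ := exists_orth_basis hk (Pi.basisFun K (Fin (k + 1))) (qf a)
    (by rw [QuadGrp.IsSemiregular, QuadGrp.halfDisc, coeffs_qf]; exact hu)
  set G := (Pi.basisFun K (Fin (k + 1))).toMatrix b' with hGdef
  have hGu : IsUnit G.det := by
    haveI := (Pi.basisFun K (Fin (k + 1))).invertibleToMatrix b'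
    exact Matrix.isUnit_det_of_invertible G
  have hcol : ∀ i, Matrix.toLin' G (Pi.single i 1) = b' i := fun i => by
    funext l; simp [hGdef, Module.Basis.toMatrix_apply, Matrix.mulVec_single_one]
  have hco : compCoeffs a G = QuadGrp.coeffs b' (LinearEquiv.refl K K) (qf a) := by
    funext s
    induction s using Sym2.ind with
    | h i j =>
      simp only [compCoeffs, QuadGrp.coeffs_mk, Pi.basisFun_apply, LinearEquiv.refl_apply]
      split_ifs with h
      · rw [QuadraticMap.comp_apply, hcol]
      · simp only [QuadraticMap.polar, QuadraticMap.comp_apply, map_add, hcol]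
  set a' := compCoeffs a G with ha'
  have horth : ∀ j : Fin k, a' s(0, j.succ) = 0 := fun j => by
    rw [hco, QuadGrp.coeffs_mk, if_neg (Fin.succ_ne_zero j).symm]; exact ho j
  have hG : IsUnit (minorMat a').det := by rw [hco, minorMat_coeffs]; exact hdet
  let cj : Matrix (Fin (k + 1)) (Fin (k + 1)) K ≃ₗ[K] Matrix (Fin (k + 1)) (Fin (k + 1)) K :=
    { toFun := fun W => G * W * G⁻¹
      invFun := fun W => G⁻¹ * W * G
      map_add' := fun W V => by rw [Matrix.mul_add, Matrix.add_mul]
      map_smul' := fun r W => by rw [Matrix.mul_smul, Matrix.smul_mul, RingHom.id_apply]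
      left_inv := fun W => by
        simp only [← Matrix.mul_assoc, Matrix.nonsing_inv_mul _ hGu, Matrix.one_mul]
        rw [Matrix.mul_assoc, Matrix.nonsing_inv_mul _ hGu, Matrix.mul_one]
      right_inv := fun W => by
        simp only [← Matrix.mul_assoc, Matrix.mul_nonsing_inv _ hGu, Matrix.one_mul]
        rw [Matrix.mul_assoc, Matrix.mul_nonsing_inv _ hGu, Matrix.mul_one] }
  have hmap : Submodule.map cj.toLinearMap (LinearMap.ker (dqTr a')) = LinearMap.ker (dqTr a) := by
    ext W
    rw [Submodule.mem_map_equiv]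
    simp only [LinearMap.mem_ker, dqTr, LinearMap.prod_apply, Function.prod, Prod.mk_eq_zero, Matrix.traceLinearMap_apply]
    have h1 := dq_conj a hGu (cj.symm W)
    rw [show G * cj.symm W * G⁻¹ = W from cj.apply_symm_apply W] at h1
    rw [ha', ← h1, show (cj.symm W).trace = W.trace by
      show (G⁻¹ * W * G).trace = W.trace
      rw [Matrix.trace_mul_cycle, Matrix.mul_nonsing_inv _ hGu, Matrix.one_mul]]
  rw [← hmap, LinearEquiv.finrank_map_eq, ← ker_dqTr' horth hG]
  have h := (dqTr' a').finrank_range_add_finrank_ker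
  rw [range_dqTr' horth hG, finrank_top, Module.finrank_prod, Module.finrank_pi, Module.finrank_matrix,
    Fintype.card_fin, Module.finrank_self, mul_one] at h
  have hcard : Fintype.card {s : Sym2 (Fin (k + 1)) // s ≠ s(0, 0)} + 1 = (k + 2).choose 2 := by
    have h1 : Fintype.card {s : Sym2 (Fin (k + 1)) // ¬ s = s(0, 0)} = _ := Fintype.card_subtype_compl _
    rw [Fintype.card_subtype_eq, card_sym2_eq] at h1
    rw [show k + 1 + 1 = k + 2 from rfl] at h1
    have h2 : 1 ≤ (k + 2).choose 2 := Nat.choose_pos (by omega)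
    show Fintype.card {s : Sym2 (Fin (k + 1)) // ¬ s = s(0, 0)} + 1 = _
    omega
  omega

end Field

section Scheme

variable {R : Type u} [CommRing R] {M : Type u} [AddCommGroup M] [Module R M] [Module.Free R M] {n : ℕ}
  (b : Module.Basis (Fin n) R M) (Q : QuadraticForm R M)

/-- The dual number point with first order term `v`. -/
def epsCoord {K : Type u} [CommRing K] (x v : Coord n → K) : Coord n → DualNumber K := fun s => inl (x s) + inr (v s)

variable {K : Type u} [Field K] [Algebra R K] {x : Coord n → K} (hx : orthF b Q K x = 0)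

/-- The tangent vector of an infinitesimal isometry. -/
def tanMap (x : Coord n → K) : Matrix (Fin n) (Fin n) K →ₗ[K] (Coord n → K) where
  toFun W := coordOf (matX x * W) (-(W * matY x))
  map_add' W V := funext fun s => by
    rcases s with p | p <;> simp [coordOf, Matrix.mul_add, Matrix.add_mul] <;> ring
  map_smul' r W := funext fun s => by
    rcases s with p | p <;> simp [coordOf, Matrix.mul_smul, Matrix.smul_mul]

include hx in
theorem tanMap_injective : Function.Injective (tanMap x) := by
  obtain ⟨-, h1, h2⟩ := (orthF_eq_zero_iff b Q K x).mp hx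
  intro W V h
  have hX : matX x * W = matX x * V := Matrix.ext fun i j => congrFun h (Sum.inl (i, j))
  have := congrArg (fun Z => matY x * Z) hX
  simpa [← Matrix.mul_assoc, h2] using this

theorem matX_eps (x : Coord n → K) (v : Coord n → K) :
    matX (epsCoord x v) = (matX x).map (TrivSqZeroExt.inlHom K K) + epsMat (matX v) := rfl

theorem matY_eps (x : Coord n → K) (v : Coord n → K) :
    matY (epsCoord x v) = (matY x).map (TrivSqZeroExt.inlHom K K) + epsMat (matY v) := rfl

theorem cf_dual (s : Sym2 (Fin n)) : cf b Q (DualNumber K) s = inl (cf b Q K s) := by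
  simp [cf, TrivSqZeroExt.algebraMap_eq_inl']

theorem eps_mul_eps (V V' : Matrix (Fin n) (Fin n) K) : epsMat V * epsMat V' = 0 := by
  ext i j <;> simp [epsMat, Matrix.mul_apply, TrivSqZeroExt.fst_sum, TrivSqZeroExt.snd_sum]

include hx in
theorem orthF_eps_iff (v : Coord n → K) :
    orthF b Q (DualNumber K) (epsCoord x v) = 0 ↔ ∃ W, dq (cf b Q K) W = 0 ∧ tanMap x W = v := by
  set ι₀ := TrivSqZeroExt.inlHom K K
  obtain ⟨hc, h1, h2⟩ := (orthF_eq_zero_iff b Q K x).mp hx
  have hιc : compCoeffs (fun t => ι₀ (cf b Q K t)) ((matX x).map ι₀) = fun t => ι₀ (cf b Q K t) := funext fun t => by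
    rw [← compCoeffs_map, hc]
  have hcf : cf b Q (DualNumber K) = fun t => ι₀ (cf b Q K t) := funext fun t => cf_dual b Q t
  have hinv : (matX x).map ι₀ * (matY x).map ι₀ = 1 ∧ (matY x).map ι₀ * (matX x).map ι₀ = 1 := by
    constructor <;> rw [← Matrix.map_mul] <;> [rw [h1]; rw [h2]] <;> exact Matrix.map_one _ (map_zero _) (map_one _)
  constructor
  · intro h
    obtain ⟨g1, g2, -⟩ := (orthF_eq_zero_iff b Q _ _).mp h
    set W := matY x * matX v with hW
    have hXW : matX x * W = matX v := by rw [hW, ← Matrix.mul_assoc, h1, Matrix.one_mul]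
    have hm : matX (epsCoord x v) = (matX x).map ι₀ * (1 + epsMat W) := by
      rw [matX_eps, Matrix.mul_add, Matrix.mul_one, mul_epsMat, hXW]
    refine ⟨W, ?_, ?_⟩
    · rw [hm, hcf, ← compCoeffs_comp, hιc] at g1
      exact (compCoeffs_eps_iff _ W).mp g1
    · rw [matX_eps, matY_eps, Matrix.add_mul, Matrix.mul_add, Matrix.mul_add, hinv.1, mul_epsMat, epsMat_mul,
        eps_mul_eps, add_zero] at g2
      have h3 : matX x * matY v + matX v * matY x = 0 := Matrix.ext fun i j => by
        have := congrArg snd (congrFun₂ g2 i j)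
        rw [Matrix.add_apply, Matrix.add_apply, TrivSqZeroExt.snd_add, TrivSqZeroExt.snd_add] at this
        rw [Matrix.zero_apply, Matrix.add_apply]
        simp only [epsMat, Matrix.map_apply, TrivSqZeroExt.snd_inr, Matrix.one_apply] at this
        split_ifs at this <;> simpa using this
      have h4 : matY v = -(W * matY x) := by
        have := congrArg (fun Z => matY x * Z) h3
        simp only [Matrix.mul_add, ← Matrix.mul_assoc, h2, Matrix.one_mul, Matrix.mul_zero] at this
        rw [eq_neg_iff_add_eq_zero, hW]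
        exact this
      funext s
      rcases s with p | p
      · exact congrFun₂ hXW p.1 p.2
      · exact (congrFun₂ h4 p.1 p.2).symm
  · rintro ⟨W, hd, rfl⟩
    have hv : matX (tanMap x W) = matX x * W := rfl
    have hv' : matY (tanMap x W) = -(W * matY x) := rfl
    rw [orthF_eq_zero_iff, matX_eps, matY_eps, hv, hv']
    have e1 : (matX x).map ι₀ + epsMat (matX x * W) = (matX x).map ι₀ * (1 + epsMat W) := by
      rw [Matrix.mul_add, Matrix.mul_one, mul_epsMat]
    have eneg : ∀ V : Matrix (Fin n) (Fin n) K, epsMat (-V) = -epsMat V := fun V => by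
      ext i j <;> simp [epsMat]
    have e2 : (matY x).map ι₀ + epsMat (-(W * matY x)) = (1 - epsMat W) * (matY x).map ι₀ := by
      rw [Matrix.sub_mul, Matrix.one_mul, epsMat_mul, eneg, sub_eq_add_neg]
    rw [e1, e2]
    refine ⟨?_, ?_, ?_⟩
    · rw [hcf, ← compCoeffs_comp, hιc]
      exact (compCoeffs_eps_iff _ W).mpr hd
    · rw [Matrix.mul_assoc, ← Matrix.mul_assoc (1 + epsMat W), Matrix.mul_sub, Matrix.mul_one, Matrix.add_mul,
        Matrix.one_mul, eps_mul_eps, add_zero, add_sub_cancel_right, Matrix.one_mul, hinv.1]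
    · rw [Matrix.mul_assoc, ← Matrix.mul_assoc ((matY x).map ι₀), hinv.2, Matrix.one_mul, Matrix.sub_mul,
        Matrix.one_mul, Matrix.mul_add, Matrix.mul_one, eps_mul_eps, add_zero, add_sub_cancel_right]

end Scheme

end Groth.Agent.Quad37
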