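import Groth.Agent.Quad37.Conj
import Groth.Agent.Quad37.Planes

set_option autoImplicit false

universe u v

namespace Groth.Agent.Quad37

open CliffordAlgebra

variable {R : Type u} [CommRing R] {M : Type v} [AddCommGroup M] [Module R M] {Q : QuadraticForm R M}

/-- In rank three an odd element with no top coefficient is a vector. -/
theorem mem_range_ι_of_rank_three (b : Module.Basis (Fin 3) R M) {x : CliffordAlgebra Q} (hx : x ∈ evenOdd Q 1)
    (ht : top Q b x = 0) : x ∈ LinearMap.range (ι Q) := by
  classical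
  set c := (cbasis Q b).repr x
  have hpar : ∀ T : Finset (Fin 3), mono Q b (setList T) ∈ evenOdd Q ((setList T).length : ZMod 2) := fun T => by
    have := vecProd_mem (Q := Q) ((setList T).map b)
    rwa [vecProd, List.map_map, List.length_map] at this
  have hlen : ∀ T : Finset (Fin 3), (setList T).length = T.card := fun T => by
    rw [← List.toFinset_card_of_nodup (setList_nodup T)]
    congr 1
    ext a; simp [mem_setList]
  set X := ∑ T ∈ Finset.univ.filter (fun T : Finset (Fin 3) => T.card % 2 = 1), c T • mono Q b (setList T)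
  have hX : x = X := by
    have hall : X + ∑ T ∈ Finset.univ.filter (fun T : Finset (Fin 3) => ¬ T.card % 2 = 1), c T • mono Q b (setList T) = x := by
      rw [Finset.sum_filter_add_sum_filter_not]
      simpa using (cbasis Q b).sum_repr x
    have hXodd : X ∈ evenOdd Q 1 := Submodule.sum_mem _ fun T hT => Submodule.smul_mem _ _ (by
      have := hpar T
      rwa [hlen, (ZMod.natCast_eq_one_iff_odd).mpr (Nat.odd_iff.mpr (Finset.mem_filter.mp hT).2)] at this)
    have hY : ∑ T ∈ Finset.univ.filter (fun T : Finset (Fin 3) => ¬ T.card % 2 = 1), c T • mono Q b (setList T) ∈ evenOdd Q 0 :=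
      Submodule.sum_mem _ fun T hT => Submodule.smul_mem _ _ (by
        have := hpar T
        rwa [hlen, (ZMod.natCast_eq_zero_iff_even).mpr (Nat.not_odd_iff_even.mp fun h =>
          (Finset.mem_filter.mp hT).2 (Nat.odd_iff.mp h))] at this)
    have h0 : (X - x) + ∑ T ∈ Finset.univ.filter (fun T : Finset (Fin 3) => ¬ T.card % 2 = 1), c T • mono Q b (setList T) = 0 := by
      rw [sub_add_eq_add_sub, hall, sub_self]
    have := (parts_zero hY (sub_mem hXodd hx) (by rw [add_comm]; exact h0)).2
    exact (sub_eq_zero.mp this).symm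
  have hone : ∀ T : Finset (Fin 3), T.card = 1 → mono Q b (setList T) ∈ LinearMap.range (ι Q) := fun T hT => by
    rw [← hlen] at hT
    obtain ⟨a, ha⟩ := List.length_eq_one_iff.mp hT
    rw [ha, mono_cons, mono_nil, mul_one]
    exact ⟨_, rfl⟩
  have huniv : ∀ T : Finset (Fin 3), T.card % 2 = 1 → T.card ≠ 1 → T = Finset.univ := by decide
  have hc : c Finset.univ = 0 := by
    rw [hX, map_sum, Finset.sum_eq_single Finset.univ] at ht
    · rw [map_smul, show setList (Finset.univ : Finset (Fin 3)) = List.finRange 3 by simp [setList], top_mono_univ,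
        smul_eq_mul, mul_one] at ht
      exact ht
    · intro T hT hne
      have h1 : T.card = 1 := by
        by_contra h
        exact hne (huniv T (Finset.mem_filter.mp hT).2 h)
      obtain ⟨v, hv⟩ := hone T h1
      rw [map_smul, ← hv, top_degLE Q b (k := 1) (by simpa using prod_mem_degLE Q [v]) (by norm_num), smul_zero]
    · intro h; simp at h
  rw [hX]
  refine Submodule.sum_mem _ fun T hT => ?_
  by_cases h1 : T.card = 1
  · exact Submodule.smul_mem _ _ (hone T h1)
  · rw [huniv T (Finset.mem_filter.mp hT).2 h1, hc, zero_smul]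
    exact zero_mem _

theorem evenUnits_le_GPin'_rank_three (b : Module.Basis (Fin 3) R M) : QuadGrp.evenUnits Q ≤ QuadGrp.GPin' Q := by
  intro u hu
  have hu' : (↑u⁻¹ : CliffordAlgebra Q) ∈ evenOdd Q 0 := (QuadGrp.mem_evenUnits Q _).mp (inv_mem hu)
  rw [QuadGrp.mem_evenUnits] at hu
  have key : ∀ (w : (CliffordAlgebra Q)ˣ), (w : CliffordAlgebra Q) ∈ evenOdd Q 0 →
      (↑w⁻¹ : CliffordAlgebra Q) ∈ evenOdd Q 0 → ∀ v, (w : CliffordAlgebra Q) * ι Q v * ↑w⁻¹ ∈ LinearMap.range (ι Q) := by
    intro w hw hw' v
    refine mem_range_ι_of_rank_three b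
      (mul_mem_parity (mul_mem_parity hw (ι_mem_evenOdd_one Q v) (zero_add _)) hw' (add_zero _)) ?_
    rw [mul_assoc, top_mul_of_even Q b hw, mul_assoc, Units.inv_mul, mul_one,
      top_degLE Q b (k := 1) (by simpa using prod_mem_degLE Q [v]) (by norm_num)]
  rw [QuadGrp.mem_GPin']
  ext x
  rw [smul_range_eq]
  constructor
  · rintro ⟨v, rfl⟩
    exact key u hu hu' v
  · rintro ⟨v, rfl⟩
    obtain ⟨w, hw⟩ := key u⁻¹ hu' (by rwa [inv_inv]) v
    rw [inv_inv] at hw
    exact ⟨w, by rw [hw]; simp [mul_assoc]⟩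

end Groth.Agent.Quad37
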