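import Groth.Agent.Quad37.OrthParity

/-! The split form in even rank: regularity, and `SO'` is not flat over `ℤ`. -/

set_option autoImplicit false

universe u

open CategoryTheory AlgebraicGeometry

namespace Groth.Agent.Quad37

open CliffordAlgebra
open scoped TensorProduct

/-- The even split form as a sum over pairs. -/
theorem splitForm_even_apply (S : Type u) [CommRing S] (m : ℕ) (x : Fin (2 * m) → S) :
    QuadGrp.splitForm S (2 * m) x =
      ∑ k : Fin m, x ⟨2 * k.val, by omega⟩ * x ⟨2 * k.val + 1, by omega⟩ := by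
  have hm : 2 * m / 2 = m := by omega
  rw [QuadGrp.splitForm, dif_neg (by omega : ¬ 2 * m % 2 = 1), add_zero, QuadraticMap.sum_apply]
  refine Fintype.sum_equiv (finCongr hm) _ _ fun k => ?_
  simp [QuadraticMap.linMulLin_apply]

theorem polar_splitForm_even (S : Type u) [CommRing S] (m : ℕ) (x y : Fin (2 * m) → S) :
    QuadraticMap.polar (QuadGrp.splitForm S (2 * m)) x y =
      ∑ k : Fin m, (x ⟨2 * k.val, by omega⟩ * y ⟨2 * k.val + 1, by omega⟩ +
        y ⟨2 * k.val, by omega⟩ * x ⟨2 * k.val + 1, by omega⟩) := by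
  simp only [QuadraticMap.polar, splitForm_even_apply, Pi.add_apply, ← Finset.sum_sub_distrib]
  exact Finset.sum_congr rfl fun k _ => by ring

/-- The partner of an index in the split form. -/
def mate {m : ℕ} (j : Fin (2 * m)) : Fin (2 * m) :=
  if h : j.val % 2 = 0 then ⟨j.val + 1, by omega⟩ else ⟨j.val - 1, by omega⟩

theorem polar_splitForm_single (S : Type u) [CommRing S] {m : ℕ} (x : Fin (2 * m) → S) (j : Fin (2 * m)) :
    QuadraticMap.polar (QuadGrp.splitForm S (2 * m)) x (Pi.single j 1) = x (mate j) := by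
  classical
  rw [polar_splitForm_even]
  rw [Finset.sum_eq_single (⟨j.val / 2, by omega⟩ : Fin m)]
  · by_cases h : j.val % 2 = 0
    · have e0 : (⟨2 * (j.val / 2), by omega⟩ : Fin (2 * m)) = j := Fin.ext (show 2 * (j.val / 2) = j.val by omega)
      have e1 : (⟨2 * (j.val / 2) + 1, by omega⟩ : Fin (2 * m)) = mate j := Fin.ext (by simp [mate, h]; omega)
      simp only [e0, e1, Pi.single_eq_same, Pi.single_apply]
      rw [if_neg (by intro hh; have := congrArg Fin.val hh; simp [mate, h] at this), mul_zero, zero_add, one_mul]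
    · have e1 : (⟨2 * (j.val / 2) + 1, by omega⟩ : Fin (2 * m)) = j := Fin.ext (show 2 * (j.val / 2) + 1 = j.val by omega)
      have e0 : (⟨2 * (j.val / 2), by omega⟩ : Fin (2 * m)) = mate j := Fin.ext (by simp [mate, h]; omega)
      simp only [e0, e1, Pi.single_eq_same, Pi.single_apply]
      rw [if_neg (by intro hh; have := congrArg Fin.val hh; simp [mate, h] at this; omega), mul_one, zero_mul, add_zero]
  · intro k _ hk
    have hk' : k.val ≠ j.val / 2 := fun hh => hk (Fin.ext hh)
    simp only [Pi.single_apply]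
    rw [if_neg (by intro hh; have h2 : 2 * k.val + 1 = j.val := congrArg Fin.val hh; omega),
      if_neg (by intro hh; have h2 : 2 * k.val = j.val := congrArg Fin.val hh; omega), mul_zero, zero_mul, add_zero]
  · exact fun h => absurd (Finset.mem_univ _) h

theorem mate_mate {m : ℕ} (j : Fin (2 * m)) : mate (mate j) = j := by
  by_cases h : j.val % 2 = 0
  · have : mate j = ⟨j.val + 1, by omega⟩ := by simp [mate, h]
    rw [this, mate, dif_neg (show ¬ (j.val + 1) % 2 = 0 by omega)]
    exact Fin.ext (show j.val + 1 - 1 = j.val by omega)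
  · have : mate j = ⟨j.val - 1, by omega⟩ := by simp [mate, h]
    rw [this, mate, dif_pos (show (j.val - 1) % 2 = 0 by omega)]
    exact Fin.ext (show j.val - 1 + 1 = j.val by omega)

theorem isRegular_splitForm_even (S : Type u) [CommRing S] (m : ℕ) :
    QuadGrp.IsRegular (QuadGrp.splitForm S (2 * m)) := by
  refine ⟨fun x y h => funext fun j => ?_, fun φ => ⟨fun j => φ (Pi.single (mate j) 1), ?_⟩⟩
  · have h1 := LinearMap.congr_fun h (Pi.single (mate j) 1)
    simp only [QuadraticMap.polarBilin_apply_apply, polar_splitForm_single, mate_mate] at h1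
    exact h1
  · refine (Pi.basisFun S (Fin (2 * m))).ext fun j => ?_
    rw [Pi.basisFun_apply, QuadraticMap.polarBilin_apply_apply, polar_splitForm_single, mate_mate]

theorem not_flat_sorth' {R : Type u} [CommRing R] [IsDomain R] (h2 : (2 : R) ≠ 0)
    {M : Type u} [AddCommGroup M] [Module R M] [Module.Free R M] {n : ℕ}
    (b : Module.Basis (Fin n) R M) (Q : QuadraticForm R M) {G : Over (Spec (CommRingCat.of R))} [GrpObj G]
    (D : QuadGrp.SOrth'Rep Q G) (hQ : QuadGrp.IsRegular Q) (hn : Even n)
    (T : Type u) [CommRing T] [Algebra R T] [Nontrivial T] (hT : (2 : T) = 0) (v : M) (hv : Q v = 1) :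
    ¬ Flat G.hom := by
  intro hf
  have hflat : Module.Flat R (sRing b Q D) :=
    (flat_iff (sorthPresentation b Q D).toHom (sorthPresentation b Q D).toHom_nat).mp hf
  set q := QuadGrp.baseChangeForm T Q
  set w : T ⊗[R] M := 1 ⊗ₜ[R] v
  have hw : q w = ((1 : Tˣ) : T) := by
    rw [baseChangeForm_tmul, hv, map_one, one_mul, mul_one, Units.val_one]
  let x : Coord n → T := (orthEquiv b Q T ⟨refl q w 1 hw, (mem_orth_iff Q _).mpr (refl_mem w 1 hw)⟩).1
  have hx : orthF b Q T x = 0 := (orthEquiv b Q T _).2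
  have hg : pAut b Q T x hx = refl q w 1 hw :=
    congrArg Subtype.val ((orthEquiv b Q T).symm_apply_apply ⟨refl q w 1 hw, (mem_orth_iff Q _).mpr (refl_mem w 1 hw)⟩)
  have hp : par b Q hx hQ = 0 := by
    have hsp := par_spec b Q hx hQ
    rw [hg] at hsp
    have h := hsp.odd_fix (ι_mem_Tw_refl w 1 hw) (ι_mem_evenOdd_one _ _)
    refine smul_one_eq_zero (Q := q) (Algebra.TensorProduct.basis T b) ?_
    have h1 : ι q w * ι q w = 1 := by rw [ι_sq_scalar, hw, Units.val_one, map_one]
    rw [← h1, ← smul_mul_assoc, h, zero_mul]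
  have hd : (Quad37.matX x).det = 1 := by
    rw [det_matX b Q hx hQ hn, hp]
    linear_combination -hT
  let P := sorthPresentation b Q D
  let h : sRing b Q D →ₐ[R] T := P.homEquiv T ⟨x, (sorthF_eq_zero_iff b Q T x).mpr ⟨hx, hd⟩⟩
  have hh : h ∘ uPt b Q D = x :=
    congrArg Subtype.val ((P.homEquiv T).symm_apply_apply ⟨x, (sorthF_eq_zero_iff b Q T x).mpr ⟨hx, hd⟩⟩)
  have h0 : h (sPar b Q D hQ) = 0 := by
    rw [sPar, ← par_natural b Q (uPt_orthF b Q D) hQ h (orthF_comp b Q h (uPt_orthF b Q D))]
    simp only [hh]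
    exact hp
  have hz : (2 : R) • (1 - sPar b Q D hQ) = 0 := by
    refine (Algebra.smul_def (2 : R) (1 - sPar b Q D hQ)).trans ?_
    rw [map_ofNat, two_mul_one_sub_sPar b Q D hQ hn]
  haveI : Module.IsTorsionFree R (sRing b Q D) := inferInstance
  have h1 : (1 : sRing b Q D) - sPar b Q D hQ = 0 := (smul_eq_zero.mp hz).resolve_left h2
  have h2' := congrArg h h1
  rw [map_sub, map_one, h0, sub_zero, map_zero] at h2'
  exact one_ne_zero h2'

end Groth.Agent.Quad37
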